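import Cfsg.Prelude.Def_Solvable
import Mathlib

/-!
A criterion for `O_{p'}` of the centraliser of an automorphism of order `p` in a group of automorphisms.
-/

set_option autoImplicit false

namespace CfsgLib.LocalBal

variable {K : Type*} [Group K]

/-- The fixed points of an automorphism. -/
abbrev Fix (x : MulAut K) : Subgroup K := MonoidHom.eqLocus x.toMonoidHom (MonoidHom.id K)

theorem mem_Fix {x : MulAut K} {k : K} : k ∈ Fix x ↔ x k = k := Iff.rfl

theorem mul_conj_eq (α : MulAut K) (k : K) : α * MulAut.conj k = MulAut.conj (α k) * α := by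
  ext z
  simp

theorem eq_one_of_mem_zpowers {G : Type*} [Group G] {p : ℕ} {x y : G} (hord : orderOf x = p)
    (hy : y ∈ Subgroup.zpowers x) (hc : (orderOf y).Coprime p) : y = 1 := by
  have h : orderOf y ∣ p := by
    obtain ⟨i, rfl⟩ := hy
    refine orderOf_dvd_of_pow_eq_one ?_
    rw [← zpow_natCast, ← zpow_mul, mul_comm, zpow_mul, zpow_natCast, ← hord, pow_orderOf_eq_one, one_zpow]
  exact orderOf_eq_one_iff.mp (Nat.eq_one_of_dvd_coprimes hc dvd_rfl h)

/-- If the fixed points contain a normal subgroup `S` without normal `p'`-subgroups whose pointwise stabiliser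
in `MulAut K` is `⟨x⟩`, then `O_{p'}(C_A(x))` is nontrivial exactly when the fixed points have order prime
to `p`. -/
theorem criterion {p : ℕ} [Fact p.Prime] (hinj : Function.Injective (MulAut.conj : K →* MulAut K))
    (A : Subgroup (MulAut K)) (hinn : ∀ k : K, MulAut.conj k ∈ A) (x : MulAut K) (hord : orderOf x = p)
    (S : Subgroup K) (hSle : S ≤ Fix x) (hne : Fix x ≠ ⊥)
    (hSn : ∀ k ∈ Fix x, ∀ s ∈ S, k * s * k⁻¹ ∈ S)
    (hS : p ∣ Nat.card (Fix x) → ∀ N : Subgroup S, N.Normal → (Nat.card N).Coprime p → N = ⊥)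
    (hfix : ∀ y : MulAut K, y * x = x * y → (∀ s ∈ S, y s = s) → y ∈ Subgroup.zpowers x) :
    Cfsg.pPrimeCore p ↥(A ⊓ Subgroup.centralizer {x}) ≠ ⊥ ↔ Nat.Coprime p (Nat.card (Fix x)) := by
  classical
  have hcomm : ∀ k ∈ Fix x, MulAut.conj k * x = x * MulAut.conj k := fun k hk => by
    rw [mul_conj_eq, mem_Fix.mp hk]
  set C := A ⊓ Subgroup.centralizer {x}
  let ι : ↥(Fix x) →* ↥C :=
    { toFun := fun k => ⟨MulAut.conj (k : K), hinn _,
        Subgroup.mem_centralizer_singleton_iff.mpr (hcomm _ k.2)⟩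
      map_one' := Subtype.ext (map_one _)
      map_mul' := fun a b => Subtype.ext (map_mul _ _ _) }
  have hι : Function.Injective ι := fun a b h => Subtype.ext (hinj (congrArg Subtype.val h))
  have hαfix : ∀ (α : ↥C), ∀ k ∈ Fix x, (α : MulAut K) k ∈ Fix x := fun α k hk => by
    rw [mem_Fix]
    have h := MulEquiv.congr_fun (Subgroup.mem_centralizer_singleton_iff.mp α.2.2) k
    rw [MulAut.mul_apply, MulAut.mul_apply, mem_Fix.mp hk] at h
    exact h.symm
  have hιn : ι.range.Normal := ⟨by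
    rintro _ ⟨k, rfl⟩ α
    refine ⟨⟨(α : MulAut K) k, hαfix α k k.2⟩, Subtype.ext ?_⟩
    show MulAut.conj ((α : MulAut K) k) = (α : MulAut K) * MulAut.conj (k : K) * (α : MulAut K)⁻¹
    rw [mul_conj_eq, mul_inv_cancel_right]⟩
  rw [iff_comm]
  constructor
  · intro hc hbot
    have hle : ι.range ≤ Cfsg.pPrimeCore p ↥C := le_sSup ⟨hιn, by
      rw [← Nat.card_congr (MonoidHom.ofInjective hι).toEquiv]
      exact hc.symm⟩
    rw [hbot] at hle
    refine hne (eq_bot_iff.mpr fun k hk => ?_)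
    have h1 : ι ⟨k, hk⟩ = 1 := hle ⟨_, rfl⟩
    rw [← map_one ι] at h1
    exact congrArg Subtype.val (hι h1)
  · intro hcore
    by_contra hc
    have hdvd : p ∣ Nat.card (Fix x) := ((Nat.Prime.coprime_iff_not_dvd Fact.out).not_left).mp hc
    refine hcore (eq_bot_iff.mpr (sSup_le ?_))
    rintro N ⟨hN, hNc⟩ y hy
    have horder : ∀ (w : ↥C), w ∈ N → (orderOf (w : MulAut K)).Coprime p := fun w hw => by
      rw [Subgroup.orderOf_coe, ← Subgroup.orderOf_mk w hw]
      exact Nat.Coprime.coprime_dvd_left (orderOf_dvd_natCard _) hNc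
    -- normal `p'`-subgroups of the fixed points are trivial
    have hM : ∀ m : ↥(Fix x), ι m ∈ N → m = 1 := by
      intro m hm
      have hMn : (N.comap ι).Normal := hN.comap ι
      let e : ↥S →* ↥(Fix x) := Subgroup.inclusion hSle
      have he : Function.Injective e := Subgroup.inclusion_injective hSle
      have hP : ((N.comap ι).comap e) = ⊥ := hS hdvd _ (hMn.comap e) (by
        refine Nat.Coprime.coprime_dvd_left ?_ hNc
        exact ((Subgroup.card_comap_dvd_of_injective _ e he).trans (Subgroup.card_comap_dvd_of_injective _ ι hι)))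
      have hcm : ∀ s ∈ S, (m : K) * s * (m : K)⁻¹ = s := fun s hs => by
        have hs' : (m : K) * s * (m : K)⁻¹ * s⁻¹ ∈ S := mul_mem (hSn _ m.2 s hs) (inv_mem hs)
        have h1 : (⟨_, hs'⟩ : ↥S) ∈ (N.comap ι).comap e := by
          have h2 : e ⟨_, hs'⟩ = m * ((⟨s, hSle hs⟩ : ↥(Fix x)) * m⁻¹ * (⟨s, hSle hs⟩ : ↥(Fix x))⁻¹) :=
            Subtype.ext (by simp [e, mul_assoc])
          rw [Subgroup.mem_comap, h2]
          exact mul_mem hm (hMn.conj_mem _ (inv_mem (show m ∈ N.comap ι from hm)) _)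
        rw [hP, Subgroup.mem_bot] at h1
        exact mul_inv_eq_one.mp (congrArg Subtype.val h1)
      have h3 := hfix (MulAut.conj (m : K)) (hcomm _ m.2) (fun s hs => hcm s hs)
      have h4 := eq_one_of_mem_zpowers hord h3 (horder (ι m) hm)
      rw [← map_one MulAut.conj] at h4
      exact Subtype.ext (hinj h4)
    have hyfix : ∀ s ∈ S, (y : MulAut K) s = s := fun s hs => by
      have hk := hSle hs
      have h2 : ι ⟨(y : MulAut K) s * s⁻¹, mul_mem (hαfix y s hk) (inv_mem hk)⟩ =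
          y * (ι ⟨s, hk⟩ * y⁻¹ * (ι ⟨s, hk⟩)⁻¹) := Subtype.ext (by
        show MulAut.conj ((y : MulAut K) s * s⁻¹) =
          (y : MulAut K) * (MulAut.conj s * (y : MulAut K)⁻¹ * (MulAut.conj s)⁻¹)
        rw [map_mul, map_inv, ← mul_assoc, ← mul_assoc, mul_conj_eq, mul_inv_cancel_right])
      have h3 := hM ⟨(y : MulAut K) s * s⁻¹, mul_mem (hαfix y s hk) (inv_mem hk)⟩
        (by rw [h2]; exact mul_mem hy (hN.conj_mem _ (inv_mem hy) _))
      exact mul_inv_eq_one.mp (congrArg Subtype.val h3)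
    exact Subgroup.mem_bot.mpr (Subtype.ext (eq_one_of_mem_zpowers hord
      (hfix y (Subgroup.mem_centralizer_singleton_iff.mp y.2.2) hyfix) (horder y hy)))

/-- The same criterion with the hypotheses read at a conjugate of `x`. -/
theorem criterion_conj {p : ℕ} [Fact p.Prime] (hinj : Function.Injective (MulAut.conj : K →* MulAut K))
    (A : Subgroup (MulAut K)) (hinn : ∀ k : K, MulAut.conj k ∈ A) (k φ x : MulAut K) (hx : x = k * φ * k⁻¹)
    (hord : orderOf x = p) (S : Subgroup K) (hSle : S ≤ Fix φ)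
    (hne : Fix φ ≠ ⊥) (hSn : ∀ z ∈ Fix φ, ∀ s ∈ S, z * s * z⁻¹ ∈ S)
    (hS : p ∣ Nat.card (Fix φ) → ∀ N : Subgroup S, N.Normal → (Nat.card N).Coprime p → N = ⊥)
    (hfix : ∀ y : MulAut K, y * φ = φ * y → (∀ s ∈ S, y s = s) → y ∈ Subgroup.zpowers φ) :
    Cfsg.pPrimeCore p ↥(A ⊓ Subgroup.centralizer {x}) ≠ ⊥ ↔ Nat.Coprime p (Nat.card (Fix x)) := by
  subst hx
  have hF : Fix (k * φ * k⁻¹) = (Fix φ).map k.toMonoidHom := by
    ext z
    constructor
    · intro hz
      refine ⟨k⁻¹ z, ?_, by simp⟩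
      rw [SetLike.mem_coe, mem_Fix]
      apply k.injective
      simpa using mem_Fix.mp hz
    · rintro ⟨w, hw, rfl⟩
      rw [mem_Fix]
      simp [mem_Fix.mp hw]
  let eS : ↥S ≃* ↥(S.map k.toMonoidHom) := k.subgroupMap S
  refine criterion hinj A hinn _ hord (S.map k.toMonoidHom) (hF ▸ Subgroup.map_mono hSle)
    (fun h => hne (Subgroup.map_eq_bot_iff_of_injective _ k.injective |>.mp (hF ▸ h))) ?_ ?_ ?_
  · intro z hz
    rw [hF] at hz
    obtain ⟨w, hw, rfl⟩ := hz
    rintro _ ⟨s, hs, rfl⟩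
    exact ⟨w * s * w⁻¹, hSn w hw s hs, by simp⟩
  · intro hd N hN hNc
    have hd' : p ∣ Nat.card (Fix φ) := by
      rwa [hF, Subgroup.card_map_of_injective k.injective] at hd
    have := hS hd' (N.comap eS.toMonoidHom) (hN.comap _)
      (Nat.Coprime.coprime_dvd_left (Subgroup.card_comap_dvd_of_injective _ _ eS.injective) hNc)
    exact Subgroup.comap_injective eS.surjective (this.trans
      ((MonoidHom.comap_bot _).trans (eS.toMonoidHom.ker_eq_bot_iff.mpr eS.injective)).symm)
  · intro y hy hys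
    have h1 : k⁻¹ * y * k ∈ Subgroup.zpowers φ := by
      refine hfix _ ?_ fun s hs => ?_
      · have hmul : k⁻¹ * y * k * φ = k⁻¹ * (y * (k * φ * k⁻¹)) * k := by group
        rw [hmul, hy]
        group
      · show k⁻¹ (y (k s)) = s
        rw [hys (k s) ⟨s, hs, rfl⟩]
        simp
    obtain ⟨i, hi⟩ := h1
    refine ⟨i, ?_⟩
    show (k * φ * k⁻¹) ^ i = y
    rw [conj_zpow, show φ ^ i = k⁻¹ * y * k from hi]
    group

end CfsgLib.LocalBal
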