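import Cfsg.Agent.AutPSL.FieldClasses

/-!
Field automorphisms fixing the fixed field of another, and normal subgroups of `S_6`.
-/

set_option autoImplicit false

namespace CfsgLib.LocalBal

open CfsgLib.AutPSL

theorem mem_zpowers_of_fix {F : Type*} [Field F] [Finite F] {σ ρ : RingAut F}
    (h : ∀ c ∈ fixField σ, ρ c = c) : ρ ∈ Subgroup.zpowers σ := by
  cases nonempty_fintype F
  obtain ⟨p, hp⟩ := CharP.exists F
  obtain ⟨k, hpp, hk⟩ := FiniteField.card F p
  have := Fact.mk hpp
  have : Finite (RingAut F) := Finite.of_injective (fun τ : RingAut F => (τ : F → F)) DFunLike.coe_injective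
  obtain ⟨eA⟩ := nonempty_ringAut_equiv (p := p) k.2 hk
  have : IsCyclic (RingAut F) := isCyclic_of_surjective eA.symm.toMonoidHom eA.symm.surjective
  let H := Subgroup.closure ({σ, ρ} : Set (RingAut F))
  obtain ⟨τ, hτ⟩ := (Subgroup.isCyclic_iff_exists_zpowers_eq_top (H := H)).mp inferInstance
  have hστ : σ ∈ Subgroup.zpowers τ := hτ ▸ Subgroup.subset_closure (by simp)
  have hρτ : ρ ∈ Subgroup.zpowers τ := hτ ▸ Subgroup.subset_closure (by simp)
  have hle : fixField σ ≤ fixField τ := by
    intro c hc
    have hsub : H ≤ MulAction.stabilizer (RingAut F) c :=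
      (Subgroup.closure_le _).mpr fun g hg => by
        rcases hg with rfl | rfl
        · exact (mem_fixField _).mp hc
        · exact h c hc
    exact (mem_fixField τ).mpr (hsub (hτ ▸ Subgroup.mem_zpowers τ))
  have h1 := card_fixField_pow σ (r := orderOf σ) rfl
  have h2 := card_fixField_pow τ (r := orderOf τ) rfl
  have hdvd : orderOf σ ∣ orderOf τ := by
    obtain ⟨i, rfl⟩ := hστ
    exact orderOf_dvd_of_pow_eq_one (by
      rw [← zpow_natCast, ← zpow_mul, mul_comm, zpow_mul, zpow_natCast, pow_orderOf_eq_one, one_zpow])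
  have hsub : fixField τ ≤ fixField σ := fun c hc => by
    rw [mem_fixField]
    have : σ ∈ MulAction.stabilizer (RingAut F) c :=
      (Subgroup.zpowers_le (H := MulAction.stabilizer (RingAut F) c)).mpr ((mem_fixField τ).mp hc) hστ
    exact this
  rw [le_antisymm hle hsub, ← h2] at h1
  have hord : orderOf σ = orderOf τ :=
    Nat.pow_right_injective (Finite.one_lt_card (α := fixField τ)) h1
  have heq : Subgroup.zpowers σ = Subgroup.zpowers τ :=
    Subgroup.eq_of_le_of_card_ge (Subgroup.zpowers_le.mpr hστ) (by rw [Nat.card_zpowers, Nat.card_zpowers, hord])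
  exact heq ▸ hρτ

/-- `S_n` has no nontrivial normal subgroup of order prime to a prime `p` with `3 ≤ p ≤ n`. -/
theorem perm_normal_bot {α : Type*} [Fintype α] [DecidableEq α] (h5 : 5 ≤ Nat.card α) {p : ℕ} (hp : p.Prime)
    (hpo : p ≠ 2) (hd : p ∣ Nat.card (Equiv.Perm α)) (N : Subgroup (Equiv.Perm α)) (hN : N.Normal)
    (hc : (Nat.card N).Coprime p) : N = ⊥ := by
  have : Nontrivial α := (Finite.one_lt_card_iff_nontrivial).mp (by omega)
  have := hN.subgroupOf (alternatingGroup α)
  rcases alternatingGroup.normal_subgroup_eq_bot_or_eq_top h5 (N := N.subgroupOf (alternatingGroup α)) with h | h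
  · rw [eq_bot_iff]
    intro n hn
    have hcomm : ∀ a ∈ alternatingGroup α, n * a = a * n := fun a ha => by
      have hmem : n * a * n⁻¹ * a⁻¹ ∈ alternatingGroup α := by
        simp only [Equiv.Perm.mem_alternatingGroup, map_mul, map_inv] at ha ⊢
        rw [ha]; simp
      have h1 : (⟨_, hmem⟩ : alternatingGroup α) ∈ N.subgroupOf (alternatingGroup α) := by
        rw [Subgroup.mem_subgroupOf]
        show n * a * n⁻¹ * a⁻¹ ∈ N
        rw [mul_assoc, mul_assoc, ← mul_assoc a]
        exact mul_mem hn (hN.conj_mem _ (inv_mem hn) a)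
      rw [h, Subgroup.mem_bot] at h1
      exact mul_inv_eq_iff_eq_mul.mp (mul_inv_eq_one.mp (congrArg Subtype.val h1))
    rw [Subgroup.mem_bot]
    by_contra hn1
    have hodd : n ∉ alternatingGroup α := fun hm => hn1 (by
      have h1 : (⟨n, hm⟩ : alternatingGroup α) ∈ N.subgroupOf (alternatingGroup α) := hn
      rw [h, Subgroup.mem_bot] at h1
      exact congrArg Subtype.val h1)
    have hz : n ∈ Subgroup.center (Equiv.Perm α) := by
      rw [Subgroup.mem_center_iff]
      intro g
      by_cases hg : g ∈ alternatingGroup α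
      · exact (hcomm g hg).symm
      · have hgn : g * n⁻¹ ∈ alternatingGroup α := by
          simp only [Equiv.Perm.mem_alternatingGroup, map_mul, map_inv] at hg hodd ⊢
          rw [(Int.units_eq_one_or _).resolve_left hg, (Int.units_eq_one_or _).resolve_left hodd]
          simp
        have h1 := hcomm _ hgn
        calc g * n = g * n⁻¹ * n * n := by simp
          _ = n * (g * n⁻¹) * n := by rw [h1]
          _ = n * g := by simp [mul_assoc]
    obtain ⟨a, ha⟩ : ∃ a, n a ≠ a := by
      by_contra hne
      push Not at hne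
      exact hn1 (Equiv.ext hne)
    obtain ⟨c, hca, hcb⟩ : ∃ c, c ≠ a ∧ c ≠ n a := by
      by_contra hne
      push Not at hne
      have hsub : (Finset.univ : Finset α) ⊆ {a, n a} := fun c _ => by
        rcases eq_or_ne c a with e | e
        · simp [e]
        · simp [hne c e]
      have := (Finset.card_le_card hsub).trans Finset.card_le_two
      rw [Finset.card_univ, ← Nat.card_eq_fintype_card] at this
      omega
    have h1 := Equiv.congr_fun (Subgroup.mem_center_iff.mp hz (Equiv.swap (n a) c)) a
    simp only [Equiv.Perm.mul_apply, Equiv.swap_apply_left, Equiv.swap_apply_of_ne_of_ne ha.symm hca.symm] at h1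
    exact hcb h1
  · exfalso
    have hA : alternatingGroup α ≤ N := Subgroup.subgroupOf_eq_top.mp h
    have h1 : Nat.card (alternatingGroup α) ∣ Nat.card N := Subgroup.card_dvd_of_le hA
    rw [← two_mul_nat_card_alternatingGroup] at hd
    have h2 : p ∣ Nat.card (alternatingGroup α) :=
      (hp.dvd_mul.mp hd).resolve_left fun h2 => hpo ((Nat.prime_dvd_prime_iff_eq hp Nat.prime_two).mp h2)
    exact (hp.coprime_iff_not_dvd.mp hc.symm) (h2.trans h1)

end CfsgLib.LocalBal
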