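import Cfsg.Agent.AutPOm.MinusField
import Cfsg.Agent.Quad.OmegaSum
import Cfsg.Agent.LocalBal.Core
import Cfsg.Agent.LocalBal.Field

/-!
Fixed points of a coordinatewise field automorphism of odd order on a quadratic space over a larger field.
-/

set_option autoImplicit false
set_option linter.unusedSectionVars false
set_option linter.style.haveILetI false

namespace CfsgLib.LocalBal

open QuadraticMap CfsgLib.Forms CfsgLib.Quad CfsgLib.AutPOm Matrix

variable {F K : Type*} [Field F] [Finite F] [Field K] [Finite K] {ι : Type} [Fintype ι] [DecidableEq ι]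

/-- `Omega` onto `POmega`. -/
noncomputable def omTo (Q : QuadraticForm F (ι → F)) : ↥(Om Q) →* Cfsg.POmega F ⇑Q :=
  (pOmegaEquiv Q).symm.toMonoidHom.comp (toPG Q)

theorem omTo_surjective (Q : QuadraticForm F (ι → F)) : Function.Surjective (omTo Q) :=
  (pOmegaEquiv Q).symm.surjective.comp (QuotientGroup.mk'_surjective _)

theorem omTo_eq_iff {Q : QuadraticForm F (ι → F)} {a b : ↥(Om Q)} :
    omTo Q a = omTo Q b ↔ a⁻¹ * b ∈ Subgroup.center ↥(Om Q) :=
  (pOmegaEquiv Q).symm.injective.eq_iff.trans QuotientGroup.eq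

theorem pomHom_omTo {Q : QuadraticForm F (ι → F)} (S : Semi Q) (t : ↥(Om Q)) :
    pomHom Q S (omTo Q t) = omTo Q (S.omEquiv t) := by
  show pomHom Q S ((pOmegaEquiv Q).symm (toPG Q t)) = (pOmegaEquiv Q).symm (toPG Q (S.omEquiv t))
  rw [pomHom_apply', (pOmegaEquiv Q).apply_symm_apply, pgHom_apply]
  exact congrArg (pOmegaEquiv Q).symm (S.pgAut_mk t)

theorem omEquiv_center {Q : QuadraticForm F (ι → F)} (hQ : Big Q) (S : Semi Q) {c : ↥(Om Q)}
    (hc : c ∈ Subgroup.center ↥(Om Q)) : S.omEquiv c = c := by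
  rcases center_omega_subset hQ.nd hQ.five c hc with rfl | h
  · exact map_one _
  · refine Subtype.ext (Subtype.ext (LinearEquiv.ext fun v => ?_))
    change S.T (c.1.1 (S.T.symm v)) = c.1.1 v
    rw [h, negIso_apply, negIso_apply, map_neg, AddEquiv.apply_symm_apply]

theorem center_eq_one_of_odd {Q : QuadraticForm F (ι → F)} (hQ : Big Q) {c : ↥(Om Q)}
    (hc : c ∈ Subgroup.center ↥(Om Q)) {k : ℕ} (hk : Odd k) (h : c ^ k = 1) : c = 1 := by
  obtain ⟨q, hq⟩ := CharP.exists F
  haveI : Fact q.Prime := ⟨CharP.char_is_prime F q⟩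
  obtain ⟨i, rfl⟩ := hk
  rwa [pow_succ, pow_mul, pow_two, (center_spec hQ q hc).1, one_pow, one_mul] at h

/-- The data of a form defined over the fixed field of a field automorphism. -/
structure BasePair (f : K →+* F) (σ : RingAut F) (p : ℕ) (Q0 : QuadraticForm K (ι → K))
    (Qe : QuadraticForm F (ι → F)) : Prop where
  fixed : IsFixed f σ p
  base : IsBase f Q0 Qe
  small : Big Q0
  big : Big Qe
  odd : Odd p

variable {f : K →+* F} {σ : RingAut F} {p : ℕ} {Q0 : QuadraticForm K (ι → K)}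
  {Qe : QuadraticForm F (ι → F)} (D : BasePair f σ p Q0 Qe)

/-- The coordinatewise map. -/
noncomputable abbrev BasePair.cT : Semi Qe := D.base.coordT σ D.fixed.fix

/-- The standard field automorphism. -/
noncomputable abbrev BasePair.phi : MulAut (Cfsg.POmega F ⇑Qe) := pomHom Qe D.cT

theorem BasePair.cT_pow : ∀ n : ℕ, (D.cT ^ n).σ = σ ^ n ∧ (D.cT ^ n).c = 1 ∧
    ∀ v, (D.cT ^ n).T v = fun i => (σ ^ n) (v i) := by
  intro n
  induction n with
  | zero => exact ⟨rfl, rfl, fun v => rfl⟩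
  | succ n ih =>
    refine ⟨Semi.pow_σ _ _, Units.ext ?_, fun v => ?_⟩
    · rw [pow_succ', Semi.mul_c, ih.2.1]
      change (1 : F) * σ 1 = 1
      rw [map_one, one_mul]
    · rw [Semi.pow_succ_T, ih.2.2, pow_succ']
      rfl

theorem BasePair.cT_pow_eq_one : D.cT ^ p = 1 := by
  obtain ⟨h1, h2, h3⟩ := D.cT_pow p
  refine Semi.ext' (h1.trans D.fixed.pow_eq) (fun v => ?_) h2
  rw [h3, D.fixed.pow_eq]
  rfl

theorem exists_extIso (hb : IsBase f Q0 Qe) (k : oGroup Q0) :
    ∃ g : oGroup Qe, hb.extHom ⟨isoHom Q0 k, mem_simGroup.mpr rfl⟩ = isoHom Qe g := by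
  obtain ⟨h1, -, h3⟩ := hb.extHom_spec ⟨isoHom Q0 k, mem_simGroup.mpr rfl⟩
  refine Semi.eq_iso (mem_simGroup.mp h1) (Units.ext ?_)
  rw [h3]
  exact map_one f

/-- Isometries over the small field. -/
noncomputable def extIso (hb : IsBase f Q0 Qe) : oGroup Q0 →* oGroup Qe :=
  MonoidHom.mk' (fun k => Classical.choose (exists_extIso hb k)) fun a b => isoHom_injective (by
    rw [map_mul (isoHom Qe), ← Classical.choose_spec (exists_extIso hb (a * b)),
      ← Classical.choose_spec (exists_extIso hb a), ← Classical.choose_spec (exists_extIso hb b), ← map_mul]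
    exact congrArg hb.extHom (Subtype.ext (map_mul (isoHom Q0) a b)))

theorem isoHom_extIso (hb : IsBase f Q0 Qe) (k : oGroup Q0) :
    isoHom Qe (extIso hb k) = hb.extHom ⟨isoHom Q0 k, mem_simGroup.mpr rfl⟩ :=
  (Classical.choose_spec (exists_extIso hb k)).symm

theorem extIso_apply (hb : IsBase f Q0 Qe) (k : oGroup Q0) (z : ι → K) :
    (extIso hb k).1 (extVec f z) = extVec f (k.1 z) := by
  have h := congrArg (fun S : Semi Qe => S.T (extVec f z)) (isoHom_extIso hb k)
  exact h.trans (hb.extHom_T _ z)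

theorem extIso_injective (hb : IsBase f Q0 Qe) : Function.Injective (extIso hb) := fun a b h =>
  Subtype.ext (LinearEquiv.ext fun z => extVec_injective f (by
    rw [← extIso_apply hb, ← extIso_apply hb, h]))

theorem extIso_siegel (hb : IsBase f Q0 Qe) {u a : ι → K} (hu : Q0 u = 0) (hua : polar Q0 u a = 0) :
    extIso hb (siegel Q0 u a) = siegel Qe (extVec f u) (extVec f a) := by
  refine Subtype.ext (LinearEquiv.toLinearMap_injective ((Pi.basisFun F ι).ext fun i => ?_))
  rw [Pi.basisFun_apply, LinearEquiv.coe_coe, LinearEquiv.coe_coe, ← extVec_single f, extIso_apply,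
    siegel_apply hu hua, siegel_apply (by rw [hb, hu, map_zero]) (by rw [hb.polar, hua, map_zero]),
    hb.polar, hb.polar, hb]
  funext j
  simp [extVec]

theorem BasePair.oEquiv_extIso (k : oGroup Q0) : D.cT.oEquiv (extIso D.base k) = extIso D.base k := by
  refine isoHom_injective ?_
  rw [← Semi.conj_iso, isoHom_extIso, BasePair.cT, IsBase.commute_coordT, mul_inv_cancel_right]

theorem BasePair.exists_extIso_of_fix {g : oGroup Qe} (h : D.cT.oEquiv g = g) :
    ∃ k, extIso D.base k = g := by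
  have hc : D.cT * isoHom _ g = isoHom _ g * D.cT := by
    rw [← mul_inv_eq_iff_eq_mul, Semi.conj_iso, h]
  obtain ⟨L, hL⟩ := D.base.exists_of_commute D.fixed.fix D.fixed.surj (mem_simGroup.mpr rfl) hc
  obtain ⟨k, hk⟩ := Semi.eq_iso (S := L.1) (mem_simGroup.mp L.2) (Units.ext (f.injective (by
    rw [← (D.base.extHom_spec L).2.2, hL]
    exact (map_one f).symm)))
  refine ⟨k, isoHom_injective ?_⟩
  rw [isoHom_extIso, ← hL]
  exact congrArg _ (Subtype.ext hk.symm)

/-- `Omega` over the small field inside `Omega`. -/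
noncomputable def extOm (hb : IsBase f Q0 Qe) : ↥(Om Q0) →* ↥(Om Qe) :=
  ((extIso hb).comp (Om Q0).subtype).codRestrict _ fun k => by
    have h : (Om Q0).map (extIso hb) ≤ Om Qe := by
      rw [Om, Om, commutator_def, Subgroup.map_commutator, commutator_def]
      exact Subgroup.commutator_mono le_top le_top
    exact h ⟨k.1, k.2, rfl⟩

/-- The map into `POmega`. -/
noncomputable def BasePair.sub : ↥(Om Q0) →* Cfsg.POmega F ⇑Qe := (omTo Qe).comp (extOm D.base)

theorem BasePair.sub_le : D.sub.range ≤ Fix D.phi := by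
  rintro _ ⟨k, rfl⟩
  rw [mem_Fix]
  change pomHom Qe D.cT (omTo Qe (extOm D.base k)) = omTo Qe (extOm D.base k)
  rw [pomHom_omTo]
  exact congrArg _ (Subtype.ext (D.oEquiv_extIso k.1))

theorem BasePair.exists_of_fix {z : Cfsg.POmega F ⇑Qe} (hz : z ∈ Fix D.phi) :
    ∃ (k : oGroup Q0) (h : extIso D.base k ∈ Om Qe), z = omTo Qe ⟨_, h⟩ := by
  obtain ⟨g, rfl⟩ := omTo_surjective Qe z
  rw [mem_Fix] at hz
  change pomHom Qe D.cT (omTo Qe g) = _ at hz
  rw [pomHom_omTo] at hz
  set c := (D.cT.omEquiv g)⁻¹ * g with hc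
  have hcz : c ∈ Subgroup.center ↥(Om Qe) := omTo_eq_iff.mp hz
  have hg : D.cT.omEquiv g = g * c⁻¹ := by rw [hc]; group
  have hn : ∀ n : ℕ, (D.cT ^ n) * isoHom Qe g.1 * (D.cT ^ n)⁻¹ = isoHom Qe (g * c⁻¹ ^ n).1 := by
    intro n
    induction n with
    | zero => simp
    | succ n ih =>
      rw [pow_succ' D.cT, _root_.mul_inv_rev,
        show D.cT * D.cT ^ n * isoHom Qe g.1 * ((D.cT ^ n)⁻¹ * D.cT⁻¹) =
          D.cT * (D.cT ^ n * isoHom Qe g.1 * (D.cT ^ n)⁻¹) * D.cT⁻¹ by group, ih, Semi.conj_iso,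
        ← Semi.omEquiv_coe, map_mul, hg, map_pow, omEquiv_center D.big _ (inv_mem hcz), mul_assoc,
        ← pow_succ']
  have hp := hn p
  rw [D.cT_pow_eq_one, one_mul, inv_one, mul_one] at hp
  have h1 : c⁻¹ ^ p = 1 := left_eq_mul.mp (Subtype.ext (isoHom_injective hp))
  rw [center_eq_one_of_odd D.big (inv_mem hcz) D.odd h1, mul_one] at hg
  obtain ⟨k, hk⟩ := D.exists_extIso_of_fix (congrArg Subtype.val hg)
  exact ⟨k, hk ▸ g.2, congrArg _ (Subtype.ext hk.symm)⟩

theorem BasePair.sub_normal : ∀ z ∈ Fix D.phi, ∀ s ∈ D.sub.range, z * s * z⁻¹ ∈ D.sub.range := by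
  intro z hz _ hs
  obtain ⟨s, rfl⟩ := hs
  obtain ⟨k, hk, rfl⟩ := D.exists_of_fix hz
  have hn : (Om Q0).Normal := by rw [Om]; infer_instance
  refine ⟨⟨k * s.1 * k⁻¹, hn.conj_mem _ s.2 k⟩, ?_⟩
  rw [BasePair.sub, MonoidHom.comp_apply, MonoidHom.comp_apply, ← map_inv, ← map_mul, ← map_mul]
  refine congrArg _ (Subtype.ext ?_)
  show extIso D.base (k * s.1 * k⁻¹) = extIso D.base k * extIso D.base s.1 * (extIso D.base k)⁻¹
  rw [map_mul, map_mul, map_inv]

theorem BasePair.sq_mem_sub {z : Cfsg.POmega F ⇑Qe} (hz : z ∈ Fix D.phi) : z ^ 2 ∈ D.sub.range := by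
  obtain ⟨k, hk, rfl⟩ := D.exists_of_fix hz
  refine ⟨⟨k * k, sq_mem_commutator D.small.nd (Or.inr ?_) k⟩, ?_⟩
  · have := D.small.five; omega
  rw [pow_two, BasePair.sub, MonoidHom.comp_apply, ← map_mul]
  refine congrArg _ (Subtype.ext ?_)
  show extIso D.base (k * k) = extIso D.base k * extIso D.base k
  rw [map_mul]

theorem BasePair.ker_sub : D.sub.ker = Subgroup.center ↥(Om Q0) := by
  ext k
  have h1 : k ∈ D.sub.ker ↔ extOm D.base k ∈ Subgroup.center ↥(Om Qe) := by
    rw [MonoidHom.mem_ker, ← map_one D.sub, BasePair.sub, MonoidHom.comp_apply, MonoidHom.comp_apply,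
      map_one, omTo_eq_iff, mul_one, inv_mem_iff]
  rw [h1]
  constructor
  · intro h
    refine Subgroup.mem_center_iff.mpr fun l => Subtype.ext (extIso_injective D.base ?_)
    rw [Subgroup.coe_mul, Subgroup.coe_mul, map_mul, map_mul]
    exact congrArg Subtype.val (Subgroup.mem_center_iff.mp h (extOm D.base l))
  · intro h
    rcases center_omega_subset D.small.nd D.small.five k h with rfl | h'
    · rw [map_one]; exact one_mem _
    · refine Subgroup.mem_center_iff.mpr fun g => Subtype.ext (Subtype.ext (LinearEquiv.toLinearMap_injective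
        ((Pi.basisFun F ι).ext fun i => ?_)))
      have hneg : ∀ v, (extIso D.base k.1).1 v = -v := LinearMap.congr_fun
        (show (extIso D.base k.1).1.toLinearMap = -LinearMap.id from (Pi.basisFun F ι).ext fun j => by
          rw [Pi.basisFun_apply, LinearEquiv.coe_coe, ← extVec_single f, extIso_apply, h', negIso_apply]
          funext l
          simp [extVec])
      change g.1.1 ((extIso D.base k.1).1 _) = (extIso D.base k.1).1 (g.1.1 _)
      rw [hneg, hneg, map_neg]

theorem BasePair.range_simple : IsSimpleGroup ↥D.sub.range := by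
  haveI : IsSimpleGroup (↥(Om Q0) ⧸ Subgroup.center ↥(Om Q0)) :=
    isSimpleGroup_omega D.small.nd D.small.five
  let e : ↥(Om Q0) ⧸ Subgroup.center ↥(Om Q0) ≃* ↥D.sub.range :=
    (QuotientGroup.quotientMulEquivOfEq D.ker_sub.symm).trans (QuotientGroup.quotientKerEquivRange D.sub)
  haveI : Nontrivial ↥D.sub.range := e.symm.toEquiv.nontrivial
  exact IsSimpleGroup.isSimpleGroup_of_surjective e.toMonoidHom e.surjective

theorem BasePair.fix_ne_bot : Fix D.phi ≠ ⊥ := fun h => by
  haveI := D.range_simple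
  have h1 : D.sub.range = ⊥ := le_bot_iff.mp (D.sub_le.trans h.le)
  exact (Subgroup.nontrivial_iff_ne_bot _).mp inferInstance h1

theorem BasePair.sub_normal_bot (hp : p.Prime) (hd : p ∣ Nat.card (Fix D.phi))
    (N : Subgroup ↥D.sub.range) (hN : N.Normal) (hc : (Nat.card N).Coprime p) : N = ⊥ := by
  have hdS : p ∣ Nat.card D.sub.range := by
    haveI : Fact p.Prime := ⟨hp⟩
    haveI := finite_POmega (Q := Qe)
    obtain ⟨z, hz⟩ := exists_prime_orderOf_dvd_card' p hd
    have ho : orderOf (z : Cfsg.POmega F ⇑Qe) = p := (Subgroup.orderOf_coe z).trans hz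
    have hzp : (z : Cfsg.POmega F ⇑Qe) ^ p = 1 := orderOf_dvd_iff_pow_eq_one.mp (dvd_of_eq ho)
    have h1 : (z : Cfsg.POmega F ⇑Qe) ∈ D.sub.range := by
      obtain ⟨i, hi⟩ := D.odd
      have h3 : (z : Cfsg.POmega F ⇑Qe) = ((z : Cfsg.POmega F ⇑Qe) ^ 2) ^ (i + 1) := by
        rw [← pow_mul, show 2 * (i + 1) = p + 1 by omega, pow_succ, hzp, one_mul]
      rw [h3]
      exact pow_mem (D.sq_mem_sub z.2) _
    refine (dvd_of_eq (ho.symm.trans (Subgroup.orderOf_mk _ h1).symm)).trans (orderOf_dvd_natCard _)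
  haveI := D.range_simple
  rcases hN.eq_bot_or_eq_top with h | h
  · exact h
  · rw [h, Subgroup.card_top] at hc
    exact absurd hdS (hp.coprime_iff_not_dvd.mp hc.symm)

end CfsgLib.LocalBal
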