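import Cfsg.Agent.LocalBal.BaseFix

/-!
The pointwise stabiliser of `Omega` over a subfield of odd index.
-/

set_option autoImplicit false
set_option linter.unusedSectionVars false
set_option linter.style.haveILetI false

namespace CfsgLib.LocalBal

open QuadraticMap CfsgLib.Forms CfsgLib.Quad CfsgLib.AutPOm Matrix

variable {F K : Type*} [Field F] [Finite F] [Field K] [Finite K]

section general

variable {ι : Type} [Fintype ι] [DecidableEq ι] {f : K →+* F} {σ : RingAut F} {p : ℕ}
  {Q0 : QuadraticForm K (ι → K)} {Qe : QuadraticForm F (ι → F)} (D : BasePair f σ p Q0 Qe) {S : Semi Qe}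
  (hS : ∀ s ∈ D.sub.range, pomHom Qe S s = s)
include hS

theorem BasePair.comm_siegel {u a : ι → K} (hu : Q0 u = 0) (hua : polar Q0 u a = 0) (x : ι → F) :
    S.T ((siegel Qe (extVec f u) (extVec f a)).1 x) = (siegel Qe (extVec f u) (extVec f a)).1 (S.T x) := by
  obtain ⟨q, hq⟩ := CharP.exists F
  haveI : Fact q.Prime := ⟨CharP.char_is_prime F q⟩
  set g := extOm D.base ⟨_, siegel_mem_commutator D.small.nd D.small.five hu hua⟩ with hg
  have hg1 : g.1 = siegel Qe (extVec f u) (extVec f a) := extIso_siegel D.base hu hua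
  have h := hS _ ⟨⟨_, siegel_mem_commutator D.small.nd D.small.five hu hua⟩, rfl⟩
  rw [BasePair.sub, MonoidHom.comp_apply, ← hg, pomHom_omTo] at h
  have hgq : g ^ q ^ 1 = 1 := Subtype.ext (by
    rw [pow_one, SubgroupClass.coe_pow, hg1, siegel_pow_char (by rw [D.base, hu, map_zero])
      (by rw [D.base.polar, hua, map_zero]) q, OneMemClass.coe_one])
  have h2 : S.omEquiv g = g := lift_unique D.big q (k := 1) (l := 1) (by rw [← map_pow, hgq, map_one]) hgq
    ((pOmegaEquiv Qe).symm.injective h)
  have h5 := congrArg (fun z : ↥(Om Qe) => z.1.1 (S.T x)) h2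
  simp only [Semi.omEquiv_coe, Semi.oEquiv_apply, AddEquiv.symm_apply_apply, hg1] at h5
  exact h5

theorem BasePair.pin {u : ι → K} (hu : Q0 u = 0) : ∃ q : F, S.T (extVec f u) = q • extVec f u := by
  have key : ∀ a x : ι → K, polar Q0 u a = 0 → polar Q0 x u = 0 → polar Q0 x a = 1 →
      ∃ c q : F, S.T (extVec f u) = q • extVec f u - c • extVec f a := by
    intro a x hua hxu hxa
    have hQe : Qe (extVec f u) = 0 := by rw [D.base, hu, map_zero]
    have hpe : polar Qe (extVec f u) (extVec f a) = 0 := by rw [D.base.polar, hua, map_zero]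
    have h := D.comm_siegel hS hu hua (extVec f x)
    rw [siegel_apply hQe hpe, siegel_apply hQe hpe, D.base.polar, D.base.polar, hxu, hxa, map_zero, map_one] at h
    simp only [zero_smul, mul_zero, add_zero, one_smul, map_sub] at h
    exact ⟨polar Qe (S.T (extVec f x)) (extVec f u),
      polar Qe (S.T (extVec f x)) (extVec f a) + Qe (extVec f a) * polar Qe (S.T (extVec f x)) (extVec f u),
      by linear_combination (norm := module) -h⟩
  have h5 := D.small.five
  obtain ⟨w, w', huw, -, huw', -, hww⟩ := exists_perp_pair D.small.nd u u h5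
  obtain ⟨v, v', huv, hwv, huv', hwv', hvv⟩ := exists_perp_pair D.small.nd u w h5
  obtain ⟨c, q, h1⟩ := key w w' huw (by rw [polar_comm, huw']) (by rw [polar_comm, hww])
  obtain ⟨c', q', h1'⟩ := key v v' huv (by rw [polar_comm, huv']) (by rw [polar_comm, hvv])
  have h6 := congrArg (fun z => polar Qe z (extVec f v')) (h1.symm.trans h1')
  simp only [sub_eq_add_neg, ← neg_smul, polar_add_left, polar_smul_left, D.base.polar, huv', hwv', hvv,
    map_zero, map_one, smul_eq_mul, mul_zero, mul_one, add_zero, zero_add] at h6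
  refine ⟨q', ?_⟩
  rw [h1', neg_eq_zero.mp h6.symm, zero_smul, sub_zero]

/-- A map fixing the subgroup pointwise that is scalar on the coordinate vectors is a power of `φ`. -/
theorem BasePair.mem_zpowers_of_scalar {lam : F} (hlam : ∀ i, S.T (Pi.single i 1) = lam • Pi.single i 1)
    {i j l k : ι} (hi : Q0 (Pi.single i 1) = 0) (hij : polar Q0 (Pi.single i 1) (Pi.single j 1) = 0)
    (hli : polar Q0 (Pi.single l 1) (Pi.single i 1) = 0) (hlj : polar Q0 (Pi.single l 1) (Pi.single j 1) = 1)
    (hk : Q0 (Pi.single k 1) ≠ 0) : pomHom Qe S ∈ Subgroup.zpowers D.phi := by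
  classical
  have hT : ∀ v, S.T v = lam • fun k => S.σ (v k) := fun v => by
    conv_lhs => rw [← Finset.univ_sum_single v]
    rw [map_sum]
    have h1 : ∀ k, S.T (Pi.single k (v k)) = lam • Pi.single k (S.σ (v k)) := fun k => by
      rw [show Pi.single k (v k) = v k • (Pi.single k 1 : ι → F) by
        rw [← Pi.single_smul, smul_eq_mul, mul_one], S.smul, hlam, smul_comm, ← Pi.single_smul, smul_eq_mul, mul_one]
    rw [Finset.sum_congr rfl fun k _ => h1 k, ← Finset.smul_sum, Finset.univ_sum_single]
  have hext : ∀ m : ι, S.T (extVec f (Pi.single m 1)) = lam • extVec f (Pi.single m 1) := fun m => by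
    rw [extVec_single, hlam]
  have hl0 : lam ≠ 0 := fun e => by
    have h1 := hlam i
    rw [e, zero_smul, ← map_zero S.T] at h1
    have h3 := congrFun (S.T.injective h1) i
    simp at h3
  have hρ : ∀ t : K, S.σ (f t) = f t := fun t => by
    have hua : polar Q0 (Pi.single i 1) (t • Pi.single j 1) = 0 := by rw [polar_smul_right, hij, smul_zero]
    have hQe : Qe (extVec f (Pi.single i 1)) = 0 := by rw [D.base, hi, map_zero]
    have hpe : polar Qe (extVec f (Pi.single i 1)) (extVec f (t • Pi.single j 1)) = 0 := by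
      rw [D.base.polar, hua, map_zero]
    have h := D.comm_siegel hS hi hua (extVec f (Pi.single l 1))
    rw [hext, map_smul, siegel_apply hQe hpe, D.base.polar, D.base.polar, polar_smul_right, hli, hlj] at h
    simp only [map_zero, zero_smul, mul_zero, add_zero, smul_eq_mul, mul_one, map_sub, S.smul, hext, smul_sub] at h
    rw [sub_right_inj, smul_smul, smul_smul] at h
    have h6 := congrFun h i
    simp [extVec] at h6
    exact mul_right_cancel₀ hl0 (by linear_combination h6)
  obtain ⟨n, hn⟩ : ∃ n : ℕ, σ ^ n = S.σ := by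
    have hz := mem_zpowers_of_fix (σ := σ) (ρ := S.σ) fun c hc => by
      obtain ⟨t, rfl⟩ := D.fixed.surj c ((CfsgLib.AutPSL.mem_fixField σ).mp hc)
      exact hρ t
    haveI : Finite (RingAut F) := Finite.of_injective (fun τ : RingAut F => (τ : F → F)) DFunLike.coe_injective
    exact mem_powers_iff_mem_zpowers.mpr hz
  have hc : (S.c : F) = lam * lam := by
    have h1 := S.quad (extVec f (Pi.single k 1))
    rw [hext, quad_smul, D.base, hρ] at h1
    exact (mul_right_cancel₀ ((map_ne_zero f).mpr hk) h1).symm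
  obtain ⟨h1, h2, h3⟩ := D.cT_pow n
  have hSeq : S = scalarHom _ (Units.mk0 lam hl0) * D.cT ^ n := by
    refine Semi.ext' (RingEquiv.ext fun x => ?_) (fun v => ?_) (Units.ext ?_)
    · show S.σ x = (D.cT ^ n).σ x
      rw [h1, hn]
    · rw [hT, Semi.mul_T, h3, hn]
      rfl
    · rw [Semi.mul_c, hc, h2]
      simp [Semi.scalar, scalarHom]
  refine ⟨n, ?_⟩
  rw [hSeq, pomHom_scalar_mul D.big, map_pow]
  exact zpow_natCast _ _

end general

end CfsgLib.LocalBal
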