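import Cfsg.Agent.LocalBal.OddThree
import Cfsg.Agent.AutPSL.GraphFieldClasses

/-!
Odd normal subgroups of orthogonal and unitary groups are scalar.
-/

set_option autoImplicit false
set_option linter.unusedSectionVars false
set_option linter.style.haveILetI false

open Matrix

namespace CfsgLib.LocalBal

open CfsgLib.AutPSL

variable {F : Type*} [Field F] [Finite F]

/-- The standard alternating matrix of size two. -/
def J2 (F : Type*) [Field F] : Matrix (Fin 2) (Fin 2) F := !![0, 1; -1, 0]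

theorem transpose_J2_mul (M : Matrix (Fin 2) (Fin 2) F) : Mᵀ * J2 F * M = M.det • J2 F := by
  ext a b
  fin_cases a <;> fin_cases b <;>
    simp [J2, Matrix.mul_apply, Fin.sum_univ_two, Matrix.det_fin_two] <;> ring

theorem clean_J_two (h2 : (2 : F) ≠ 0) (σ : RingAut F) : Clean σ (J2 F) := by
  classical
  intro L hle hn ho a ha
  set K := fixField σ
  let ψ : Matrix.SpecialLinearGroup (Fin 2) K →* GL (Fin 2) F :=
    (Matrix.SpecialLinearGroup.toGL).comp (slBase σ)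
  have hψm : ∀ g, ψ g ∈ uGrp σ (J2 F) := fun g => by
    have h1 := semiFun_slBase σ g
    have h2' := congrArg (fun s : Matrix.SpecialLinearGroup (Fin 2) F => (s : Matrix (Fin 2) (Fin 2) F)) h1
    simp only [semiFun_one_coe] at h2'
    rw [mem_uGrp]
    show (((slBase σ g : Matrix.SpecialLinearGroup (Fin 2) F) : Matrix (Fin 2) (Fin 2) F).map σ)ᵀ * J2 F *
      ((slBase σ g : Matrix.SpecialLinearGroup (Fin 2) F) : Matrix (Fin 2) (Fin 2) F) = J2 F
    rw [h2', transpose_J2_mul, Matrix.SpecialLinearGroup.det_coe, one_smul]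
  have hψr : ∀ x ∈ uGrp σ (J2 F), (x : Matrix (Fin 2) (Fin 2) F).det = 1 → ∃ g, ψ g = x := by
    intro x hx hd
    have h1 := transpose_J2_mul (x : Matrix (Fin 2) (Fin 2) F)
    rw [hd, one_smul] at h1
    have hJ : IsUnit (J2 F) := by
      rw [Matrix.isUnit_iff_isUnit_det]; simp [J2, Matrix.det_fin_two]
    obtain ⟨U, hU⟩ := hJ.mul x.isUnit
    have h3 : ((x : Matrix (Fin 2) (Fin 2) F).map σ)ᵀ = (x : Matrix (Fin 2) (Fin 2) F)ᵀ := by
      rw [← U.mul_left_inj, hU, ← mul_assoc, ← mul_assoc, mem_uGrp.mp hx, h1]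
    let t : Matrix.SpecialLinearGroup (Fin 2) F := ⟨(x : Matrix (Fin 2) (Fin 2) F), hd⟩
    have ht : semiFun (1 : GL (Fin 2) F) σ t = t :=
      Subtype.ext ((semiFun_one_coe σ t).trans (Matrix.transpose_injective h3))
    obtain ⟨g, hg⟩ := exists_slBase σ ht
    exact ⟨g, Units.ext (congrArg Subtype.val hg)⟩
  set π := QuotientGroup.mk' (Subgroup.center (Matrix.SpecialLinearGroup (Fin 2) K))
  have hsurj : Function.Surjective π := QuotientGroup.mk'_surjective _
  have hLn : (L.comap ψ).Normal := ⟨fun x hx y => by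
    show ψ (y * x * y⁻¹) ∈ L
    rw [map_mul, map_mul, map_inv]
    exact hn _ (hψm y) _ hx⟩
  set N := (L.comap ψ).map π
  haveI hN : N.Normal := Subgroup.Normal.map hLn π hsurj
  have hodd : (Nat.card N).Coprime 2 := by
    rw [Nat.coprime_comm, Nat.prime_two.coprime_iff_not_dvd]
    intro hd
    haveI : Fact (Nat.Prime 2) := ⟨Nat.prime_two⟩
    obtain ⟨x, hx⟩ := exists_prime_orderOf_dvd_card' 2 hd
    obtain ⟨g, hg, hgx⟩ := x.2
    obtain ⟨k, hk, c, hc⟩ := ho (ψ g) hg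
    have h1 : π g ^ k = 1 := by
      rw [← map_pow, QuotientGroup.mk'_apply, QuotientGroup.eq_one_iff, Matrix.SpecialLinearGroup.mem_center_iff]
      rw [← map_pow] at hc
      generalize g ^ k = y at hc
      have he : ∀ i j, (((y : Matrix (Fin 2) (Fin 2) K) i j : K) : F) = (c • (1 : Matrix (Fin 2) (Fin 2) F)) i j :=
        fun i j => congrFun (congrFun hc i) j
      have hd : c ^ 2 = 1 := by
        have h := congrArg Matrix.det hc
        rw [Matrix.det_smul, Matrix.det_one, mul_one, Fintype.card_fin] at h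
        exact h.symm.trans (slBase σ y).2
      refine ⟨(y : Matrix (Fin 2) (Fin 2) K) 0 0, ?_, ?_⟩
      · refine (K).subtype.injective ?_
        rw [map_pow, map_one, Fintype.card_fin]
        show ((((y : Matrix (Fin 2) (Fin 2) K) 0 0) : K) : F) ^ 2 = 1
        rw [he]; simp [hd]
      · ext i j
        rw [he, Matrix.scalar_apply, Matrix.diagonal_apply]
        rcases eq_or_ne i j with rfl | hne
        · rw [if_pos rfl, he]; simp
        · simp [hne]
    obtain ⟨j, rfl⟩ := hk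
    have h2' : orderOf x ∣ 2 * j + 1 := orderOf_dvd_of_pow_eq_one (Subtype.ext (by
      rw [SubmonoidClass.coe_pow, ← hgx]; exact h1))
    rw [hx] at h2'
    omega
  have hKF : ((2 : ℕ) : K) ≠ 0 := fun h => h2 (by
    have h' := congrArg (K).subtype h
    rw [map_natCast, map_zero] at h'
    exact_mod_cast h')
  have hdvd : 2 ∣ Nat.card (Matrix.ProjectiveSpecialLinearGroup (Fin 2) K) := by
    let w : Matrix.SpecialLinearGroup (Fin 2) K := ⟨!![0, 1; -1, 0], by simp [Matrix.det_fin_two]⟩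
    have h2w : (π w) ^ 2 = 1 := by
      rw [← map_pow, QuotientGroup.mk'_apply, QuotientGroup.eq_one_iff, Matrix.SpecialLinearGroup.mem_center_iff]
      refine ⟨-1, by simp, ?_⟩
      rw [Matrix.SpecialLinearGroup.coe_pow, pow_two]
      ext a b; fin_cases a <;> fin_cases b <;> simp [w, Matrix.mul_apply, Fin.sum_univ_two]
    have h1w : π w ≠ 1 := by
      rw [ne_eq, QuotientGroup.mk'_apply, QuotientGroup.eq_one_iff, Matrix.SpecialLinearGroup.mem_center_iff]
      rintro ⟨r, -, hr⟩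
      have := congrFun (congrFun hr 0) 1
      simp [w, Matrix.scalar_apply] at this
    have h3 := orderOf_dvd_natCard (π w)
    rwa [orderOf_eq_prime h2w h1w] at h3
  have hbot : N = ⊥ := psl_normal_bot le_rfl Nat.prime_two hKF hdvd N hN hodd
  have hsc : ∀ x ∈ L, (x : Matrix (Fin 2) (Fin 2) F).det = 1 →
      ∃ c : F, c ^ 2 = 1 ∧ (x : Matrix (Fin 2) (Fin 2) F) = c • 1 := by
    intro x hx hd
    obtain ⟨g, rfl⟩ := hψr x (hle hx) hd
    have : π g = 1 := Subgroup.mem_bot.mp (hbot ▸ Subgroup.mem_map_of_mem π hx)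
    rw [QuotientGroup.mk'_apply, QuotientGroup.eq_one_iff, Matrix.SpecialLinearGroup.mem_center_iff] at this
    obtain ⟨r, hr, hrg⟩ := this
    refine ⟨(r : F), ?_, ?_⟩
    · have := congrArg (K).subtype hr
      simpa using this
    · ext a b
      have := congrFun (congrFun hrg a) b
      simp [Matrix.scalar_apply] at this
      rcases eq_or_ne a b with rfl | hne
      · simp at this; simp [ψ, slBase, ← this]
      · simp [hne] at this; simp [ψ, slBase, hne, ← this]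
  have hcomm : ∀ g, Commute a (ψ g) := fun g => by
    obtain ⟨c, hc, hx⟩ := hsc (a * (ψ g * a⁻¹ * (ψ g)⁻¹))
      (mul_mem ha (hn _ (hψm g) _ (inv_mem ha))) (by
        rw [Units.val_mul, Units.val_mul, Units.val_mul, Matrix.det_mul, Matrix.det_mul, Matrix.det_mul,
          show ((ψ g : GL (Fin 2) F) : Matrix (Fin 2) (Fin 2) F).det = 1 from (slBase σ g).2,
          Matrix.coe_units_inv, Matrix.coe_units_inv, Matrix.det_nonsing_inv, Matrix.det_nonsing_inv,
          show ((ψ g : GL (Fin 2) F) : Matrix (Fin 2) (Fin 2) F).det = 1 from (slBase σ g).2]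
        simp [Ring.inverse_eq_inv', mul_inv_cancel₀ (Matrix.GeneralLinearGroup.det_ne_zero a)])
    set z := a * (ψ g * a⁻¹ * (ψ g)⁻¹) with hz
    have hzs : IsSc z := ⟨c, hx⟩
    have hzz : z * z = 1 := Units.ext (by
      rw [Units.val_mul, hx, smul_mul_assoc, one_mul, smul_smul, ← pow_two, hc, one_smul, Units.val_one])
    refine commute_of_sq ho ha ?_
    have h1 : a * ψ g * a⁻¹ = z * ψ g := by rw [hz]; group
    show a ^ 2 * ψ g = ψ g * a ^ 2
    calc a ^ 2 * ψ g = a * (a * ψ g * a⁻¹) * a := by rw [pow_two]; group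
      _ = (a * z) * (ψ g * a) := by rw [h1]; group
      _ = z * (a * (ψ g * a)) := by rw [← (hzs.commute a).eq, mul_assoc]
      _ = z * ((a * ψ g * a⁻¹) * a * a) := by group
      _ = (z * z) * (ψ g * a * a) := by rw [h1]; group
      _ = ψ g * a ^ 2 := by rw [hzz, one_mul, pow_two, mul_assoc]
  let u : Matrix.SpecialLinearGroup (Fin 2) K := ⟨!![1, 1; 0, 1], by simp [Matrix.det_fin_two]⟩
  let v : Matrix.SpecialLinearGroup (Fin 2) K := ⟨!![1, 0; 1, 1], by simp [Matrix.det_fin_two]⟩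
  have hu : (a : Matrix (Fin 2) (Fin 2) F) * ((ψ u : GL (Fin 2) F) : Matrix (Fin 2) (Fin 2) F) =
      ((ψ u : GL (Fin 2) F) : Matrix (Fin 2) (Fin 2) F) * (a : Matrix (Fin 2) (Fin 2) F) := by
    rw [← Units.val_mul, ← Units.val_mul, (hcomm u).eq]
  have hv : (a : Matrix (Fin 2) (Fin 2) F) * ((ψ v : GL (Fin 2) F) : Matrix (Fin 2) (Fin 2) F) =
      ((ψ v : GL (Fin 2) F) : Matrix (Fin 2) (Fin 2) F) * (a : Matrix (Fin 2) (Fin 2) F) := by
    rw [← Units.val_mul, ← Units.val_mul, (hcomm v).eq]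
  have u00 := congrFun (congrFun hu 0) 0
  have u01 := congrFun (congrFun hu 0) 1
  have v00 := congrFun (congrFun hv 0) 0
  have hψe : ∀ (g : Matrix.SpecialLinearGroup (Fin 2) K) (i j : Fin 2),
      ((ψ g : GL (Fin 2) F) : Matrix (Fin 2) (Fin 2) F) i j = (((g : Matrix (Fin 2) (Fin 2) K) i j : K) : F) :=
    fun _ _ _ => rfl
  simp only [Matrix.mul_apply, Fin.sum_univ_two, hψe] at u00 u01 v00
  simp [u, v] at u00 u01 v00
  refine ⟨(a : Matrix (Fin 2) (Fin 2) F) 0 0, ?_⟩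
  ext i j
  fin_cases i <;> fin_cases j <;> simp <;>
    first
    | linear_combination u00
    | linear_combination -u00
    | linear_combination v00
    | linear_combination -v00
    | linear_combination u01
    | linear_combination -u01

theorem clean_herm_two (h2 : (2 : F) ≠ 0) {σ : RingAut F} (hσ : σ ≠ 1) (hσ2 : σ ^ 2 = 1) :
    Clean σ (Matrix.diagonal fun _ : Fin 2 => (1 : F)) := by
  obtain ⟨e, he⟩ : ∃ e : F, σ e ≠ e := by
    by_contra h; push Not at h; exact hσ (RingEquiv.ext h)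
  have hσσ : σ * σ = 1 := by rw [← pow_two]; exact hσ2
  have hss : ∀ z, σ (σ z) = z := fun z => RingEquiv.congr_fun hσσ z
  set δ := e - σ e with hδdef
  have hδ : δ ≠ 0 := sub_ne_zero.mpr (Ne.symm he)
  have hσδ : σ δ = -δ := by rw [hδdef, map_sub, hss]; ring
  let g : GL (Fin 2) F := Matrix.GeneralLinearGroup.mkOfDetNeZero (δ • J2 F)
    (by simp [J2, Matrix.det_fin_two, hδ])
  have hgg : ((g : Matrix (Fin 2) (Fin 2) F).map σ)ᵀ = (g : Matrix (Fin 2) (Fin 2) F) := by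
    show ((δ • J2 F).map σ)ᵀ = δ • J2 F
    ext a b
    fin_cases a <;> fin_cases b <;> simp [J2, hσδ]
  have hg : g * starHom σ g = 1 := by
    have h1 : (starHom σ g)⁻¹ = g := by
      apply Units.ext
      rw [← map_inv]
      show ((g⁻¹)⁻¹ : GL (Fin 2) F).val.transpose.map σ = _
      rw [inv_inv, Matrix.transpose_map]
      exact hgg
    conv_lhs => arg 1; rw [← h1]
    rw [inv_mul_cancel]
  obtain ⟨k, hk⟩ := exists_hermitian_eq σ hσ hσ2 g hg
  let P : GL (Fin 2) F := (starHom σ k)⁻¹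
  have hP : (P : Matrix (Fin 2) (Fin 2) F) = ((k : Matrix (Fin 2) (Fin 2) F).map σ)ᵀ := by
    show (((starHom σ k)⁻¹ : GL (Fin 2) F) : Matrix (Fin 2) (Fin 2) F) = _
    rw [← map_inv]
    show ((k⁻¹)⁻¹ : GL (Fin 2) F).val.transpose.map σ = _
    rw [inv_inv, Matrix.transpose_map]
  refine Clean.of_cong P hδ ?_ (clean_J_two h2 σ)
  rw [Matrix.diagonal_one, mul_one]
  have hPk : ((P : Matrix (Fin 2) (Fin 2) F).map σ)ᵀ = (k : Matrix (Fin 2) (Fin 2) F) := by
    rw [hP]; ext a b; simp [hss]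
  rw [hPk]
  exact congrArg Units.val hk

theorem clean_sym_three (h2 : (2 : F) ≠ 0) {d : Fin 3 → F} (hd : ∀ j, d j ≠ 0) :
    Clean (1 : RingAut F) (Matrix.diagonal d) := by
  classical
  intro L hle hn ho a ha
  let e : Fin 3 ≃ Unit ⊕ (Fin 1 ⊕ Fin 1) := Fintype.equivOfCardEq (by simp)
  set T := CfsgLib.GraphInv.oddP F 1
  set S := Matrix.reindex e e (Matrix.diagonal d)
  obtain ⟨P, c, hP⟩ : CfsgLib.GraphInv.Cong S T := by
    refine CfsgLib.GraphInv.cong_symm_odd h2 ?_ CfsgLib.GraphInv.oddP_transpose ?_ ?_ ⟨1, by simp⟩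
    · rw [Matrix.transpose_reindex, Matrix.diagonal_transpose]
    · rw [Matrix.det_reindex_self, Matrix.det_diagonal]; exact Finset.prod_ne_zero_iff.mpr fun j _ => hd j
    · rw [CfsgLib.GraphInv.det_oddP]; simp [h2]
  let φ : GL (Fin 3) F ≃* GL (Unit ⊕ (Fin 1 ⊕ Fin 1)) F :=
    (CfsgLib.GraphInv.glReindex F e).trans (MulAut.conj P⁻¹)
  have hmap1 : ∀ {κ : Type} (M : Matrix κ κ F), M.map (1 : RingAut F) = M := fun M => by ext; rfl
  have hmem : ∀ g, φ g ∈ uGrp (1 : RingAut F) T ↔ g ∈ uGrp (1 : RingAut F) (Matrix.diagonal d) := by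
    intro g
    have hg : ((CfsgLib.GraphInv.glReindex F e g : GL (Unit ⊕ (Fin 1 ⊕ Fin 1)) F) : Matrix (Unit ⊕ (Fin 1 ⊕ Fin 1)) (Unit ⊕ (Fin 1 ⊕ Fin 1)) F) =
        Matrix.reindex e e (g : Matrix (Fin 3) (Fin 3) F) := rfl
    set g' := CfsgLib.GraphInv.glReindex F e g
    have h1 : g ∈ uGrp (1 : RingAut F) (Matrix.diagonal d) ↔ g' ∈ uGrp (1 : RingAut F) S := by
      rw [mem_uGrp, mem_uGrp, hmap1, hmap1, hg, Matrix.transpose_reindex, ← CfsgLib.GraphInv.reindex_mul,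
        ← CfsgLib.GraphInv.reindex_mul]
      exact (Matrix.reindex e e).injective.eq_iff.symm
    rw [h1, mem_uGrp, mem_uGrp, hmap1, hmap1]
    rw [show φ g = P⁻¹ * g' * P⁻¹⁻¹ from rfl]
    rw [inv_inv]
    have hc : (c : F) ≠ 0 := c.ne_zero
    have key : (c : F) • ((((P⁻¹ * g' * P : GL (Unit ⊕ (Fin 1 ⊕ Fin 1)) F) : Matrix (Unit ⊕ (Fin 1 ⊕ Fin 1)) (Unit ⊕ (Fin 1 ⊕ Fin 1)) F))ᵀ * T *
        ((P⁻¹ * g' * P : GL (Unit ⊕ (Fin 1 ⊕ Fin 1)) F) : Matrix (Unit ⊕ (Fin 1 ⊕ Fin 1)) (Unit ⊕ (Fin 1 ⊕ Fin 1)) F)) =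
        (P : Matrix (Unit ⊕ (Fin 1 ⊕ Fin 1)) (Unit ⊕ (Fin 1 ⊕ Fin 1)) F)ᵀ * ((g' : Matrix (Unit ⊕ (Fin 1 ⊕ Fin 1)) (Unit ⊕ (Fin 1 ⊕ Fin 1)) F)ᵀ * S *
          (g' : Matrix (Unit ⊕ (Fin 1 ⊕ Fin 1)) (Unit ⊕ (Fin 1 ⊕ Fin 1)) F)) * (P : Matrix (Unit ⊕ (Fin 1 ⊕ Fin 1)) (Unit ⊕ (Fin 1 ⊕ Fin 1)) F) := by
      rw [← smul_mul_assoc, ← mul_smul_comm, ← hP, Units.val_mul, Units.val_mul, transpose_mul, transpose_mul]
      have hX : ∀ X : Matrix (Unit ⊕ (Fin 1 ⊕ Fin 1)) (Unit ⊕ (Fin 1 ⊕ Fin 1)) F, ((P⁻¹ : GL (Unit ⊕ (Fin 1 ⊕ Fin 1)) F) : Matrix (Unit ⊕ (Fin 1 ⊕ Fin 1)) (Unit ⊕ (Fin 1 ⊕ Fin 1)) F)ᵀ *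
          ((P : Matrix (Unit ⊕ (Fin 1 ⊕ Fin 1)) (Unit ⊕ (Fin 1 ⊕ Fin 1)) F)ᵀ * X) = X := fun X => by
        rw [← mul_assoc, ← transpose_mul, P.mul_inv, transpose_one, one_mul]
      simp only [mul_assoc, hX, P.mul_inv_cancel_left]
    constructor
    · intro h
      rw [h, ← hP] at key
      obtain ⟨U, hU⟩ : IsUnit (P : Matrix (Unit ⊕ (Fin 1 ⊕ Fin 1)) (Unit ⊕ (Fin 1 ⊕ Fin 1)) F)ᵀ := by
        rw [Matrix.isUnit_transpose]; exact P.isUnit
      rw [← hU] at key
      exact (U.mul_right_inj.mp (P.mul_left_inj.mp key)).symm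
    · intro h
      rw [h, hP] at key
      exact smul_right_injective _ hc key
  have hcen := fun g hg => clean_oddP h2 (a := φ a) (L.map φ.toMonoidHom)
    (by rintro _ ⟨b, hb, rfl⟩; exact (hmem b).mpr (hle hb))
    (by
      intro g hg
      rintro _ ⟨b, hb, rfl⟩
      exact ⟨φ.symm g * b * (φ.symm g)⁻¹, hn _ ((hmem _).mp (by rwa [φ.apply_symm_apply])) b hb, by simp⟩)
    (by
      rintro _ ⟨b, hb, rfl⟩
      obtain ⟨k, hk, hb'⟩ := ho b hb
      refine ⟨k, hk, ?_⟩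
      obtain ⟨x, hx⟩ := hb'
      rw [MulEquiv.coe_toMonoidHom, ← map_pow]
      show IsSc (P⁻¹ * CfsgLib.GraphInv.glReindex F e (b ^ k) * P⁻¹⁻¹)
      have hs : IsSc (CfsgLib.GraphInv.glReindex F e (b ^ k)) := ⟨x, by
        show Matrix.reindex e e ((b ^ k : GL (Fin 3) F) : Matrix (Fin 3) (Fin 3) F) = _
        rw [hx, CfsgLib.GraphInv.reindex_smul]; simp⟩
      rw [← (hs.commute P⁻¹).eq, mul_inv_cancel_right]
      exact hs)
    ⟨a, ha, rfl⟩ g hg
  have hcomm : ∀ g ∈ uGrp (1 : RingAut F) (Matrix.diagonal d), Commute a g := fun g hg => by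
    have h := (hcen (φ g) ((hmem g).mpr hg)).eq
    rw [← map_mul, ← map_mul] at h
    exact φ.injective h
  refine isSc_of_sq ho ha ?_
  have hoff : ∀ p q : Fin 3, p ≠ q → (a : Matrix (Fin 3) (Fin 3) F) p q = 0 := by
    intro p q hpq
    have h : ((a * refl (k := 2) p : GL (Fin 3) F) : Matrix (Fin 3) (Fin 3) F) p q =
        ((refl (k := 2) p * a : GL (Fin 3) F) : Matrix (Fin 3) (Fin 3) F) p q := by
      rw [(hcomm _ (refl_mem d hd p)).eq]
    simp [Units.val_mul, Matrix.mul_apply, refl_apply, hpq.symm] at h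
    have h3 : (2 : F) * (a : Matrix (Fin 3) (Fin 3) F) p q = 0 := by linear_combination h
    exact (mul_eq_zero.mp h3).resolve_left h2
  have hm := mem_uGrp.mp (hle ha)
  rw [hmap1] at hm
  have hdiag : ∀ p, (a : Matrix (Fin 3) (Fin 3) F) p p * (a : Matrix (Fin 3) (Fin 3) F) p p = 1 := fun p => by
    have h := congrFun (congrFun hm p) p
    rw [Matrix.mul_apply, Finset.sum_eq_single p (fun w _ hw => by rw [hoff w p hw, mul_zero]) (by simp),
      Matrix.mul_diagonal, Matrix.transpose_apply, Matrix.diagonal_apply_eq] at h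
    exact mul_left_cancel₀ (hd p) (by rw [mul_one]; linear_combination h)
  refine ⟨1, ?_⟩
  rw [one_smul, pow_two, Units.val_mul]
  ext p q
  rw [Matrix.mul_apply, Finset.sum_eq_single p (fun w _ hw => by rw [hoff p w hw.symm, zero_mul]) (by simp)]
  rcases eq_or_ne p q with rfl | hpq
  · rw [hdiag, Matrix.one_apply_eq]
  · rw [hoff p q hpq, mul_zero, Matrix.one_apply_ne hpq]

theorem clean_sym (h2 : (2 : F) ≠ 0) : ∀ {n : ℕ}, 3 ≤ n → ∀ {d : Fin n → F}, (∀ j, d j ≠ 0) →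
    Clean (1 : RingAut F) (Matrix.diagonal d) := by
  intro n hn
  induction n, hn using Nat.le_induction with
  | base => exact fun hd => clean_sym_three h2 hd
  | succ k hk ih => exact fun hd => clean_diag_succ h2 (by omega) hd (Or.inl rfl) fun i => ih fun j => hd _

theorem clean_herm (h2 : (2 : F) ≠ 0) {σ : RingAut F} (hσ : σ ≠ 1) (hσ2 : σ ^ 2 = 1) :
    ∀ {n : ℕ}, 2 ≤ n → Clean σ (Matrix.diagonal fun _ : Fin n => (1 : F)) := by
  intro n hn
  induction n, hn using Nat.le_induction with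
  | base => exact clean_herm_two h2 hσ hσ2
  | succ k hk ih => exact clean_diag_succ h2 hk (fun _ => one_ne_zero) (Or.inr fun _ => rfl) fun _ => ih

end CfsgLib.LocalBal
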