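import Cfsg.Agent.LocalBal.DiagStep

/-!
Odd normal subgroups of diagonal isometry groups are scalar: the induction.
-/

set_option autoImplicit false
set_option linter.unusedSectionVars false

open Matrix

namespace CfsgLib.LocalBal

variable {F : Type*} [Field F] {k : ℕ}

theorem blk_mem_uGrp {σ : RingAut F} {d : Fin (k + 1) → F} (i : Fin (k + 1)) {g : GL (Fin (k + 1)) F}
    {α : F} {X : GL (Fin k) F} (hg : (g : Matrix (Fin (k + 1)) (Fin (k + 1)) F) = blk i α X) (hd : d i ≠ 0) :
    g ∈ uGrp σ (Matrix.diagonal d) ↔ σ α * α = 1 ∧ X ∈ uGrp σ (Matrix.diagonal (d ∘ i.succAbove)) := by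
  rw [mem_uGrp, mem_uGrp, hg, blk_map, blk_transpose, blk_diagonal i d, blk_mul, blk_mul]
  constructor
  · intro h
    obtain ⟨h1, h2⟩ := blk_inj i h
    refine ⟨mul_right_cancel₀ hd ?_, h2⟩
    rw [one_mul]
    linear_combination h1
  · rintro ⟨h1, h2⟩
    rw [h2, show σ α * d i * α = d i by linear_combination d i * h1]

theorem refl_mem {σ : RingAut F} (d : Fin (k + 1) → F) (hd : ∀ j, d j ≠ 0) (i : Fin (k + 1)) :
    (refl i : GL (Fin (k + 1)) F) ∈ uGrp σ (Matrix.diagonal d) :=
  (blk_mem_uGrp i (X := 1) rfl (hd i)).mpr ⟨by simp, one_mem _⟩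

/-- Invertibility of the blocks of an invertible block matrix. -/
theorem exists_blk {a : GL (Fin (k + 1)) F} (i : Fin (k + 1)) (h2 : (2 : F) ≠ 0) (ha : Commute a (refl i)) :
    ∃ (α : F) (X : GL (Fin k) F), (a : Matrix (Fin (k + 1)) (Fin (k + 1)) F) = blk i α X := by
  have hb : ∀ b : GL (Fin (k + 1)) F, Commute b (refl i) →
      ∃ (α : F) (X : Matrix (Fin k) (Fin k) F), (b : Matrix (Fin (k + 1)) (Fin (k + 1)) F) = blk i α X := by
    intro b hb
    have h : (b : Matrix (Fin (k + 1)) (Fin (k + 1)) F) * (refl i : GL (Fin (k + 1)) F) =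
        ((refl i : GL (Fin (k + 1)) F) : Matrix (Fin (k + 1)) (Fin (k + 1)) F) * b := congrArg Units.val hb.eq
    have h' : ∀ x y, (b : Matrix (Fin (k + 1)) (Fin (k + 1)) F) x y * (if y = i then -1 else 1) =
        (if x = i then -1 else 1) * (b : Matrix (Fin (k + 1)) (Fin (k + 1)) F) x y := fun x y => by
      have := congrFun (congrFun h x) y
      simp only [Matrix.mul_apply, refl_apply, mul_ite, mul_zero, ite_mul, zero_mul, Finset.sum_ite_eq,
        Finset.sum_ite_eq', Finset.mem_univ, if_true] at this
      simp only [mul_ite, ite_mul]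
      exact this
    have hz : ∀ x : F, (-x = x ∨ x = -x) → x = 0 := fun x hx => by
      have h3 : (2 : F) * x = 0 := by
        rcases hx with e | e
        · linear_combination -e
        · linear_combination e
      exact (mul_eq_zero.mp h3).resolve_left h2
    refine ⟨_, _, eq_blk i (fun y => hz _ ?_) (fun x => hz _ ?_)⟩
    · right; simpa [Fin.succAbove_ne] using h' i (i.succAbove y)
    · left; simpa [Fin.succAbove_ne] using h' (i.succAbove x) i
  obtain ⟨α, X, hX⟩ := hb a ha
  obtain ⟨β, Y, hY⟩ := hb a⁻¹ ha.inv_left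
  have h1 : blk i α X * blk i β Y = blk i (1 : F) 1 := by rw [← hX, ← hY, a.mul_inv, blk_one]
  have h3 : blk i β Y * blk i α X = blk i (1 : F) 1 := by rw [← hX, ← hY, a.inv_mul, blk_one]
  rw [blk_mul] at h1 h3
  exact ⟨α, ⟨X, Y, (blk_inj i h1).2, (blk_inj i h3).2⟩, hX⟩

variable [Finite F]

/-- Permutation matrix of a transposition. -/
noncomputable def swapGL {n : ℕ} (a b : Fin n) : GL (Fin n) F :=
  ⟨(Equiv.swap a b).permMatrix F, (Equiv.swap a b).permMatrix F,
    by rw [← Matrix.permMatrix_mul, Equiv.swap_mul_self, Matrix.permMatrix_one],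
    by rw [← Matrix.permMatrix_mul, Equiv.swap_mul_self, Matrix.permMatrix_one]⟩

theorem swapGL_conj {n : ℕ} (a b : Fin n) (M : Matrix (Fin n) (Fin n) F) (x y : Fin n) :
    (((swapGL a b : GL (Fin n) F) : Matrix (Fin n) (Fin n) F) * M *
      ((swapGL a b : GL (Fin n) F) : Matrix (Fin n) (Fin n) F)) x y = M (Equiv.swap a b x) (Equiv.swap a b y) := by
  show ((Equiv.swap a b).permMatrix F * M * (Equiv.swap a b).permMatrix F) x y = _
  rw [Equiv.Perm.permMatrix, PEquiv.toMatrix_toPEquiv_mul, PEquiv.mul_toMatrix_toPEquiv]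
  simp

theorem swapGL_mem {n : ℕ} {σ : RingAut F} (a b : Fin n) :
    (swapGL a b : GL (Fin n) F) ∈ uGrp σ (Matrix.diagonal fun _ => (1 : F)) := by
  rw [mem_uGrp, Matrix.diagonal_one, mul_one]
  show (((Equiv.swap a b).permMatrix F).map σ)ᵀ * (Equiv.swap a b).permMatrix F = 1
  rw [show ((Equiv.swap a b).permMatrix F).map σ = (Equiv.swap a b).permMatrix F by
      ext x y; simp [Equiv.Perm.permMatrix, PEquiv.toMatrix_apply, apply_ite σ],
    Matrix.transpose_permMatrix, Equiv.swap_inv, ← Matrix.permMatrix_mul, Equiv.swap_mul_self,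
    Matrix.permMatrix_one]

/-- The inductive step. -/
theorem clean_diag_succ {σ : RingAut F} (h2 : (2 : F) ≠ 0) (hk : 2 ≤ k) {d : Fin (k + 1) → F}
    (hd : ∀ j, d j ≠ 0) (hcase : σ = 1 ∨ ∀ j, d j = 1)
    (ih : ∀ i : Fin (k + 1), Clean σ (Matrix.diagonal (d ∘ i.succAbove))) :
    Clean σ (Matrix.diagonal d) := by
  classical
  have : NeZero k := ⟨by omega⟩
  intro L hle hn ho
  -- elements commuting with a reflection
  have key : ∀ i, ∀ a ∈ L, Commute a (refl i) → ∃ α β : F, σ α * α = 1 ∧ σ β * β = 1 ∧
      (a : Matrix (Fin (k + 1)) (Fin (k + 1)) F) = blk i α (β • 1) := by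
    intro i a ha hc
    obtain ⟨α, X, hX⟩ := exists_blk i h2 hc
    obtain ⟨hα, hXm⟩ := (blk_mem_uGrp i hX (hd i)).mp (hle ha)
    let L' : Subgroup (GL (Fin k) F) :=
      { carrier := {Y | ∃ b ∈ L, ∃ β : F, (b : Matrix (Fin (k + 1)) (Fin (k + 1)) F) = blk i β Y}
        one_mem' := ⟨1, one_mem _, 1, by rw [Units.val_one, Units.val_one, blk_one]⟩
        mul_mem' := by
          rintro Y Z ⟨b, hb, β, hβ⟩ ⟨c, hc, γ, hγ⟩
          exact ⟨b * c, mul_mem hb hc, β * γ, by rw [Units.val_mul, Units.val_mul, hβ, hγ, blk_mul]⟩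
        inv_mem' := by
          rintro Y ⟨b, hb, β, hβ⟩
          have hc : Commute b (refl i) := Units.ext (by
            show (b : Matrix (Fin (k + 1)) (Fin (k + 1)) F) * blk i (-1 : F) 1 =
              blk i (-1 : F) 1 * (b : Matrix (Fin (k + 1)) (Fin (k + 1)) F)
            rw [hβ, blk_mul, blk_mul, mul_one, one_mul, mul_comm β])
          obtain ⟨γ, Z, hZ⟩ := exists_blk i h2 hc.inv_left
          have h1 : blk i (β * γ) ((Y : Matrix (Fin k) (Fin k) F) * Z) = blk i (1 : F) 1 := by
            rw [← blk_mul, ← hβ, ← hZ, b.mul_inv, blk_one]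
          have hZY : Z = Y⁻¹ := eq_inv_of_mul_eq_one_right (Units.ext (blk_inj i h1).2)
          exact ⟨b⁻¹, inv_mem hb, γ, hZY ▸ hZ⟩ }
    obtain ⟨β, hβ⟩ := ih i L'
      (fun Y hY => by
        obtain ⟨b, hb, β, hβ⟩ := hY
        exact ((blk_mem_uGrp i hβ (hd i)).mp (hle hb)).2)
      (fun g hg Y hY => by
        obtain ⟨b, hb, β, hβ⟩ := hY
        let g' : GL (Fin (k + 1)) F :=
          ⟨blk i 1 g, blk i 1 ↑g⁻¹, by rw [blk_mul, mul_one, g.mul_inv, blk_one],
            by rw [blk_mul, mul_one, g.inv_mul, blk_one]⟩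
        refine ⟨g' * b * g'⁻¹, hn g' ((blk_mem_uGrp i (g := g') rfl (hd i)).mpr ⟨by simp, hg⟩) b hb, β, ?_⟩
        show blk i 1 (g : Matrix (Fin k) (Fin k) F) * (b : Matrix (Fin (k + 1)) (Fin (k + 1)) F) *
          blk i 1 ↑g⁻¹ = _
        rw [hβ, blk_mul, blk_mul, one_mul, mul_one, Units.val_mul, Units.val_mul])
      (fun Y hY => by
        obtain ⟨b, hb, β, hβ⟩ := hY
        obtain ⟨m, hm, c, hc⟩ := ho b hb
        refine ⟨m, hm, c, ?_⟩
        have hp : ∀ m : ℕ, ((b ^ m : GL (Fin (k + 1)) F) : Matrix (Fin (k + 1)) (Fin (k + 1)) F) =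
            blk i (β ^ m) ↑(Y ^ m) := fun m => by
          induction m with
          | zero => rw [pow_zero, pow_zero, pow_zero, Units.val_one, Units.val_one, blk_one]
          | succ m ihm => rw [pow_succ, pow_succ, pow_succ, Units.val_mul, Units.val_mul, ihm, hβ, blk_mul]
        rw [hp] at hc
        ext x y
        have := congrFun (congrFun hc (i.succAbove x)) (i.succAbove y)
        rw [blk_ss] at this
        rw [this]
        simp [Matrix.one_apply]) X ⟨a, ha, α, hX⟩
    refine ⟨α, β, hα, ?_, by rw [hX, hβ]⟩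
    have hd' : (d ∘ i.succAbove) 0 ≠ 0 := hd _
    rw [mem_uGrp, hβ] at hXm
    have h := congrFun (congrFun hXm 0) 0
    simp [Matrix.mul_apply, Matrix.one_apply, Matrix.diagonal] at h
    exact mul_right_cancel₀ hd' (by rw [one_mul]; simp only [Function.comp_apply]; linear_combination h)
  -- their squares are scalar
  have hA : ∀ i, ∀ a ∈ L, Commute a (refl i) → IsSc a := by
    intro i a ha hc
    refine isSc_of_sq ho ha ?_
    obtain ⟨α, β, hα, hβ, hab⟩ := key i a ha hc
    have hsq : ((a ^ 2 : GL (Fin (k + 1)) F) : Matrix (Fin (k + 1)) (Fin (k + 1)) F) =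
        blk i (α ^ 2) ((β ^ 2) • 1) := by
      rw [pow_two, Units.val_mul, hab, blk_mul, ← pow_two, smul_mul_assoc, one_mul, smul_smul, ← pow_two]
    have hsq' : α ^ 2 = β ^ 2 := by
      rcases hcase with hσ | hd1
      · subst hσ
        rw [RingAut.one_apply] at hα hβ
        rw [pow_two, pow_two, hα, hβ]
      · obtain ⟨y, hy⟩ : ∃ y : Fin (k + 1), y ≠ i := ⟨i.succAbove 0, Fin.succAbove_ne _ _⟩
        obtain ⟨l, hli, hly⟩ : ∃ l : Fin (k + 1), l ≠ i ∧ l ≠ y := by
          have hc3 : ({i, y} : Finset (Fin (k + 1))).card < Fintype.card (Fin (k + 1)) := by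
            rw [Fintype.card_fin]; have := (Finset.card_le_two (a := i) (b := y)); omega
          obtain ⟨l, -, hl⟩ := Finset.exists_mem_notMem_of_card_lt_card (s := ({i, y} : Finset _))
            (t := Finset.univ) (by rwa [Finset.card_univ])
          simp only [Finset.mem_insert, Finset.mem_singleton, not_or] at hl
          exact ⟨l, hl⟩
        have hdc : d = fun _ => 1 := funext hd1
        set P : GL (Fin (k + 1)) F := swapGL i y
        have hP : P * P = 1 := Units.ext (by
          show (Equiv.swap i y).permMatrix F * (Equiv.swap i y).permMatrix F = 1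
          rw [← Matrix.permMatrix_mul, Equiv.swap_mul_self, Matrix.permMatrix_one])
        have hPi : P⁻¹ = P := inv_eq_of_mul_eq_one_right hP
        have haj : P * a * P ∈ L := by
          have := hn P (by rw [hdc]; exact swapGL_mem i y) a ha
          rwa [hPi] at this
        obtain ⟨α', β', -, -, hab'⟩ := key l (a⁻¹ * (P * a * P)) (mul_mem (inv_mem ha) haj) (by
          have hdiag : ∀ p q : Fin (k + 1), p ≠ q → (a : Matrix (Fin (k + 1)) (Fin (k + 1)) F) p q = 0 := by
            intro p q hpq
            rw [hab]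
            rcases Fin.eq_self_or_eq_succAbove i p with hp | ⟨p', rfl⟩
            · subst hp
              rcases Fin.eq_self_or_eq_succAbove p q with hq | ⟨q', rfl⟩
              · exact absurd hq.symm hpq
              · rw [blk_is]
            · rcases Fin.eq_self_or_eq_succAbove i q with hq | ⟨q', rfl⟩
              · subst hq; rw [blk_si]
              · rw [blk_ss, Matrix.smul_apply, Matrix.one_apply_ne (fun e : p' = q' => hpq (by rw [e])), smul_zero]
          have c1 : Commute a (refl l) := Units.ext (by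
            ext p q
            simp only [Units.val_mul, Matrix.mul_apply, refl_apply, mul_ite, mul_zero, ite_mul, zero_mul,
              Finset.sum_ite_eq, Finset.sum_ite_eq', Finset.mem_univ, if_true]
            rcases eq_or_ne p q with rfl | hpq
            · split_ifs <;> ring
            · simp [hdiag p q hpq])
          have c2 : Commute (P * a * P) (refl l) := Units.ext (by
            ext p q
            simp only [Units.val_mul, Matrix.mul_apply, refl_apply, mul_ite, mul_zero, ite_mul, zero_mul,
              Finset.sum_ite_eq, Finset.sum_ite_eq', Finset.mem_univ, if_true]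
            have e := fun p q => swapGL_conj i y (a : Matrix (Fin (k + 1)) (Fin (k + 1)) F) p q
            simp only [Matrix.mul_apply] at e
            rw [e]
            rcases eq_or_ne p q with rfl | hpq
            · split_ifs <;> ring
            · simp [hdiag _ _ ((Equiv.swap i y).injective.ne hpq)])
          exact c1.inv_left.mul_left c2)
        have e : ∀ z, ((P * a * P : GL (Fin (k + 1)) F) : Matrix (Fin (k + 1)) (Fin (k + 1)) F) z z =
            (a : Matrix (Fin (k + 1)) (Fin (k + 1)) F) z z *
              ((a⁻¹ * (P * a * P) : GL (Fin (k + 1)) F) : Matrix (Fin (k + 1)) (Fin (k + 1)) F) z z := by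
          intro z
          conv_lhs => rw [← mul_inv_cancel_left a (P * a * P), Units.val_mul]
          rw [hab', Matrix.mul_apply, Finset.sum_eq_single z]
          · intro w _ hw
            rcases Fin.eq_self_or_eq_succAbove l z with hz | ⟨z', rfl⟩
            · subst hz
              rcases Fin.eq_self_or_eq_succAbove z w with hw' | ⟨w', rfl⟩
              · exact absurd hw' hw
              · rw [blk_si, mul_zero]
            · rcases Fin.eq_self_or_eq_succAbove l w with hw' | ⟨w', rfl⟩
              · subst hw'; rw [blk_is, mul_zero]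
              · rw [blk_ss, Matrix.smul_apply, Matrix.one_apply_ne (fun e : w' = z' => hw (by rw [e])), smul_zero,
                  mul_zero]
          · simp
        have hai : (a : Matrix (Fin (k + 1)) (Fin (k + 1)) F) i i = α := by rw [hab, blk_ii]
        obtain ⟨y', rfl⟩ := Fin.exists_succAbove_eq hy
        have hay : (a : Matrix (Fin (k + 1)) (Fin (k + 1)) F) (i.succAbove y') (i.succAbove y') = β := by
          rw [hab, blk_ss]; simp
        obtain ⟨i', hi'⟩ := Fin.exists_succAbove_eq (Ne.symm hli)
        obtain ⟨z', hz'⟩ := Fin.exists_succAbove_eq (Ne.symm hly)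
        have e1 := e i
        have e2 := e (i.succAbove y')
        rw [Units.val_mul, Units.val_mul, swapGL_conj, Equiv.swap_apply_left, hai, hay, hab', ← hi', blk_ss] at e1
        rw [Units.val_mul, Units.val_mul, swapGL_conj, Equiv.swap_apply_right, hai, hay, hab', ← hz', blk_ss] at e2
        simp at e1 e2
        rw [e1] at e2
        linear_combination α * e2 - (β + α * β') * e1
    exact ⟨β ^ 2, by
      rw [hsq, hsq', ← mul_one (β ^ 2)]
      nth_rewrite 1 [← smul_eq_mul]
      rw [← blk_one i]
      ext p q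
      rcases Fin.eq_self_or_eq_succAbove i p with hp | ⟨p', rfl⟩ <;>
        rcases Fin.eq_self_or_eq_succAbove i q with hq | ⟨q', rfl⟩ <;>
        (try subst p) <;> (try subst q) <;>
        simp [blk_ii, blk_is, blk_si, blk_ss]⟩
  -- every element commutes with products of two reflections
  intro a ha
  have hcomm : ∀ i j, Commute a (refl i * refl j) := by
    intro i j
    set t : GL (Fin (k + 1)) F := refl i * refl j
    have hij : Commute (refl i : GL (Fin (k + 1)) F) (refl j) := Units.ext (by
      ext p q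
      simp only [Units.val_mul, Matrix.mul_apply, refl_apply, mul_ite, mul_zero, ite_mul, zero_mul,
        Finset.sum_ite_eq, Finset.sum_ite_eq', Finset.mem_univ, if_true]
      rcases eq_or_ne p q with rfl | hpq
      · split_ifs <;> ring
      · simp [hpq])
    have htt : t * t = 1 := by
      show refl i * refl j * (refl i * refl j) = _
      rw [hij.symm.mul_mul_mul_comm, refl_mul_self, refl_mul_self, one_mul]
    have hinv : ∀ l, ∀ b ∈ L, (refl l) * b * (refl l) ∈ L := fun l b hb => by
      have := hn _ (refl_mem d hd l) b hb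
      rwa [inv_eq_of_mul_eq_one_right (refl_mul_self l)] at this
    have z1 := isSc_conj_mul ho (refl j) (refl_mul_self j) (hinv j) (hA j) ha
    have z2 := isSc_conj_mul ho (refl i) (refl_mul_self i) (hinv i) (hA i) (hinv j a ha)
    set u := refl j * a * refl j
    set v := t * a * t
    have hv : v = refl i * u * refl i := by
      show refl i * refl j * a * (refl i * refl j) = refl i * (refl j * a * refl j) * refl i
      rw [hij.eq]
      nth_rewrite 1 [← hij.eq]
      simp only [mul_assoc]
    rw [← hv] at z2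
    -- `a⁻¹ v` is scalar
    have hz : IsSc (a⁻¹ * v) := by
      have e : a⁻¹ * v = a⁻¹ * (v * u) * (a * (u * a)⁻¹) := by group
      have h := z2.mul z1.inv
      rw [e, ← (z2.commute a⁻¹).eq, mul_assoc, inv_mul_cancel_left]
      exact h
    refine commute_of_sq ho ha ?_
    set z := a⁻¹ * v
    have h1 : t * a * t = a * z := by rw [mul_inv_cancel_left]
    have h3 : t * z * t = z := by rw [← (hz.commute t).eq, mul_assoc, htt, mul_one]
    have h5 : a = a * (z * z) := by
      conv_lhs => rw [show a = t * (t * a * t) * t by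
        simp only [mul_assoc, htt, mul_one]; rw [← mul_assoc, htt, one_mul]]
      rw [h1, show t * (a * z) * t = (t * a * t) * (t * z * t) by
        simp only [mul_assoc]; rw [← mul_assoc t t (z * t), htt, one_mul], h1, h3, mul_assoc]
    show a ^ 2 * t = t * a ^ 2
    have h7 : t * a ^ 2 * t = (t * a * t) * (t * a * t) := by
      rw [pow_two]; simp only [mul_assoc]; rw [← mul_assoc t t (a * t), htt, one_mul]
    have h6 : t * a ^ 2 * t = a ^ 2 := by
      rw [h7, h1, mul_assoc, ← mul_assoc z, (hz.commute _).eq, mul_assoc a z z, left_eq_mul.mp h5,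
        mul_one, pow_two]
    conv_lhs => rw [← h6]
    rw [mul_assoc, htt, mul_one]
  refine hA 0 a ha (Units.ext ?_)
  ext p q
  simp only [Units.val_mul, Matrix.mul_apply, refl_apply, mul_ite, mul_zero, ite_mul, zero_mul,
    Finset.sum_ite_eq, Finset.sum_ite_eq', Finset.mem_univ, if_true]
  rcases eq_or_ne p q with rfl | hpq
  · split_ifs <;> ring
  · obtain ⟨l, hlp, hlq⟩ : ∃ l : Fin (k + 1), l ≠ p ∧ l ≠ q := by
      obtain ⟨l, -, hl⟩ := Finset.exists_mem_notMem_of_card_lt_card (s := ({p, q} : Finset _))
        (t := Finset.univ) (by rw [Finset.card_univ, Fintype.card_fin]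
                               have := (Finset.card_le_two (a := p) (b := q)); omega)
      simp only [Finset.mem_insert, Finset.mem_singleton, not_or] at hl
      exact ⟨l, hl⟩
    have ht : ((refl p * refl l : GL (Fin (k + 1)) F) : Matrix (Fin (k + 1)) (Fin (k + 1)) F) =
        Matrix.diagonal fun x => if x = p ∨ x = l then -1 else 1 := by
      ext x y
      rw [Units.val_mul, Matrix.mul_apply, Finset.sum_eq_single x (fun w _ hw => by simp [refl_apply, Ne.symm hw])
        (by simp), refl_apply, refl_apply, Matrix.diagonal_apply]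
      rcases eq_or_ne x y with rfl | hxy
      · rcases eq_or_ne x p with rfl | hxp
        · simp [Ne.symm hlp]
        · simp [hxp]
      · simp [hxy]
    have h : ((a * (refl p * refl l) : GL (Fin (k + 1)) F) : Matrix (Fin (k + 1)) (Fin (k + 1)) F) p q =
        ((refl p * refl l * a : GL (Fin (k + 1)) F) : Matrix (Fin (k + 1)) (Fin (k + 1)) F) p q := by
      rw [(hcomm p l).eq]
    rw [Units.val_mul, Units.val_mul (refl p * refl l), ht, Matrix.mul_diagonal, Matrix.diagonal_mul,
      if_neg (by simp [Ne.symm hpq, Ne.symm hlq]), if_pos (Or.inl rfl)] at h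
    have h0 : (a : Matrix (Fin (k + 1)) (Fin (k + 1)) F) p q = 0 := by
      have h3 : (2 : F) * (a : Matrix (Fin (k + 1)) (Fin (k + 1)) F) p q = 0 := by linear_combination h
      exact (mul_eq_zero.mp h3).resolve_left h2
    simp [h0]

end CfsgLib.LocalBal
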