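import Cfsg.Agent.LocalBal.DiagClean
import Cfsg.Agent.LocalBal.Field
import Cfsg.Agent.AutPSL.RootGroup

/-!
Semilinear maps of odd order fixing a diagonal isometry group pointwise are trivial.
-/

set_option autoImplicit false
set_option linter.unusedSectionVars false
set_option linter.style.haveILetI false

open Matrix

namespace CfsgLib.LocalBal

open CfsgLib.AutPSL

variable {F : Type*} [Field F] [Finite F]

/-- `x ↦ h τ(x) h⁻¹` fixes, modulo scalars, the isometries of determinant one with entries fixed by `σ`. -/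
def Fixes {n : ℕ} (σ : RingAut F) (S : Matrix (Fin n) (Fin n) F) (h : GL (Fin n) F) (τ : RingAut F) : Prop :=
  ∀ g ∈ uGrp σ S, (g : Matrix (Fin n) (Fin n) F).map σ = (g : Matrix (Fin n) (Fin n) F) →
    (g : Matrix (Fin n) (Fin n) F).det = 1 →
    ∃ c : F, (h : Matrix (Fin n) (Fin n) F) * (g : Matrix (Fin n) (Fin n) F).map τ =
      c • ((g : Matrix (Fin n) (Fin n) F) * (h : Matrix (Fin n) (Fin n) F))

theorem smul_eq_self_of_ne {n : ℕ} {M : Matrix (Fin n) (Fin n) F} (hM : IsUnit M) [NeZero n] {c : F}
    (h : c • M = M) : c = 1 := by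
  obtain ⟨U, rfl⟩ := hM
  have h1 := congrArg (fun X : Matrix (Fin n) (Fin n) F => X * ((U⁻¹ : (Matrix (Fin n) (Fin n) F)ˣ) : Matrix _ _ F)) h
  simp only [smul_mul_assoc, U.mul_inv] at h1
  simpa using congrFun (congrFun h1 0) 0

/-- An odd semilinear map fixing an involution over the prime field up to a scalar fixes it. -/
theorem commute_invol {n : ℕ} [NeZero n] {τ : RingAut F} {h : GL (Fin n) F} {k : ℕ} (hk : Odd k)
    (hP : IsSc (twistProd τ h k)) (t : GL (Fin n) F) (ht2 : t * t = 1)
    (htτ : (t : Matrix (Fin n) (Fin n) F).map τ = (t : Matrix (Fin n) (Fin n) F)) {c : F}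
    (hc : (h : Matrix (Fin n) (Fin n) F) * (t : Matrix (Fin n) (Fin n) F).map τ =
      c • ((t : Matrix (Fin n) (Fin n) F) * (h : Matrix (Fin n) (Fin n) F))) : Commute h t := by
  rw [htτ] at hc
  set H := (h : Matrix (Fin n) (Fin n) F)
  set T := (t : Matrix (Fin n) (Fin n) F)
  have hTT : T * T = 1 := congrArg Units.val ht2
  have hc2 : c * c = 1 := by
    refine smul_eq_self_of_ne (M := H) h.isUnit ?_
    have e : (H * T) * T = H := by rw [mul_assoc, hTT, mul_one]
    rw [hc, smul_mul_assoc, mul_assoc, hc, mul_smul_comm, smul_smul, ← mul_assoc, hTT, one_mul] at e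
    exact e
  have hτc : τ c = c := by
    rcases mul_self_eq_one_iff.mp hc2 with rfl | rfl <;> simp
  have hiter : ∀ j, (twistProd τ h j : Matrix (Fin n) (Fin n) F) * T =
      c ^ j • (T * (twistProd τ h j : Matrix (Fin n) (Fin n) F)) := by
    intro j
    induction j with
    | zero => simp [twistProd_zero]
    | succ j ih =>
      have e := congrArg (fun M : Matrix (Fin n) (Fin n) F => M.map τ) ih
      simp only [Matrix.map_mul] at e
      rw [show ∀ (x : F) (M : Matrix (Fin n) (Fin n) F), (x • M).map τ = τ x • M.map τ from fun x M => by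
        ext a b; simp, htτ, map_pow, hτc, Matrix.map_mul, htτ] at e
      rw [twistProd_succ, Units.val_mul, coe_glMap, mul_assoc, e, mul_smul_comm, ← mul_assoc, hc, smul_mul_assoc,
        smul_smul, mul_assoc, ← pow_succ]
  have hck : c ^ k = 1 := by
    have e := hiter k
    have hT : (twistProd τ h k : Matrix (Fin n) (Fin n) F) * T = T * (twistProd τ h k : Matrix (Fin n) (Fin n) F) := by
      rw [← Units.val_mul, ← Units.val_mul, (hP.commute t).eq]
    rw [hT] at e
    exact smul_eq_self_of_ne (t * twistProd τ h k).isUnit e.symm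
  obtain ⟨j, rfl⟩ := hk
  rw [pow_succ, pow_mul, pow_two, hc2, one_pow, one_mul] at hck
  subst hck
  exact Units.ext (by rw [one_smul] at hc; exact hc)

/-- The reflection in a vector with entries fixed by `σ`. -/
def rflMat {n : ℕ} (d u : Fin n → F) : Matrix (Fin n) (Fin n) F :=
  1 + Matrix.vecMulVec ((-(2 * (u ⬝ᵥ fun p => d p * u p)⁻¹)) • u) (fun p => d p * u p)

theorem rflMat_apply {n : ℕ} (d u : Fin n → F) (p q : Fin n) :
    rflMat d u p q = (if p = q then 1 else 0) + -(2 * (u ⬝ᵥ fun p => d p * u p)⁻¹) * u p * (d q * u q) := by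
  simp [rflMat, Matrix.add_apply, Matrix.one_apply, Matrix.vecMulVec_apply, mul_assoc]

theorem rflMat_map {n : ℕ} {σ : RingAut F} (d u : Fin n → F) (hd : ∀ p, σ (d p) = d p) (hu : ∀ p, σ (u p) = u p) :
    (rflMat d u).map σ = rflMat d u := by
  ext p q
  rw [Matrix.map_apply, rflMat_apply]
  simp [dotProduct, map_sum, map_inv₀, map_ofNat, hd, hu, apply_ite σ]

theorem rflMat_prop {n : ℕ} {σ : RingAut F} (d u : Fin n → F) (hd : ∀ p, σ (d p) = d p) (hu : ∀ p, σ (u p) = u p)
    (hQ : (u ⬝ᵥ fun p => d p * u p) ≠ 0) :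
    (rflMat d u).det = -1 ∧
      ((rflMat d u).map σ)ᵀ * Matrix.diagonal d * rflMat d u = Matrix.diagonal d := by
  set w : Fin n → F := fun p => d p * u p with hw
  set Q := u ⬝ᵥ w
  set s : F := -(2 * Q⁻¹) with hs
  have hR : rflMat d u = 1 + Matrix.vecMulVec (s • u) w := rfl
  have hwu : w ⬝ᵥ (s • u) = -2 := by
    rw [dotProduct_smul, dotProduct_comm, smul_eq_mul, hs]
    field_simp
    rfl
  refine ⟨?_, ?_⟩
  · rw [hR, det_tv, hwu]; ring
  have hσQ : σ Q = Q := by simp [Q, hw, dotProduct, map_sum, hd, hu]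
  have hσs : σ s = s := by simp [hs, hσQ, map_inv₀, map_ofNat]
  have hmap : (rflMat d u).map σ = rflMat d u := by
    ext p q
    rw [Matrix.map_apply, rflMat_apply]
    change σ ((if p = q then 1 else 0) + s * u p * (d q * u q)) = _
    rw [map_add, map_mul, map_mul, map_mul, hσs, hu, hu, hd, apply_ite σ, map_one, map_zero]
  have hsym : Matrix.diagonal d * rflMat d u = (rflMat d u)ᵀ * Matrix.diagonal d := by
    ext p q
    rw [Matrix.diagonal_mul, Matrix.mul_diagonal, Matrix.transpose_apply, rflMat_apply, rflMat_apply]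
    rcases eq_or_ne p q with rfl | hpq
    · ring
    · simp [hpq, hpq.symm]; ring
  rw [hmap, ← hsym, mul_assoc, hR, mul_add, add_mul, one_mul, add_mul, one_mul, mul_one]
  rw [vmv_mul_vmv, hwu]
  have : Matrix.vecMulVec (s • u) w + (Matrix.vecMulVec (s • u) w + (-2 : F) • Matrix.vecMulVec (s • u) w) = 0 := by
    rw [← add_assoc, ← two_smul F (Matrix.vecMulVec (s • u) w), ← add_smul]
    simp
  rw [add_assoc, this, add_zero, mul_one]

variable {k : ℕ}

/-- The link lemma. -/
theorem link_diag (h2 : (2 : F) ≠ 0) (hk2 : 2 ≤ k) {σ : RingAut F} (hσ2 : σ ^ 2 = 1) {α : F} (hα : α ≠ 0)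
    (hσα : σ α = α) {τ : RingAut F} {h : GL (Fin (k + 1)) F} {m : ℕ} (hm : Odd m) (hτm : τ ^ m = 1)
    (hP : IsSc (twistProd τ h m))
    (hfix : Fixes σ (Matrix.diagonal (Function.update 1 (Fin.last k) α)) h τ) :
    IsSc h ∧ τ = 1 := by
  classical
  set d : Fin (k + 1) → F := Function.update 1 (Fin.last k) α with hd_def
  set L := Fin.last k
  have hd : ∀ p, d p ≠ 0 := fun p => by
    rcases eq_or_ne p L with rfl | hp <;>
      [simp [d, L, *]; simp [d, L, Function.update_of_ne hp]]
  have hdσ : ∀ p, σ (d p) = d p := fun p => by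
    rcases eq_or_ne p L with rfl | hp <;>
      [simp [d, L, *]; simp [d, L, Function.update_of_ne hp]]
  have hd1 : ∀ p, p ≠ L → d p = 1 := fun p hp => by
    show Function.update (1 : Fin (k + 1) → F) L α p = 1
    rw [Function.update_of_ne hp, Pi.one_apply]
  let z : Fin (k + 1) := 0
  let o : Fin (k + 1) := ⟨1, by omega⟩
  have hz : z ≠ L := by simp [z, L, Fin.ext_iff]; omega
  have ho : o ≠ L := by simp [o, L, Fin.ext_iff]; omega
  have hzo : z ≠ o := by simp [z, o, Fin.ext_iff]
  -- products of two reflections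
  have hT : ∀ p q : Fin (k + 1), p ≠ q → Commute h (refl p * refl q) := by
    intro p q hpq
    set t : GL (Fin (k + 1)) F := refl p * refl q
    have hmul : ∀ a b, (t : Matrix (Fin (k + 1)) (Fin (k + 1)) F) a b =
        if a = b then (if a = p ∨ a = q then -1 else 1) else 0 := by
      intro a b
      rw [Units.val_mul, Matrix.mul_apply, Finset.sum_eq_single a (fun w _ hw => by simp [refl_apply, Ne.symm hw])
        (by simp), refl_apply, refl_apply]
      rcases eq_or_ne a b with rfl | hab
      · rcases eq_or_ne a p with rfl | hap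
        · simp [hpq]
        · simp [hap]
      · simp [hab]
    have htt : t * t = 1 := Units.ext (by
      ext a b
      rw [Units.val_mul, Matrix.mul_apply, Finset.sum_eq_single a (fun w _ hw => by simp [hmul, Ne.symm hw])
        (by simp), hmul, hmul, Units.val_one, Matrix.one_apply]
      split_ifs <;> simp_all)
    have htτ : (t : Matrix (Fin (k + 1)) (Fin (k + 1)) F).map τ = (t : Matrix (Fin (k + 1)) (Fin (k + 1)) F) := by
      ext a b
      rw [Matrix.map_apply, hmul]
      split_ifs <;> simp
    obtain ⟨c, hc⟩ := hfix t (mul_mem (refl_mem d hd p) (refl_mem d hd q)) (by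
      ext a b
      rw [Matrix.map_apply, hmul]
      split_ifs <;> simp) (by
      rw [show (t : Matrix (Fin (k + 1)) (Fin (k + 1)) F) =
        Matrix.diagonal fun a => if a = p ∨ a = q then -1 else 1 from (by
          ext a b; rw [hmul, Matrix.diagonal_apply]), Matrix.det_diagonal, Finset.prod_ite,
        Finset.prod_const, Finset.prod_const_one, mul_one]
      have : (Finset.univ.filter fun a => a = p ∨ a = q) = {p, q} := by ext; simp
      rw [this, Finset.card_pair hpq]; ring)
    exact commute_invol hm hP t htt htτ hc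
  set e : Fin (k + 1) → F := fun p => (h : Matrix (Fin (k + 1)) (Fin (k + 1)) F) p p
  have hdiag : (h : Matrix (Fin (k + 1)) (Fin (k + 1)) F) = Matrix.diagonal e := by
    ext p q
    rcases eq_or_ne p q with rfl | hpq
    · simp [e]
    obtain ⟨l, hlp, hlq⟩ : ∃ l : Fin (k + 1), l ≠ p ∧ l ≠ q := by
      obtain ⟨l, -, hl⟩ := Finset.exists_mem_notMem_of_card_lt_card (s := ({p, q} : Finset _))
        (t := Finset.univ) (by rw [Finset.card_univ, Fintype.card_fin]
                               have := (Finset.card_le_two (a := p) (b := q)); omega)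
      simp only [Finset.mem_insert, Finset.mem_singleton, not_or] at hl
      exact ⟨l, hl⟩
    have ht : ((refl p * refl l : GL (Fin (k + 1)) F) : Matrix (Fin (k + 1)) (Fin (k + 1)) F) =
        Matrix.diagonal fun x => if x = p ∨ x = l then -1 else 1 := by
      ext x y
      rw [Units.val_mul, Matrix.mul_apply, Finset.sum_eq_single x (fun w _ hw => by simp [refl_apply, Ne.symm hw])
        (by simp), refl_apply, refl_apply, Matrix.diagonal_apply]
      rcases eq_or_ne x y with rfl | hxy
      · rcases eq_or_ne x p with rfl | hxp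
        · simp [Ne.symm hlp]
        · simp [hxp]
      · simp [hxy]
    have hc : ((h * (refl p * refl l) : GL (Fin (k + 1)) F) : Matrix (Fin (k + 1)) (Fin (k + 1)) F) p q =
        ((refl p * refl l * h : GL (Fin (k + 1)) F) : Matrix (Fin (k + 1)) (Fin (k + 1)) F) p q := by
      rw [(hT p l (Ne.symm hlp)).eq]
    rw [Units.val_mul, Units.val_mul (refl p * refl l), ht, Matrix.mul_diagonal, Matrix.diagonal_mul,
      if_neg (by simp [Ne.symm hpq, Ne.symm hlq]), if_pos (Or.inl rfl)] at hc
    rw [Matrix.diagonal_apply_ne _ hpq]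
    have h3 : (2 : F) * (h : Matrix (Fin (k + 1)) (Fin (k + 1)) F) p q = 0 := by linear_combination hc
    exact (mul_eq_zero.mp h3).resolve_left h2
  have he : ∀ p, e p ≠ 0 := fun p hp => by
    apply Matrix.GeneralLinearGroup.det_ne_zero h
    rw [hdiag, Matrix.det_diagonal]
    exact Finset.prod_eq_zero (Finset.mem_univ p) hp
  -- a reflection times a coordinate reflection
  have href : ∀ (u : Fin (k + 1) → F) (l : Fin (k + 1)), (∀ p, σ (u p) = u p) →
      (u ⬝ᵥ fun p => d p * u p) ≠ 0 → ∃ c : F, ∀ p q,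
        e p * τ (rflMat d u p q * if q = l then -1 else 1) =
          c * ((rflMat d u p q * if q = l then -1 else 1) * e q) := by
    intro u l hu hQ
    obtain ⟨hdet, hmem⟩ := rflMat_prop d u hdσ hu hQ
    let r : GL (Fin (k + 1)) F := Matrix.GeneralLinearGroup.mkOfDetNeZero (rflMat d u) (by rw [hdet]; simp)
    have hr : r ∈ uGrp σ (Matrix.diagonal d) := mem_uGrp.mpr hmem
    have hl : ((refl l : GL (Fin (k + 1)) F) : Matrix (Fin (k + 1)) (Fin (k + 1)) F) =
        Matrix.diagonal fun q => if q = l then -1 else 1 := by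
      ext a b; rw [refl_apply, Matrix.diagonal_apply]
    obtain ⟨c, hc⟩ := hfix (r * refl l) (mul_mem hr (refl_mem d hd l)) (by
      rw [Units.val_mul, hl, Matrix.map_mul, show (r : Matrix (Fin (k + 1)) (Fin (k + 1)) F).map σ = r from
        rflMat_map d u hdσ hu, Matrix.diagonal_map (map_zero σ)]
      congr 2
      funext q
      simp [apply_ite σ]) (by
      rw [Units.val_mul, Matrix.det_mul, show (r : Matrix (Fin (k + 1)) (Fin (k + 1)) F).det = -1 from hdet, hl,
        Matrix.det_diagonal, Finset.prod_ite_eq']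
      simp)
    refine ⟨c, fun p q => ?_⟩
    have := congrFun (congrFun hc p) q
    rw [hdiag, Units.val_mul, hl, Matrix.diagonal_mul, Matrix.map_apply, Matrix.mul_diagonal, Matrix.smul_apply,
      Matrix.mul_diagonal, Matrix.mul_diagonal, smul_eq_mul] at this
    exact this
  have hone : ∀ {c : F} {p : Fin (k + 1)} {x : F}, x ≠ 0 → τ x = x → e p * τ x = c * (x * e p) → c = 1 := by
    intro c p x hx hτx h1
    rw [hτx] at h1
    exact mul_right_cancel₀ (mul_ne_zero hx (he p)) (by linear_combination -h1)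
  obtain ⟨l₂, hl₂z, hl₂o⟩ : ∃ l : Fin (k + 1), l ≠ z ∧ l ≠ o := ⟨⟨2, by omega⟩, by simp [z, Fin.ext_iff], by simp [o, Fin.ext_iff]⟩
  -- `τ` fixes the fixed field of `σ`
  have hsq : ∀ t, σ t = t → τ (t ^ 2) = t ^ 2 := by
    intro t ht
    by_cases hQ : 1 + t ^ 2 = 0
    · rw [show t ^ 2 = -1 by linear_combination hQ]; simp
    let u : Fin (k + 1) → F := fun p => if p = z then 1 else if p = o then t else 0
    have hu : ∀ p, σ (u p) = u p := fun p => by simp only [u]; split_ifs <;> simp [ht]
    have hsum : (u ⬝ᵥ fun p => d p * u p) = 1 + t ^ 2 := by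
      rw [dotProduct, Fintype.sum_eq_add z o hzo (fun p hp => by simp [u, hp.1, hp.2])]
      simp [u, hd1 z hz, hd1 o ho, hzo.symm, pow_two]
    obtain ⟨c, hc⟩ := href u l₂ hu (by rw [hsum]; exact hQ)
    have e22 := hc l₂ l₂
    have eoo := hc o o
    rw [rflMat_apply, hsum] at e22 eoo
    simp [u, hl₂z, hl₂o, hzo.symm, hl₂o.symm, hd1 o ho] at e22 eoo
    try rw [show τ (2 : F) = 2 from map_ofNat τ 2] at eoo
    have hc1 : c = 1 := hone (x := (-1 : F)) (p := l₂) (by simp) (by simp) (by simp; linear_combination e22)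
    subst hc1
    rw [one_mul] at eoo
    have hτ : τ (1 + -(2 * (1 + t ^ 2)⁻¹ * t * t)) = 1 + -(2 * (1 + t ^ 2)⁻¹ * t * t) := by
      refine mul_left_cancel₀ (he o) ?_
      rw [map_add, map_one, map_neg, map_mul, map_mul, map_mul, map_ofNat, map_inv₀, map_add, map_one, map_pow]
      linear_combination eoo
    rw [map_add, map_one, map_neg, map_mul, map_mul, map_mul, map_ofNat, map_inv₀, map_add, map_one, map_pow] at hτ
    set w := τ t
    have hw : 1 + w ^ 2 ≠ 0 := by
      intro e0; apply hQ; apply τ.injective; simpa [w] using e0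
    rw [map_pow]
    field_simp at hτ
    refine mul_left_cancel₀ h2 ?_
    linear_combination -hτ
  have hK : ∀ t ∈ fixField σ, τ t = t := by
    intro t ht
    have ht' := (mem_fixField σ).mp ht
    have e1 := hsq (t + 1) (by simp [ht'])
    have e2 := hsq (t - 1) (by simp [ht'])
    have h4 : τ (4 * t) = 4 * t := by
      rw [show 4 * t = (t + 1) ^ 2 - (t - 1) ^ 2 by ring, map_sub, e1, e2]
    rw [map_mul, map_ofNat] at h4
    refine mul_left_cancel₀ ?_ h4
    rw [show (4 : F) = 2 * 2 by norm_num]
    exact mul_ne_zero h2 h2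
  have hτ1 : τ = 1 := by
    have hmem := mem_zpowers_of_fix hK
    obtain ⟨i, hi⟩ := hmem
    have hi : σ ^ i = τ := hi
    have hτ2 : τ ^ 2 = 1 := by
      rw [← hi, ← zpow_natCast (σ ^ i) 2, ← _root_.zpow_mul, mul_comm, _root_.zpow_mul, zpow_natCast, hσ2, _root_.one_zpow]
    obtain ⟨j, rfl⟩ := hm
    rwa [pow_succ, pow_mul, hτ2, one_pow, one_mul] at hτm
  subst hτ1
  refine ⟨?_, rfl⟩
  simp only [RingAut.one_apply] at href
  -- equal entries away from the last coordinate
  have hpair : ∀ p q, p ≠ L → q ≠ L → p ≠ q → e p = e q := by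
    intro p q hp hq hpq
    obtain ⟨l, hlp, hlq⟩ : ∃ l : Fin (k + 1), l ≠ p ∧ l ≠ q := by
      obtain ⟨l, -, hl⟩ := Finset.exists_mem_notMem_of_card_lt_card (s := ({p, q} : Finset _))
        (t := Finset.univ) (by rw [Finset.card_univ, Fintype.card_fin]
                               have := (Finset.card_le_two (a := p) (b := q)); omega)
      simp only [Finset.mem_insert, Finset.mem_singleton, not_or] at hl
      exact ⟨l, hl⟩
    let u : Fin (k + 1) → F := fun x => if x = p ∨ x = q then 1 else 0
    have hsum : (u ⬝ᵥ fun x => d x * u x) = 2 := by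
      rw [dotProduct, Fintype.sum_eq_add p q hpq (fun x hx => by simp [u, hx.1, hx.2])]
      simp [u, hd1 p hp, hd1 q hq]; norm_num
    obtain ⟨c, hc⟩ := href u l (fun x => by simp only [u]; split_ifs <;> simp) (by rw [hsum]; exact h2)
    have ell := hc l l
    have epq := hc p q
    rw [rflMat_apply, hsum] at ell epq
    simp [u, hlp, hlq, hlq.symm, hpq, hd1 q hq, h2] at ell epq
    have hc1 : c = 1 := mul_right_cancel₀ (he l) (by linear_combination -ell)
    subst hc1
    linear_combination epq
  -- the last coordinate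
  have hlast : e L = e z := by
    obtain ⟨y, hQ⟩ : ∃ y : F, (y = 0 ∨ y = 1) ∧ 1 + y + α ≠ 0 := by
      by_cases h0 : 1 + α = 0
      · exact ⟨1, Or.inr rfl, fun e => one_ne_zero (α := F) (by linear_combination e - h0)⟩
      · exact ⟨0, Or.inl rfl, by simpa using h0⟩
    obtain ⟨hy, hQ⟩ := hQ
    have hy2 : y * y = y := by rcases hy with rfl | rfl <;> simp
    let u : Fin (k + 1) → F := fun x => if x = z then 1 else if x = o then y else if x = L then 1 else 0
    have hu : ∀ x, σ (u x) = u x := fun x => by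
      simp only [u]; rcases hy with rfl | rfl <;> split_ifs <;> simp
    have hsum : (u ⬝ᵥ fun x => d x * u x) = 1 + y + α := by
      rw [dotProduct, ← Finset.sum_subset (s₁ := ({z, o, L} : Finset (Fin (k + 1)))) (Finset.subset_univ _)
        (fun x _ hx => by simp at hx; simp [u, hx.1, hx.2.1, hx.2.2])]
      rw [Finset.sum_insert (by simp [hzo, hz]), Finset.sum_insert (by simp [ho]), Finset.sum_singleton]
      simp [u, hd1 z hz, hd1 o ho, hzo.symm, hz.symm, ho.symm, d, L, hy2]
      ring
    obtain ⟨c, hc⟩ := href u o hu (by rw [hsum]; exact hQ)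
    have eoo := hc o o
    have eLz := hc L z
    rw [rflMat_apply, hsum] at eoo eLz
    simp [u, hzo, hzo.symm, hz, hz.symm, ho.symm, hd1 o ho, hd1 z hz] at eoo eLz
    have hx : 1 + -(2 * (1 + y + α)⁻¹ * y * y) ≠ 0 := by
      rcases hy with rfl | rfl
      · simp
      · intro h0
        field_simp at h0
        exact hα (by linear_combination h0)
    have hc1 : c = 1 := mul_right_cancel₀ (mul_ne_zero hx (he o)) (by linear_combination eoo)
    subst hc1
    exact mul_right_cancel₀ (mul_ne_zero h2 (inv_ne_zero hQ)) (by linear_combination eLz)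
  refine ⟨e z, ?_⟩
  rw [hdiag, Matrix.smul_one_eq_diagonal]
  congr 1
  funext p
  rcases eq_or_ne p L with rfl | hp
  · exact hlast
  · rcases eq_or_ne p z with rfl | hpz
    · rfl
    · exact hpair p z hp hz hpz

end CfsgLib.LocalBal
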