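import Cfsg.Agent.LocalBal.SesqGroup

/-!
The inductive step for odd normal subgroups of diagonal isometry groups.
-/

set_option autoImplicit false
set_option linter.unusedSectionVars false

open Matrix

namespace CfsgLib.LocalBal

variable {F : Type*} [Field F]

/-- An involution without fixed points outside the scalars inverts modulo scalars. -/
theorem isSc_conj_mul {ι : Type} [Fintype ι] [DecidableEq ι] [Finite F] {L : Subgroup (GL ι F)} (hL : OddSc L)
    (r : GL ι F) (hr : r * r = 1) (hn : ∀ a ∈ L, r * a * r ∈ L) (hfix : ∀ a ∈ L, Commute a r → IsSc a)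
    {a : GL ι F} (ha : a ∈ L) : IsSc (r * a * r * a) := by
  classical
  let Z : Subgroup L :=
    { carrier := {b | IsSc (b : GL ι F)}
      one_mem' := isSc_one
      mul_mem' := fun hb hc => hb.mul hc
      inv_mem' := fun hb => hb.inv }
  haveI : Z.Normal := ⟨fun b hb c => by
    show IsSc ((c : GL ι F) * (b : GL ι F) * (c : GL ι F)⁻¹)
    rw [← ((show IsSc (b : GL ι F) from hb).commute (c : GL ι F)).eq, mul_inv_cancel_right]
    exact hb⟩
  let φ : L →* L :=
    { toFun := fun b => ⟨r * (b : GL ι F) * r, hn _ b.2⟩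
      map_one' := Subtype.ext (by show r * ((1 : L) : GL ι F) * r = _; simp [hr])
      map_mul' := fun b c => Subtype.ext (by
        show r * ((b : GL ι F) * (c : GL ι F)) * r = r * (b : GL ι F) * r * (r * (c : GL ι F) * r)
        simp only [mul_assoc]
        rw [← mul_assoc r r, hr, one_mul]) }
  have hφφ : ∀ b, φ (φ b) = b := fun b => Subtype.ext (by
    show r * (r * (b : GL ι F) * r) * r = b
    simp only [mul_assoc, hr, mul_one]
    rw [← mul_assoc r r, hr, one_mul])
  have hZ : Z ≤ Z.comap φ := fun b hb => by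
    show IsSc (r * (b : GL ι F) * r)
    rw [← ((show IsSc (b : GL ι F) from hb).commute r).eq, mul_assoc, hr, mul_one]
    exact hb
  let ψ : L ⧸ Z →* L ⧸ Z := QuotientGroup.map Z Z φ hZ
  have hψ : MonoidHom.FixedPointFree ψ := by
    intro x hx
    obtain ⟨b, rfl⟩ := QuotientGroup.mk_surjective x
    rw [QuotientGroup.eq_one_iff]
    have hz : IsSc ((b : GL ι F)⁻¹ * (r * (b : GL ι F) * r)) := QuotientGroup.eq.mp hx.symm
    refine hfix b b.2 (commute_of_sq hL b.2 ?_)
    set z := (b : GL ι F)⁻¹ * (r * (b : GL ι F) * r)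
    have h1 : r * (b : GL ι F) * r = b * z := by rw [mul_inv_cancel_left]
    have h3 : r * z * r = z := by rw [← (hz.commute r).eq, mul_assoc, hr, mul_one]
    have h4 : r * ((b : GL ι F) * z) * r = (r * (b : GL ι F) * r) * (r * z * r) := by
      simp only [mul_assoc]; rw [← mul_assoc r r (z * r), hr, one_mul]
    have h5 : (b : GL ι F) = b * (z * z) := by
      conv_lhs => rw [← show r * (r * (b : GL ι F) * r) * r = b from congrArg Subtype.val (hφφ b)]
      rw [h1, h4, h1, h3, mul_assoc]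
    have hzz : z * z = 1 := (left_eq_mul.mp h5)
    show (b : GL ι F) ^ 2 * r = r * (b : GL ι F) ^ 2
    have h6 : r * (b : GL ι F) ^ 2 * r = (b : GL ι F) ^ 2 := by
      have h7 : r * (b : GL ι F) ^ 2 * r = (r * (b : GL ι F) * r) * (r * (b : GL ι F) * r) := by
        rw [pow_two]; simp only [mul_assoc]; rw [← mul_assoc r r ((b : GL ι F) * r), hr, one_mul]
      rw [h7, h1, mul_assoc, ← mul_assoc z, (hz.commute _).eq, mul_assoc (b : GL ι F) z z, hzz, mul_one,
        pow_two]
    conv_lhs => rw [← h6]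
    rw [mul_assoc, hr, mul_one]
  have h := hψ.coe_eq_inv_of_involutive (fun x => by
    obtain ⟨b, rfl⟩ := QuotientGroup.mk_surjective x
    show QuotientGroup.mk (φ (φ b)) = _
    rw [hφφ])
  have h1 : (QuotientGroup.mk (φ ⟨a, ha⟩ * ⟨a, ha⟩) : L ⧸ Z) = 1 := by
    rw [QuotientGroup.mk_mul]
    show ψ (QuotientGroup.mk ⟨a, ha⟩) * _ = 1
    rw [h, inv_mul_cancel]
  exact (QuotientGroup.eq_one_iff _).mp h1

variable {k : ℕ}

/-- A block matrix with a single entry at `(i, i)`. -/
def blk (i : Fin (k + 1)) (α : F) (X : Matrix (Fin k) (Fin k) F) : Matrix (Fin (k + 1)) (Fin (k + 1)) F :=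
  Matrix.of (Fin.insertNth i (Fin.insertNth i α 0) (fun x => Fin.insertNth i 0 (X x)))

variable (i : Fin (k + 1))

theorem blk_ii (α : F) (X : Matrix (Fin k) (Fin k) F) : blk i α X i i = α := by simp [blk]

theorem blk_is (α : F) (X : Matrix (Fin k) (Fin k) F) (y : Fin k) : blk i α X i (i.succAbove y) = 0 := by
  simp [blk]

theorem blk_si (α : F) (X : Matrix (Fin k) (Fin k) F) (x : Fin k) : blk i α X (i.succAbove x) i = 0 := by
  simp [blk]

theorem blk_ss (α : F) (X : Matrix (Fin k) (Fin k) F) (x y : Fin k) :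
    blk i α X (i.succAbove x) (i.succAbove y) = X x y := by
  simp [blk]

theorem eq_blk {M : Matrix (Fin (k + 1)) (Fin (k + 1)) F} (h1 : ∀ y, M i (i.succAbove y) = 0)
    (h2 : ∀ x, M (i.succAbove x) i = 0) : M = blk i (M i i) (M.submatrix i.succAbove i.succAbove) := by
  ext r c
  rcases Fin.eq_self_or_eq_succAbove i r with hr | ⟨x, rfl⟩ <;> [subst r; skip] <;>
    rcases Fin.eq_self_or_eq_succAbove i c with hc | ⟨y, rfl⟩
  · subst hc; rw [blk_ii]
  · rw [blk_is, h1]
  · subst hc; rw [blk_si, h2]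
  · rw [blk_ss]; rfl

theorem blk_mul (α β : F) (X Y : Matrix (Fin k) (Fin k) F) :
    blk i α X * blk i β Y = blk i (α * β) (X * Y) := by
  ext r c
  rw [Matrix.mul_apply, Fin.sum_univ_succAbove _ i]
  rcases Fin.eq_self_or_eq_succAbove i r with hr | ⟨x, rfl⟩ <;> [subst r; skip] <;>
    rcases Fin.eq_self_or_eq_succAbove i c with hc | ⟨y, rfl⟩
  · subst hc; simp [blk_ii, blk_is]
  · simp [blk_ii, blk_is]
  · subst hc; simp [blk_ii, blk_si]
  · simp [blk_si, blk_ss, Matrix.mul_apply]

theorem blk_one : blk i (1 : F) 1 = (1 : Matrix (Fin (k + 1)) (Fin (k + 1)) F) := by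
  have h := eq_blk i (M := (1 : Matrix (Fin (k + 1)) (Fin (k + 1)) F))
    (fun y => Matrix.one_apply_ne (Fin.ne_succAbove i y)) (fun x => Matrix.one_apply_ne (Fin.succAbove_ne i x))
  rw [Matrix.submatrix_one _ Fin.succAbove_right_injective, Matrix.one_apply_eq] at h
  exact h.symm

theorem blk_diagonal (d : Fin (k + 1) → F) :
    Matrix.diagonal d = blk i (d i) (Matrix.diagonal (d ∘ i.succAbove)) := by
  refine (eq_blk i ?_ ?_).trans ?_
  · exact fun y => Matrix.diagonal_apply_ne _ (Fin.ne_succAbove i y)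
  · exact fun x => Matrix.diagonal_apply_ne _ (Fin.succAbove_ne i x)
  · rw [Matrix.diagonal_apply_eq, Matrix.submatrix_diagonal _ _ Fin.succAbove_right_injective]

theorem blk_map (σ : RingAut F) (α : F) (X : Matrix (Fin k) (Fin k) F) :
    (blk i α X).map σ = blk i (σ α) (X.map σ) := by
  ext r c
  rcases Fin.eq_self_or_eq_succAbove i r with hr | ⟨x, rfl⟩ <;> [subst r; skip] <;>
    rcases Fin.eq_self_or_eq_succAbove i c with hc | ⟨y, rfl⟩
  · subst hc; simp [blk_ii]
  · simp [blk_is]
  · subst hc; simp [blk_si]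
  · simp [blk_ss]

theorem blk_transpose (α : F) (X : Matrix (Fin k) (Fin k) F) : (blk i α X)ᵀ = blk i α Xᵀ := by
  ext r c
  rcases Fin.eq_self_or_eq_succAbove i r with hr | ⟨x, rfl⟩ <;> [subst r; skip] <;>
    rcases Fin.eq_self_or_eq_succAbove i c with hc | ⟨y, rfl⟩
  · subst hc; simp [blk_ii]
  · simp [blk_is, blk_si]
  · subst hc; simp [blk_is, blk_si]
  · simp [blk_ss]

theorem blk_inj {α β : F} {X Y : Matrix (Fin k) (Fin k) F} (h : blk i α X = blk i β Y) : α = β ∧ X = Y := by
  refine ⟨?_, ?_⟩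
  · rw [← blk_ii i α X, h, blk_ii]
  · ext x y
    rw [← blk_ss i α X, h, blk_ss]

/-- The reflection `diag(1, …, -1, …, 1)`. -/
def refl (i : Fin (k + 1)) : GL (Fin (k + 1)) F :=
  ⟨blk i (-1) 1, blk i (-1) 1, by rw [blk_mul]; simp [blk_one], by rw [blk_mul]; simp [blk_one]⟩

theorem refl_mul_self : (refl i : GL (Fin (k + 1)) F) * refl i = 1 :=
  Units.ext (by show blk i (-1) 1 * blk i (-1) 1 = 1; rw [blk_mul]; simp [blk_one])

theorem refl_apply (x y : Fin (k + 1)) :
    ((refl i : GL (Fin (k + 1)) F) : Matrix (Fin (k + 1)) (Fin (k + 1)) F) x y =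
      if x = y then (if x = i then -1 else 1) else 0 := by
  show blk i (-1) 1 x y = _
  rcases Fin.eq_self_or_eq_succAbove i x with hr | ⟨a, rfl⟩ <;> [subst x; skip] <;>
    rcases Fin.eq_self_or_eq_succAbove i y with hy | ⟨b, rfl⟩
  · subst hy; simp [blk_ii]
  · simp [blk_is, Fin.ne_succAbove]
  · subst hy; simp [blk_si, Fin.succAbove_ne]
  · rw [blk_ss, Matrix.one_apply]
    rcases eq_or_ne a b with rfl | hab
    · simp [Fin.succAbove_ne]
    · simp [hab]

end CfsgLib.LocalBal
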