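import Cfsg.Agent.LocalBal.Core

/-!
Centralisers of automorphisms with trivial `p'`-core.
-/

set_option autoImplicit false

namespace CfsgLib.LocalBal

variable {K : Type*} [Group K]

/-- If the fixed points have no nontrivial normal `p'`-subgroup and only `p`-singular automorphisms commuting
with `x` fix them pointwise, then `O_{p'}(C_A(x))` is trivial. -/
theorem core_eq_bot {p : ℕ} (hinj : Function.Injective (MulAut.conj : K →* MulAut K)) (A : Subgroup (MulAut K))
    (hinn : ∀ k : K, MulAut.conj k ∈ A) (x : MulAut K) (hM : Cfsg.pPrimeCore p ↥(Fix x) = ⊥)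
    (hfix : ∀ y : MulAut K, y * x = x * y → (∀ k ∈ Fix x, y k = k) → (orderOf y).Coprime p → y = 1) :
    Cfsg.pPrimeCore p ↥(A ⊓ Subgroup.centralizer {x}) = ⊥ := by
  classical
  have hcomm : ∀ k ∈ Fix x, MulAut.conj k * x = x * MulAut.conj k := fun k hk => by
    rw [mul_conj_eq, mem_Fix.mp hk]
  set C := A ⊓ Subgroup.centralizer {x}
  let ι : ↥(Fix x) →* ↥C :=
    { toFun := fun k => ⟨MulAut.conj (k : K), hinn _,
        Subgroup.mem_centralizer_singleton_iff.mpr (hcomm _ k.2)⟩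
      map_one' := Subtype.ext (map_one _)
      map_mul' := fun a b => Subtype.ext (map_mul _ _ _) }
  have hι : Function.Injective ι := fun a b h => Subtype.ext (hinj (congrArg Subtype.val h))
  refine eq_bot_iff.mpr (sSup_le ?_)
  rintro N ⟨hN, hNc⟩ y hy
  have hN' : (Nat.card (N.comap ι)).Coprime p :=
    Nat.Coprime.coprime_dvd_left (Subgroup.card_comap_dvd_of_injective _ ι hι) hNc
  have hbot : N.comap ι = ⊥ := le_bot_iff.mp (hM ▸ le_sSup ⟨hN.comap ι, hN'⟩)
  have hαfix : ∀ k ∈ Fix x, (y : MulAut K) k ∈ Fix x := fun k hk => by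
    rw [mem_Fix]
    have h := MulEquiv.congr_fun (Subgroup.mem_centralizer_singleton_iff.mp y.2.2) k
    rw [MulAut.mul_apply, MulAut.mul_apply, mem_Fix.mp hk] at h
    exact h.symm
  have hyfix : ∀ s ∈ Fix x, (y : MulAut K) s = s := fun s hs => by
    have hm : (⟨(y : MulAut K) s * s⁻¹, mul_mem (hαfix s hs) (inv_mem hs)⟩ : ↥(Fix x)) ∈ N.comap ι := by
      have h2 : ι ⟨(y : MulAut K) s * s⁻¹, mul_mem (hαfix s hs) (inv_mem hs)⟩ =
          y * (ι ⟨s, hs⟩ * y⁻¹ * (ι ⟨s, hs⟩)⁻¹) := Subtype.ext (by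
        show MulAut.conj ((y : MulAut K) s * s⁻¹) =
          (y : MulAut K) * (MulAut.conj s * (y : MulAut K)⁻¹ * (MulAut.conj s)⁻¹)
        rw [map_mul, map_inv, ← mul_assoc, ← mul_assoc, mul_conj_eq, mul_inv_cancel_right])
      rw [Subgroup.mem_comap, h2]
      exact mul_mem hy (hN.conj_mem _ (inv_mem hy) _)
    rw [hbot, Subgroup.mem_bot] at hm
    exact mul_inv_eq_one.mp (congrArg Subtype.val hm)
  have hord : (orderOf (y : MulAut K)).Coprime p := by
    rw [Subgroup.orderOf_coe, ← Subgroup.orderOf_mk y hy]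
    exact Nat.Coprime.coprime_dvd_left (orderOf_dvd_natCard _) hNc
  exact Subgroup.mem_bot.mpr (Subtype.ext
    (hfix y (Subgroup.mem_centralizer_singleton_iff.mp y.2.2) hyfix hord))

/-- Triviality of the core and of the pointwise stabiliser of the fixed points, at a conjugate. -/
theorem core_eq_bot_conj {p : ℕ} (hinj : Function.Injective (MulAut.conj : K →* MulAut K)) (A : Subgroup (MulAut K))
    (hinn : ∀ k : K, MulAut.conj k ∈ A) (g φ x : MulAut K) (hx : x = g * φ * g⁻¹)
    (hM : Cfsg.pPrimeCore p ↥(Fix φ) = ⊥)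
    (hfix : ∀ y : MulAut K, y * φ = φ * y → (∀ k ∈ Fix φ, y k = k) → (orderOf y).Coprime p → y = 1) :
    Cfsg.pPrimeCore p ↥(A ⊓ Subgroup.centralizer {x}) = ⊥ := by
  subst hx
  have hiff : ∀ z, z ∈ Fix (g * φ * g⁻¹) ↔ g⁻¹ z ∈ Fix φ := fun z => by
    rw [mem_Fix, mem_Fix, MulAut.mul_apply, MulAut.mul_apply]
    refine ⟨fun h => g.injective (h.trans ?_), fun h => by rw [h]; simp⟩
    simp
  let e : ↥(Fix (g * φ * g⁻¹)) →* ↥(Fix φ) :=
    { toFun := fun z => ⟨g⁻¹ (z : K), (hiff _).mp z.2⟩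
      map_one' := Subtype.ext (map_one _)
      map_mul' := fun a b => Subtype.ext (map_mul _ _ _) }
  have hei : Function.Injective e := fun a b h => Subtype.ext ((g⁻¹).injective (congrArg Subtype.val h))
  have hes : Function.Surjective e := fun w =>
    ⟨⟨g (w : K), (hiff _).mpr (by simp)⟩, Subtype.ext (by show g⁻¹ (g (w : K)) = w; simp)⟩
  refine core_eq_bot hinj A hinn _ (le_bot_iff.mp (sSup_le ?_)) ?_
  · rintro N ⟨hN, hNc⟩
    have h1 : N.map e ≤ Cfsg.pPrimeCore p ↥(Fix φ) := le_sSup ⟨hN.map e hes, by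
      rwa [Subgroup.card_map_of_injective hei]⟩
    rw [hM, le_bot_iff, Subgroup.map_eq_bot_iff_of_injective _ hei] at h1
    rw [h1]
  · intro y hy hys hc
    have h1 : g⁻¹ * y * g = 1 := by
      refine hfix _ ?_ (fun w hw => ?_) ?_
      · have hmul : g⁻¹ * y * g * φ = g⁻¹ * (y * (g * φ * g⁻¹)) * g := by group
        rw [hmul, hy]
        group
      · show g⁻¹ (y (g w)) = w
        rw [hys (g w) ((hiff _).mpr (by simpa using hw))]
        simp
      · have h : orderOf (g⁻¹ * y * g) = orderOf y := orderOf_injective (MulAut.conj g⁻¹).toMonoidHom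
          (MulAut.conj g⁻¹).injective y |>.trans rfl |> fun h => by simpa using h
        rwa [h]
    calc y = g * (g⁻¹ * y * g) * g⁻¹ := by group
      _ = 1 := by rw [h1]; group

end CfsgLib.LocalBal
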