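import Cfsg.Agent.LocalBal.OddScalar
import Cfsg.Agent.LocalBal.OddCore
import Cfsg.Agent.LocalBal.BaseFix
import Cfsg.Agent.Solvable.Basics

/-!
The fixed points of an automorphism of `POmega` induced by a similarity: odd core and pointwise stabiliser.
-/

set_option autoImplicit false
set_option linter.unusedSectionVars false
set_option linter.style.haveILetI false

namespace CfsgLib.LocalBal

open QuadraticMap CfsgLib.Forms CfsgLib.Quad CfsgLib.AutPOm

variable {F : Type*} [Field F] [Finite F] {ι : Type} [Fintype ι] [DecidableEq ι]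
  {Q : QuadraticForm F (ι → F)} (hQ : Big Q) (h2 : (2 : F) ≠ 0) (S : Semi Q)

/-- The isometries commuting with a similarity. -/
def centI : Subgroup (oGroup Q) := MonoidHom.eqLocus S.oEquiv.toMonoidHom (MonoidHom.id _)

theorem mem_centI {g : oGroup Q} : g ∈ centI S ↔ S.oEquiv g = g := Iff.rfl

theorem semi_commute {g : oGroup Q} (hg : g ∈ centI S) : S * isoHom Q g = isoHom Q g * S := by
  rw [← mul_inv_eq_iff_eq_mul, Semi.conj_iso, mem_centI S |>.mp hg]

theorem mk_commute {g : oGroup Q} (hg : g ∈ centI S) :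
    pomHom Q (isoHom Q g) * pomHom Q S = pomHom Q S * pomHom Q (isoHom Q g) := by
  rw [← map_mul, ← map_mul, semi_commute S hg]

include hQ

theorem om_center_iff (c : ↥(Om Q)) : c ∈ Subgroup.center ↥(Om Q) ↔ IsPM c.1 := by
  refine ⟨fun h => ?_, fun h => Subgroup.mem_center_iff.mpr fun x => Subtype.ext (h.commute x.1).eq.symm⟩
  rcases center_omega_subset hQ.nd hQ.five c h with rfl | h'
  · exact Or.inl rfl
  · exact Or.inr h'

theorem fix_core
    (H : ∀ P : Subgroup (oGroup Q), P ≤ centI S → (∀ g ∈ centI S, ∀ h ∈ P, g * h * g⁻¹ ∈ P) →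
      (∀ h ∈ P, ∃ k, Odd k ∧ IsPM (h ^ k)) → ∀ h ∈ P, IsPM h) :
    Cfsg.pPrimeCore 2 ↥(Fix (pomHom Q S)) = ⊥ := by
  classical
  haveI := finite_POmega (Q := Q)
  set X := Fix (pomHom Q S) with hX
  set N := Cfsg.pPrimeCore 2 ↥X with hN
  have hcop : (Nat.card N).Coprime 2 := CfsgLib.Solvable.coprime_card_pPrimeCore 2
  have hk : Odd (Nat.card N) := Nat.coprime_two_right.mp hcop
  set P0 : Subgroup ↥(Om Q) := (N.map X.subtype).comap (omTo Q) with hP0
  set P : Subgroup (oGroup Q) := P0.map (Om Q).subtype with hPdef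
  have hodd : ∀ h ∈ P, IsPM (h ^ Nat.card N) := by
    rintro _ ⟨h, ⟨n, hn, hnh⟩, rfl⟩
    have h1 : n ^ Nat.card N = 1 := by
      have h3 := orderOf_dvd_natCard (⟨n, hn⟩ : N)
      rw [Subgroup.orderOf_mk] at h3
      exact orderOf_dvd_iff_pow_eq_one.mp h3
    have h4 : omTo Q (h ^ Nat.card N) = omTo Q 1 := by
      rw [map_pow, ← hnh, ← map_pow, h1, map_one, map_one]
    have h5 := inv_mem (omTo_eq_iff.mp h4)
    rw [_root_.mul_inv_rev, inv_inv, inv_one, one_mul] at h5
    exact (om_center_iff hQ _).mp h5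
  have hle : P ≤ centI S := by
    intro g hg
    obtain ⟨h, ⟨n, hn, hnh⟩, rfl⟩ := hg
    rw [mem_centI]
    have hfix : omTo Q (S.omEquiv h) = omTo Q h := by
      rw [← pomHom_omTo, ← hnh]
      exact mem_Fix.mp n.2
    set c := (S.omEquiv h)⁻¹ * h with hc
    have hcz : c ∈ Subgroup.center ↥(Om Q) := omTo_eq_iff.mp hfix
    have hck : c ^ Nat.card N = 1 := by
      have hcomm : Commute (S.omEquiv h)⁻¹ h := by
        have h3 := Subgroup.mem_center_iff.mp hcz h
        rw [hc, ← mul_assoc] at h3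
        exact (mul_right_cancel h3).symm
      have hpow : h ^ Nat.card N ∈ Subgroup.center ↥(Om Q) :=
        (om_center_iff hQ _).mpr (hodd _ ⟨h, ⟨n, hn, hnh⟩, rfl⟩)
      rw [hc, hcomm.mul_pow, inv_pow, ← map_pow, omEquiv_center hQ S hpow, inv_mul_cancel]
    have h6 := center_eq_one_of_odd hQ hcz hk hck
    rw [hc, inv_mul_eq_one] at h6
    exact congrArg Subtype.val h6
  have hconj : ∀ g ∈ centI S, ∀ h ∈ P, g * h * g⁻¹ ∈ P := by
    rintro g hg _ ⟨h, ⟨n, hn, hnh⟩, rfl⟩
    set y := pomHom Q (isoHom Q g) with hy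
    have hyfix : ∀ z ∈ X, y z ∈ X := fun z hz => by
      rw [hX, mem_Fix, ← MulAut.mul_apply, ← mk_commute S hg, MulAut.mul_apply, mem_Fix.mp hz]
    let yX : ↥X ≃* ↥X :=
      { toFun := fun z => ⟨y z, hyfix z z.2⟩
        invFun := fun z => ⟨pomHom Q (isoHom Q g⁻¹) z, mem_Fix.mpr (by
          rw [← MulAut.mul_apply, ← mk_commute S (inv_mem hg), MulAut.mul_apply, mem_Fix.mp z.2])⟩
        left_inv := fun z => Subtype.ext (by
          show pomHom Q (isoHom Q g⁻¹) (y z) = z
          rw [hy, ← MulAut.mul_apply, ← map_mul, ← map_mul, inv_mul_cancel, map_one, map_one, MulAut.one_apply])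
        right_inv := fun z => Subtype.ext (by
          show y (pomHom Q (isoHom Q g⁻¹) z) = z
          rw [hy, ← MulAut.mul_apply, ← map_mul, ← map_mul, mul_inv_cancel, map_one, map_one, MulAut.one_apply])
        map_mul' := fun a b => Subtype.ext (map_mul y _ _) }
    have hchar : N.map yX.toMonoidHom ≤ N := CfsgLib.Solvable.le_pPrimeCore _
      (Subgroup.Normal.map (CfsgLib.Solvable.pPrimeCore_normal 2) yX.toMonoidHom yX.surjective)
      (by rw [Subgroup.card_map_of_injective yX.injective]; exact hcop)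
    refine ⟨(isoHom Q g).omEquiv h, ⟨yX n, hchar ⟨n, hn, rfl⟩, ?_⟩, ?_⟩
    · show y (n : Cfsg.POmega F ⇑Q) = omTo Q _
      rw [hy, ← pomHom_omTo]
      exact congrArg _ hnh
    · exact Subtype.ext (LinearEquiv.ext fun v => rfl)
  have hPM := H P hle hconj fun h hh => ⟨_, hk, hodd h hh⟩
  refine eq_bot_iff.mpr fun n hn => ?_
  obtain ⟨h, hh⟩ := omTo_surjective Q (n : Cfsg.POmega F ⇑Q)
  have h1 := hPM h.1 ⟨h, ⟨n, hn, hh.symm⟩, rfl⟩
  refine Subgroup.mem_bot.mpr (Subtype.ext ?_)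
  rw [OneMemClass.coe_one, ← hh, ← map_one (omTo Q), omTo_eq_iff, mul_one, inv_mem_iff]
  exact (om_center_iff hQ _).mpr h1

omit hQ in
/-- A semisimilarity fixing the class of an isometry with large fixed space fixes the isometry. -/
theorem oEquiv_eq_of_large {R : Semi Q} {h : oGroup Q} (D : Submodule F (ι → F)) (hD : ∀ z ∈ D, h.1 z = z)
    (hdim : Fintype.card ι < 2 * Module.finrank F D) (h2 : (2 : F) ≠ 0)
    (hR : R.oEquiv h = h ∨ R.oEquiv h = negIso Q * h) : R.oEquiv h = h := by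
  refine hR.resolve_right fun e => ?_
  have hbot : D ⊓ R.img D = ⊥ := by
    refine (Submodule.eq_bot_iff _).mpr ?_
    rintro _ ⟨hw, z, hz, rfl⟩
    have h1 : (R.oEquiv h).1 (R.T z) = R.T z := by
      rw [Semi.oEquiv_apply, AddEquiv.symm_apply_apply, hD z hz]
    rw [e] at h1
    change -(h.1 (R.T z)) = R.T z at h1
    rw [hD _ hw, neg_eq_iff_add_eq_zero, ← two_smul F, smul_eq_zero] at h1
    exact h1.resolve_left h2
  have h1 := Submodule.finrank_sup_add_finrank_inf_eq D (R.img D)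
  rw [hbot, finrank_bot, add_zero, Semi.finrank_img] at h1
  have h3 := Submodule.finrank_le (D ⊔ R.img D)
  rw [Module.finrank_fintype_fun_eq_card] at h3
  omega

/-- What fixes the fixed points pointwise commutes up to sign with their lifts. -/
theorem oEquiv_pm {R : Semi Q} (hR : ∀ z ∈ Fix (pomHom Q S), pomHom Q R z = z) {h : oGroup Q}
    (hm : h ∈ Om Q) (hc : h ∈ centI S) : R.oEquiv h = h ∨ R.oEquiv h = negIso Q * h := by
  have hfix : omTo Q ⟨h, hm⟩ ∈ Fix (pomHom Q S) := by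
    rw [mem_Fix, pomHom_omTo]
    exact congrArg _ (Subtype.ext hc)
  have h1 := hR _ hfix
  rw [pomHom_omTo] at h1
  have h3 : IsPM ((R.omEquiv ⟨h, hm⟩).1⁻¹ * h) := (om_center_iff hQ _).mp (omTo_eq_iff.mp h1)
  rw [Semi.omEquiv_coe] at h3
  rcases h3 with e | e
  · exact Or.inl (inv_mul_eq_one.mp e)
  · refine Or.inr ?_
    rw [inv_mul_eq_iff_eq_mul] at e
    have hpm : IsPM (negIso Q) := Or.inr rfl
    conv_rhs => rw [e]
    rw [← (hpm.commute (R.oEquiv h * negIso Q)).symm.eq, mul_assoc, hpm.sq, mul_one]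

end CfsgLib.LocalBal
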