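import Cfsg.Agent.LocalBal.InvCore

/-!
Automorphisms of `POmega` induced by involutive isometries with eigenspaces of odd dimension.
-/

set_option autoImplicit false
set_option linter.unusedSectionVars false
set_option linter.style.haveILetI false

namespace CfsgLib.LocalBal

open QuadraticMap CfsgLib.Forms CfsgLib.Quad CfsgLib.AutPOm

variable {F : Type*} [Field F] [Finite F] {ι : Type} [Fintype ι] [DecidableEq ι]
  {Q : QuadraticForm F (ι → F)} (hQ : Big Q) (h2 : (2 : F) ≠ 0) {g : oGroup Q} (hg : g * g = 1)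
include h2 hg

omit [Finite F] in
theorem invol_apply (v : ι → F) : g.1 (g.1 v) = v := congrArg (fun t : oGroup Q => t.1 v) hg

omit [Finite F] in
theorem half_mem (v : ι → F) : (2⁻¹ : F) • (v + g.1 v) ∈ fixSp g ∧
    (2⁻¹ : F) • (v - g.1 v) ∈ fixSp (negIso Q * g) := by
  constructor
  · rw [mem_fixSp, map_smul, map_add, invol_apply h2 hg, add_comm]
  · rw [mem_fixSp]
    change -(g.1 ((2⁻¹ : F) • (v - g.1 v))) = _
    rw [map_smul, map_sub, invol_apply h2 hg, ← smul_neg, neg_sub]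

omit [Finite F] in
theorem half_add (v : ι → F) : (2⁻¹ : F) • (v + g.1 v) + (2⁻¹ : F) • (v - g.1 v) = v := by
  rw [← smul_add, add_add_sub_cancel, ← two_smul F v, smul_smul, inv_mul_cancel₀ h2, one_smul]

omit [Finite F] in
theorem polar_fix_neg {v w : ι → F} (hv : v ∈ fixSp g) (hw : w ∈ fixSp (negIso Q * g)) : polar Q v w = 0 := by
  have h : polar Q (g.1 v) (g.1 w) = polar Q v w := polar_oGroup g v w
  rw [mem_fixSp] at hv hw
  change -(g.1 w) = w at hw
  rw [hv, neg_eq_iff_eq_neg.mp hw, ← neg_one_smul F w, polar_smul_right, smul_eq_mul] at h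
  exact (mul_eq_zero.mp (show (2 : F) * polar Q v w = 0 by linear_combination -h)).resolve_left h2

omit h2 hg in
theorem mem_centI_iso {h : oGroup Q} : h ∈ centI (isoHom Q g) ↔ g * h * g⁻¹ = h := by
  rw [mem_centI]
  exact Iff.of_eq (congrArg (· = h) (Subtype.ext (LinearEquiv.ext fun v => rfl)))

omit h2 hg in
theorem centI_apply {h : oGroup Q} (hh : h ∈ centI (isoHom Q g)) (v : ι → F) : g.1 (h.1 v) = h.1 (g.1 v) :=
  congrArg (fun t : oGroup Q => t.1 v) (mul_inv_eq_iff_eq_mul.mp (mem_centI_iso.mp hh))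

include hQ

theorem fix_pm_on (hd : Module.finrank F (fixSp g) = 1 ∨ Module.finrank F (fixSp g) = 3 ∨
      5 ≤ Module.finrank F (fixSp g))
    (P : Subgroup (oGroup Q)) (hle : P ≤ centI (isoHom Q g))
    (hn : ∀ t ∈ centI (isoHom Q g), ∀ h ∈ P, t * h * t⁻¹ ∈ P)
    (ho : ∀ h ∈ P, ∃ k, Odd k ∧ IsPM (h ^ k)) (h : oGroup Q) (hh : h ∈ P) :
    (∀ w ∈ fixSp g, h.1 w = w) ∨ (∀ w ∈ fixSp g, h.1 w = -w) := by
  classical
  set W := fixSp g with hW
  have hmaps : ∀ t ∈ centI (isoHom Q g), ∀ w ∈ W, t.1 w ∈ W := fun t ht w hw => by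
    rw [hW, mem_fixSp] at hw ⊢
    rw [centI_apply ht, hw]
  set C := centI (isoHom Q g) with hC
  let fwd : ↥C → ↥W →ₗ[F] ↥W := fun t => t.1.1.toLinearMap.restrict (hmaps t.1 t.2)
  let res : ↥C →* oGroup (Q.comp W.subtype) :=
    { toFun := fun t => ⟨LinearEquiv.ofLinearMap (fwd t) (fwd t⁻¹)
          (LinearMap.ext fun w => Subtype.ext (show t.1.1 ((t⁻¹ : ↥C).1.1 w.1) = w.1 from t.1.1.apply_symm_apply w.1))
          (LinearMap.ext fun w => Subtype.ext (show (t⁻¹ : ↥C).1.1 (t.1.1 w.1) = w.1 from t.1.1.symm_apply_apply w.1)),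
        fun w => t.1.2 w.1⟩
      map_one' := Subtype.ext (LinearEquiv.ext fun w => rfl)
      map_mul' := fun s t => Subtype.ext (LinearEquiv.ext fun w => rfl) }
  have hres : Function.Surjective res := by
    intro a
    let pr : (ι → F) →ₗ[F] ↥W := LinearMap.codRestrict W
      ((2⁻¹ : F) • (LinearMap.id + g.1.toLinearMap)) fun v => (half_mem h2 hg v).1
    let mk : oGroup (Q.comp W.subtype) → ((ι → F) →ₗ[F] (ι → F)) := fun a =>
      W.subtype ∘ₗ (a.1.toLinearMap ∘ₗ pr) + (2⁻¹ : F) • (LinearMap.id - g.1.toLinearMap)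
    have happ : ∀ a v, mk a v = (a.1 (pr v) : ι → F) + (2⁻¹ : F) • (v - g.1 v) := fun a v => rfl
    have hpr : ∀ a v, pr (mk a v) = a.1 (pr v) := fun a v => by
      refine Subtype.ext ?_
      change (2⁻¹ : F) • (mk a v + g.1 (mk a v)) = _
      have h1 : g.1 (a.1 (pr v) : ι → F) = (a.1 (pr v) : ι → F) := mem_fixSp.mp (a.1 (pr v)).2
      rw [happ, map_add, h1, map_smul, map_sub, invol_apply h2 hg]
      have h3 : (2⁻¹ : F) • (2 : F) • (a.1 (pr v) : ι → F) = (a.1 (pr v) : ι → F) := by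
        rw [smul_smul, inv_mul_cancel₀ h2, one_smul]
      linear_combination (norm := module) h3
    have hneg : ∀ a v, (2⁻¹ : F) • (mk a v - g.1 (mk a v)) = (2⁻¹ : F) • (v - g.1 v) := fun a v => by
      have h1 : g.1 (a.1 (pr v) : ι → F) = (a.1 (pr v) : ι → F) := mem_fixSp.mp (a.1 (pr v)).2
      rw [happ, map_add, h1, map_smul, map_sub, invol_apply h2 hg]
      have h3 : (2⁻¹ : F) • (2 : F) • (2⁻¹ : F) • (v - g.1 v) = (2⁻¹ : F) • (v - g.1 v) := by
        rw [smul_smul, inv_mul_cancel₀ h2, one_smul]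
      linear_combination (norm := module) h3
    have hcomp : ∀ a b v, mk a (mk b v) = mk (a * b) v := fun a b v => by
      rw [happ, hpr, hneg, happ]
      rfl
    have hone : ∀ v, mk 1 v = v := fun v => by
      rw [happ]
      exact half_add h2 hg v
    have hsum : ∀ (w : ↥W) v, Q (w.1 + (2⁻¹ : F) • (v - g.1 v)) = Q w.1 + Q ((2⁻¹ : F) • (v - g.1 v)) := fun w v => by
      rw [quad_add, polar_fix_neg h2 hg w.2 (half_mem h2 hg v).2, add_zero]
    let t : oGroup Q := ⟨LinearEquiv.ofLinearMap (mk a) (mk a⁻¹)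
        (LinearMap.ext fun v => by rw [LinearMap.comp_apply, hcomp, mul_inv_cancel, hone, LinearMap.id_apply])
        (LinearMap.ext fun v => by rw [LinearMap.comp_apply, hcomp, inv_mul_cancel, hone, LinearMap.id_apply]),
      fun v => by
        change Q (mk a v) = Q v
        conv_rhs => rw [← hone v]
        rw [happ, happ, hsum, hsum]
        congr 1
        exact a.2 (pr v)⟩
    have htC : t ∈ C := by
      rw [hC, mem_centI_iso, mul_inv_eq_iff_eq_mul]
      refine Subtype.ext (LinearEquiv.ext fun v => ?_)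
      change g.1 (mk a v) = mk a (g.1 v)
      have h1 : g.1 (a.1 (pr v) : ι → F) = (a.1 (pr v) : ι → F) := mem_fixSp.mp (a.1 (pr v)).2
      have h3 : pr (g.1 v) = pr v := Subtype.ext (by
        change (2⁻¹ : F) • (g.1 v + g.1 (g.1 v)) = (2⁻¹ : F) • (v + g.1 v)
        rw [invol_apply h2 hg, add_comm])
      rw [happ, happ, map_add, h1, map_smul, map_sub, invol_apply h2 hg, h3]
    refine ⟨⟨t, htC⟩, Subtype.ext (LinearEquiv.ext fun w => Subtype.ext ?_)⟩
    change mk a w.1 = (a.1 w : ι → F)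
    have hw : g.1 w.1 = w.1 := mem_fixSp.mp w.2
    have h3 : pr w.1 = w := Subtype.ext (by
      change (2⁻¹ : F) • (w.1 + g.1 w.1) = w.1
      rw [hw, ← two_smul F w.1, smul_smul, inv_mul_cancel₀ h2, one_smul])
    rw [happ, h3, hw, sub_self, smul_zero, add_zero]
  have hnd : (polarBilin (Q.comp W.subtype)).Nondegenerate := by
    rw [show polarBilin (Q.comp W.subtype) = (polarBilin Q).compl₁₂ W.subtype W.subtype from
      LinearMap.ext fun x => LinearMap.ext fun y => rfl]
    exact nondeg_fixSp hQ.nd h2 hg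
  haveI hPn : (P.subgroupOf C).Normal := ⟨fun x hx t => hn t.1 t.2 x.1 hx⟩
  have key := odd_normal_pm hnd h2 hd ((P.subgroupOf C).map res) (hPn.map res hres) (by
    rintro _ ⟨x, hx, rfl⟩
    obtain ⟨k, hk, hxk⟩ := ho x.1 hx
    refine ⟨k, hk, ?_⟩
    rw [← map_pow]
    rcases hxk with e | e
    · exact Or.inl (Subtype.ext (LinearEquiv.ext fun w => Subtype.ext (congrArg (fun t : oGroup Q => t.1 w.1) e)))
    · exact Or.inr (Subtype.ext (LinearEquiv.ext fun w => Subtype.ext (congrArg (fun t : oGroup Q => t.1 w.1) e))))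
    (res ⟨h, hle hh⟩) ⟨⟨h, hle hh⟩, hh, rfl⟩
  rcases key with e | e
  · exact Or.inl fun w hw => congrArg Subtype.val (congrArg (fun t : oGroup (Q.comp W.subtype) => t.1 ⟨w, hw⟩) e)
  · exact Or.inr fun w hw => congrArg Subtype.val (congrArg (fun t : oGroup (Q.comp W.subtype) => t.1 ⟨w, hw⟩) e)

end CfsgLib.LocalBal
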