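import Cfsg.Agent.LocalBal.InvIso

/-!
The odd core at automorphisms of `POmega` induced by involutive isometries with odd eigenspaces.
-/

set_option autoImplicit false
set_option linter.unusedSectionVars false
set_option linter.style.haveILetI false

namespace CfsgLib.LocalBal

open QuadraticMap CfsgLib.Forms CfsgLib.Quad CfsgLib.AutPOm

variable {F : Type*} [Field F] [Finite F] {ι : Type} [Fintype ι] [DecidableEq ι]
  {Q : QuadraticForm F (ι → F)} (hQ : Big Q) (h2 : (2 : F) ≠ 0) {g : oGroup Q} (hg : g * g = 1)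
  (h8 : 8 ≤ Fintype.card ι) (hodd : Odd (Module.finrank F (fixSp g)))
  (hodd' : Odd (Module.finrank F (fixSp (negIso Q * g))))
include hQ h2 hg h8 hodd hodd'

omit hQ hodd hodd' h8 in
theorem neg_mul_sq : negIso Q * g * (negIso Q * g) = 1 :=
  Subtype.ext (LinearEquiv.ext fun v => by
    change -(g.1 (-(g.1 v))) = v
    rw [map_neg, neg_neg, invol_apply h2 hg])

theorem sum_dims : Module.finrank F (fixSp g) + Module.finrank F (fixSp (negIso Q * g)) = Fintype.card ι := by
  have hinf : fixSp g ⊓ fixSp (negIso Q * g) = ⊥ := (Submodule.eq_bot_iff _).mpr fun x hx => by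
    obtain ⟨hx1, hx2⟩ := hx
    have h1 := polar_fix_neg h2 hg hx1 hx2
    rw [SetLike.mem_coe, mem_fixSp] at hx1 hx2
    change -(g.1 x) = x at hx2
    rw [hx1, neg_eq_iff_add_eq_zero, ← two_smul F x, smul_eq_zero] at hx2
    exact hx2.resolve_left h2
  have hsup : fixSp g ⊔ fixSp (negIso Q * g) = ⊤ := Submodule.eq_top_iff'.mpr fun v =>
    Submodule.mem_sup.mpr ⟨_, (half_mem h2 hg v).1, _, (half_mem h2 hg v).2, half_add h2 hg v⟩
  have h := Submodule.finrank_sup_add_finrank_inf_eq (fixSp g) (fixSp (negIso Q * g))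
  rw [hsup, hinf, finrank_bot, add_zero, finrank_top, Module.finrank_fintype_fun_eq_card] at h
  exact h.symm

theorem iso_fix_core : Cfsg.pPrimeCore 2 ↥(Fix (pomHom Q (isoHom Q g))) = ⊥ := by
  refine fix_core hQ _ fun P hle hn ho h hh => ?_
  have hC : centI (isoHom Q g) = centI (isoHom Q (negIso Q * g)) := by
    ext t
    rw [mem_centI_iso, mem_centI_iso]
    refine Iff.of_eq (congrArg (· = t) (Subtype.ext (LinearEquiv.ext fun v => ?_)))
    change g.1 (t.1 (g.1.symm v)) = -(g.1 (t.1 (g.1.symm ((LinearEquiv.neg F (M := ι → F)).symm v))))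
    simp
  have hdims : ∀ {d : ℕ}, Odd d → d = 1 ∨ d = 3 ∨ 5 ≤ d := fun ⟨i, hi⟩ => by omega
  have h1 := fix_pm_on hQ h2 hg (hdims hodd) P hle hn ho h hh
  have h3 := fix_pm_on hQ h2 (neg_mul_sq h2 hg) (hdims hodd') P (hC ▸ hle) (hC ▸ hn) ho h hh
  have hext : ∀ t : oGroup Q, (∀ w ∈ fixSp g, h.1 w = t.1 w) → (∀ w ∈ fixSp (negIso Q * g), h.1 w = t.1 w) →
      h = t := fun t e e' => Subtype.ext (LinearEquiv.ext fun v => by
    rw [← half_add h2 hg v, map_add, map_add, e _ (half_mem h2 hg v).1, e' _ (half_mem h2 hg v).2])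
  have hW : ∀ w ∈ fixSp (negIso Q * g), g.1 w = -w := fun w hw => by
    rw [mem_fixSp] at hw
    change -(g.1 w) = w at hw
    exact neg_eq_iff_eq_neg.mp hw
  have key : IsPM h ∨ h * h = 1 := by
    rcases h1 with e | e <;> rcases h3 with e' | e'
    · exact Or.inl (Or.inl (hext 1 e e'))
    · refine Or.inr ?_
      rw [hext g (fun w hw => (e w hw).trans (mem_fixSp.mp hw).symm) (fun w hw => (e' w hw).trans (hW w hw).symm)]
      exact hg
    · refine Or.inr ?_
      rw [hext (negIso Q * g) (fun w hw => by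
        change h.1 w = -(g.1 w)
        rw [e w hw, mem_fixSp.mp hw]) (fun w hw => (e' w hw).trans (mem_fixSp.mp hw).symm)]
      exact neg_mul_sq h2 hg
    · exact Or.inl (Or.inr (hext (negIso Q) e e'))
  rcases key with k | k
  · exact k
  · obtain ⟨j, ⟨i, rfl⟩, hj⟩ := ho h hh
    rwa [pow_succ, pow_mul, pow_two, k, one_pow, one_mul] at hj

theorem exists_two_in {v : ι → F} (hv : v ∈ fixSp g) (hQv : Q v ≠ 0) :
    ∃ w w', (w ∈ fixSp g ∨ w ∈ fixSp (negIso Q * g)) ∧ (w' ∈ fixSp g ∨ w' ∈ fixSp (negIso Q * g)) ∧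
      polar Q v w = 0 ∧ polar Q v w' = 0 ∧ polar Q w w' = 0 ∧ Q w = Q v ∧ Q w' = Q v := by
  have hnd : ∀ {t : oGroup Q}, t * t = 1 → (polarBilin (Q.comp (fixSp t).subtype)).Nondegenerate := fun {t} ht => by
    rw [show polarBilin (Q.comp (fixSp t).subtype) = (polarBilin Q).compl₁₂ (fixSp t).subtype (fixSp t).subtype from
      LinearMap.ext fun x => LinearMap.ext fun y => rfl]
    exact nondeg_fixSp hQ.nd h2 ht
  by_cases h3 : 3 ≤ Module.finrank F (fixSp (negIso Q * g))
  · have hn' := hnd (neg_mul_sq h2 hg)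
    obtain ⟨⟨w, hw⟩, hwc⟩ := exists_value hn' h2 (by omega) (Q v)
    obtain ⟨⟨w', hw'⟩, hww, hwc'⟩ := exists_perp_value hn' h2 h3 (v := ⟨w, hw⟩) (by rwa [hwc]) (Q v)
    exact ⟨w, w', Or.inr hw, Or.inr hw', polar_fix_neg h2 hg hv hw, polar_fix_neg h2 hg hv hw', hww, hwc, hwc'⟩
  · have h4 : 4 ≤ Module.finrank F (fixSp g) := by
      have := sum_dims hQ h2 hg h8 hodd hodd'
      omega
    obtain ⟨⟨w, hw⟩, hvw, hwc⟩ := exists_perp_value (hnd hg) h2 (by omega) (v := ⟨v, hv⟩) hQv (Q v)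
    obtain ⟨⟨w', hw'⟩, hvw', hww, hwc'⟩ :=
      exists_perp_value₂ (hnd hg) h2 h4 (v := ⟨v, hv⟩) (w := ⟨w, hw⟩) hQv (by rwa [hwc]) hvw (Q v)
    exact ⟨w, w', Or.inl hw, Or.inl hw', hvw, hvw', hww, hwc, hwc'⟩

theorem line_fixed {R : Semi Q} (hR : ∀ z ∈ Fix (pomHom Q (isoHom Q g)), pomHom Q R z = z) {v : ι → F}
    (hv : v ∈ fixSp g) (hQv : Q v ≠ 0) : ∃ b : F, R.T v = b • v := by
  obtain ⟨w, w', hw, hw', hvw, hvw', hww, hwc, hwc'⟩ := exists_two_in hQ h2 hg h8 hodd hodd' hv hQv
  have hrefl : ∀ u, u ∈ fixSp g ∨ u ∈ fixSp (negIso Q * g) → CfsgLib.Quad.refl Q u ∈ centI (isoHom Q g) := by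
    intro u hu
    rw [mem_centI_iso, refl_conj]
    rcases hu with h | h
    · rw [mem_fixSp.mp h]
    · have h' : -(g.1 u) = u := mem_fixSp.mp h
      rw [neg_eq_iff_eq_neg.mp h', ← neg_one_smul F u, refl_smul (neg_ne_zero.mpr one_ne_zero)]
  have plane : ∀ u, (u ∈ fixSp g ∨ u ∈ fixSp (negIso Q * g)) → polar Q v u = 0 → Q u = Q v →
      ∃ a b : F, R.T v = a • v + b • u := by
    intro u hu hvu huc
    have hQu : Q u ≠ 0 := by rwa [huc]
    set h := CfsgLib.Quad.refl Q v * CfsgLib.Quad.refl Q u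
    have hc : h ∈ centI (isoHom Q g) := mul_mem (hrefl v (Or.inl hv)) (hrefl u hu)
    have hm : h ∈ Om Q := refl_pair_mem_commutator hQ.nd hQv hQu (by rw [huc]; exact IsSquare.mul_self _)
    set U := Submodule.span F (Set.range ![v, u])
    have hvU : v ∈ U := Submodule.subset_span ⟨0, rfl⟩
    have huU : u ∈ U := Submodule.subset_span ⟨1, rfl⟩
    have happ : ∀ z, h.1 z = z + (-(Q u)⁻¹ * polar Q z u) • u + (-(Q v)⁻¹ * polar Q z v) • v := fun z => by
      change (CfsgLib.Quad.refl Q v).1 ((CfsgLib.Quad.refl Q u).1 z) = _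
      rw [CfsgLib.Quad.refl_apply v, CfsgLib.Quad.refl_apply u, polar_add_left, polar_smul_left,
        polar_comm Q u v, hvu, smul_zero, add_zero]
    have hiff : ∀ z, h.1 z = z ↔ z ∈ perpS Q U := fun z => by
      constructor
      · intro hz
        rw [happ, add_assoc, add_eq_left] at hz
        have h1 := congrArg (fun t => polar Q t v) hz
        have h3 := congrArg (fun t => polar Q t u) hz
        simp only [polar_add_left, polar_smul_left, polar_self, polar_comm Q u v, hvu, smul_eq_mul, nsmul_eq_mul,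
          Nat.cast_ofNat, mul_zero, add_zero, zero_add, polar_zero_left] at h1 h3
        have hzv : polar Q z v = 0 := by
          rcases mul_eq_zero.mp h1 with e | e
          · exact (mul_eq_zero.mp e).resolve_left (neg_ne_zero.mpr (inv_ne_zero hQv))
          · exact absurd e (mul_ne_zero h2 hQv)
        have hzu : polar Q z u = 0 := by
          rcases mul_eq_zero.mp h3 with e | e
          · exact (mul_eq_zero.mp e).resolve_left (neg_ne_zero.mpr (inv_ne_zero hQu))
          · exact absurd e (mul_ne_zero h2 hQu)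
        intro x hx
        obtain ⟨c, rfl⟩ := (Submodule.mem_span_range_iff_exists_fun F).mp hx
        simp [Fin.sum_univ_two, polar_add_left, polar_smul_left, polar_comm Q v z, polar_comm Q u z, hzv, hzu]
      · intro hz
        rw [happ, polar_comm Q z u, hz u huU, polar_comm Q z v, hz v hvU]
        simp
    have hdim : Fintype.card ι < 2 * Module.finrank F (perpS Q U) := by
      have h1 := finrank_perpS hQ.nd U
      have h3 : Module.finrank F U ≤ 2 := (finrank_range_le_card _).trans (by simp)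
      rw [Module.finrank_fintype_fun_eq_card] at h1
      omega
    have he := oEquiv_eq_of_large (perpS Q U) (fun z hz => (hiff z).mpr hz) hdim h2 (oEquiv_pm hQ _ hR hm hc)
    have hcomm : ∀ z, R.T (h.1 z) = h.1 (R.T z) := fun z => by
      conv_rhs => rw [← he, Semi.oEquiv_apply, AddEquiv.symm_apply_apply]
    have hmem : R.T v ∈ U := by
      refine (perpS_perpS hQ.nd U).le ?_
      intro z hz
      obtain ⟨z₁, rfl⟩ := R.T.surjective z
      have hz₁ : z₁ ∈ perpS Q U := (hiff z₁).mp (R.T.injective (by rw [hcomm, (hiff _).mpr hz]))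
      rw [R.polar_map, polar_comm, hz₁ v hvU, map_zero, mul_zero]
    obtain ⟨c, hc'⟩ := (Submodule.mem_span_range_iff_exists_fun F).mp hmem
    exact ⟨c 0, c 1, by rw [← hc', Fin.sum_univ_two]; rfl⟩
  obtain ⟨a, b, h1⟩ := plane w hw hvw hwc
  obtain ⟨a', b', h1'⟩ := plane w' hw' hvw' hwc'
  have h6 := congrArg (fun t => polar Q t w) (h1.symm.trans h1')
  simp only [polar_add_left, polar_smul_left, hvw, polar_comm Q w' w, hww, polar_self, smul_eq_mul, nsmul_eq_mul,
    Nat.cast_ofNat, mul_zero, zero_add, add_zero] at h6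
  refine ⟨a, ?_⟩
  rw [h1, (mul_eq_zero.mp h6).resolve_right (mul_ne_zero h2 (by rwa [hwc])), zero_smul, add_zero]

end CfsgLib.LocalBal
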