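import Cfsg.Agent.LocalBal.OrthStab

/-!
Local balance at outer automorphisms of `Ω_{2m+1}`.
-/

set_option autoImplicit false
set_option linter.unusedSectionVars false

namespace CfsgLib.LocalBal

open QuadraticMap CfsgLib.Forms CfsgLib.Quad CfsgLib.AutPOm Matrix

variable {F : Type*} [Field F] [Finite F] {m : ℕ}

theorem isFieldAut_phiO (σ : RingAut F) :
    Cfsg.IsFieldAutPOmegaOf ⇑(oddQ (F := F) m) σ (phiO (m := m) σ) := by
  intro s s' h
  refine ((induced_iff (cT (m := m) σ)).mpr rfl) s s' ?_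
  rw [h, show (cT (m := m) σ).mat = 1 from Semi.mat_eq fun v => by
    rw [Units.val_one, Matrix.one_mulVec]; rfl]
  simp only [Units.val_one, inv_one, Matrix.one_mul, Matrix.mul_one]
  rfl

theorem conj_injective_POm {ι : Type} [Fintype ι] [DecidableEq ι] {Q : QuadraticForm F (ι → F)} (hQ : Big Q) :
    Function.Injective (MulAut.conj : Cfsg.POmega F ⇑Q →* MulAut (Cfsg.POmega F ⇑Q)) := by
  intro a b h
  refine (pOmegaEquiv Q).injective (conj_injective_PG hQ (MulEquiv.ext fun z => ?_))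
  have h1 := congrArg (pOmegaEquiv Q) (DFunLike.congr_fun h ((pOmegaEquiv Q).symm z))
  simpa using h1

set_option maxHeartbeats 800000 in
theorem orth_odd_criterion (h2 : (2 : F) ≠ 0) (hm : 3 ≤ m)
    (q : (Unit ⊕ (Fin m ⊕ Fin m) → F) → F) (hq : q = ⇑(oddQ (F := F) m))
    (A : Subgroup (MulAut (Cfsg.POmega F q))) (hinn : ∀ k : Cfsg.POmega F q, MulAut.conj k ∈ A)
    {p : ℕ} [Fact p.Prime] (x : MulAut (Cfsg.POmega F q)) (hord : orderOf x = p)
    (hnot : ¬ Cfsg.IsSimilarityInducedAutPOmega q x) :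
    Cfsg.pPrimeCore p ↥(A ⊓ Subgroup.centralizer {x}) ≠ ⊥ ↔ (Cfsg.IsFieldAutClassPOmega q x ∧
      Nat.Coprime p (Nat.card ↥(MonoidHom.eqLocus x.toMonoidHom (MonoidHom.id (Cfsg.POmega F q))))) := by
  subst hq
  have hpp : p.Prime := Fact.out
  obtain ⟨hQ, hs⟩ := big_oddQ (F := F) h2 hm
  obtain ⟨S, rfl⟩ := pomHom_surjective hQ hs x
  set σ : RingAut F := S.σ with hσdef
  have hσ1 : σ ≠ 1 := fun e => by
    have e' : S.σ = RingEquiv.refl F := e
    have h := (induced_iff S).mpr (rfl : pomHom _ S = pomHom _ S)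
    rw [e'] at h
    exact hnot ⟨S.mat, Semi.mat_mem e', h⟩
  have hσp : σ ^ p = 1 := by
    have h1 := pow_orderOf_eq_one (pomHom _ S)
    rw [hord, ← map_pow, pomHom_eq_one_iff, mem_ker_pgHom hQ] at h1
    obtain ⟨u, hu⟩ := h1
    rw [hσdef, ← Semi.pow_σ, hu]
    rfl
  have hσo : orderOf σ = p := orderOf_eq_prime hσp hσ1
  have hf : IsFixed (CfsgLib.AutPSL.fixField σ).subtype σ p :=
    ⟨hσo, hpp.pos, fun z => (CfsgLib.AutPSL.mem_fixField σ).mp z.2,
      fun y hy => ⟨⟨y, (CfsgLib.AutPSL.mem_fixField σ).mpr hy⟩, rfl⟩⟩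
  obtain ⟨w, hw⟩ := exists_pow_lift hQ hf (S := S) rfl (by rw [← hord]; exact pow_orderOf_eq_one _)
  set Y := scalarHom _ w * S
  have hYσ : Y.σ = σ := RingEquiv.ext fun z => rfl
  obtain ⟨J, v, hJ, hT⟩ := odd_model hf hQ.nd Y hYσ hw
  let L : Semi (oddQ (F := F) m) :=
    { σ := RingEquiv.refl F
      T := J.toAddEquiv
      c := v
      smul := fun a z => J.map_smul a z
      quad := hJ }
  have hYL : Y * L = L * cT σ := by
    rw [← hT]
    refine Semi.ext' (RingEquiv.ext fun z => rfl) (fun z => ?_) (Units.ext ?_)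
    · rw [Semi.mul_T, Semi.mul_T, transport_T]
      show J ((cT σ).T (J.symm (J z))) = J ((cT σ).T z)
      rw [J.symm_apply_apply]
    · rw [Semi.mul_c, Semi.mul_c, transport_c, transport_σ]
      show (((1 : Fˣ) * v * (Units.map σ.toMonoidHom v)⁻¹ : Fˣ) : F) * σ (v : F) = (v : F) * ((1 : Fˣ) : F)
      rw [one_mul, Units.val_one, mul_one, Units.val_mul, Units.val_inv_eq_inv_val]
      show (v : F) * (σ (v : F))⁻¹ * σ (v : F) = v
      rw [mul_assoc, inv_mul_cancel₀ ((map_ne_zero σ).mpr v.ne_zero), mul_one]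
  have hx : pomHom _ S = pomHom _ L * phiO σ * (pomHom _ L)⁻¹ := by
    rw [← map_mul (pomHom _), ← hYL, map_mul, pomHom_scalar_mul hQ, mul_inv_cancel_right]
  have hclass : Cfsg.IsFieldAutClassPOmega ⇑(oddQ (F := F) m) (pomHom _ S) := by
    refine ⟨(pomHom _ L)⁻¹, phiO σ, σ, hσ1, isFieldAut_phiO σ, ?_⟩
    rw [hx]
    group
  rw [and_iff_right hclass]
  refine criterion_conj (conj_injective_POm hQ) A hinn (pomHom _ L) (phiO σ) _ hx hord (subO σ) (subO_le σ)
    (fixO_ne_bot σ h2 hm) (subO_normal σ h2 hm) ?_ ?_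
  · exact fun hd N hN hc => subO_normal_bot σ h2 hm hpp hd N hN hc
  · intro y _ hy
    obtain ⟨S', rfl⟩ := pomHom_surjective hQ hs y
    exact mem_zpowers_of_fix_subO σ h2 hm hy

end CfsgLib.LocalBal
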