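import Cfsg.Agent.LocalBal.InvIsoMain
import Cfsg.Agent.LocalBal.Orth

/-!
The centralisers of involutive isometries with odd eigenspaces have trivial odd core.
-/

set_option autoImplicit false
set_option linter.unusedSectionVars false
set_option linter.style.haveILetI false

namespace CfsgLib.LocalBal

open QuadraticMap CfsgLib.Forms CfsgLib.Quad CfsgLib.AutPOm

variable {F : Type*} [Field F] [Finite F] {ι : Type} [Fintype ι] [DecidableEq ι]
  {Q : QuadraticForm F (ι → F)} (hQ : Big Q) (h2 : (2 : F) ≠ 0) {g : oGroup Q} (hg : g * g = 1)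
  (h8 : 8 ≤ Fintype.card ι) (hodd : Odd (Module.finrank F (fixSp g)))
  (hodd' : Odd (Module.finrank F (fixSp (negIso Q * g))))

omit h2 in
theorem pomHom_neg_iso (hQ : Big Q) (g : oGroup Q) :
    pomHom Q (isoHom Q (negIso Q * g)) = pomHom Q (isoHom Q g) := by
  have h : isoHom Q (negIso Q * g) = scalarHom Q (-1) * isoHom Q g := Semi.ext' rfl (fun v => by
    change -(g.1 v) = ((-1 : Fˣ) : F) • g.1 v
    simp) (Units.ext (by
    rw [Semi.mul_c]
    change (1 : F) = ((-1 : Fˣ) : F) * ((-1 : Fˣ) : F) * 1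
    simp))
  rw [h, pomHom_scalar_mul hQ]

include hQ h2 hg h8 hodd hodd'

theorem scalar_on_big {R : Semi Q} (hR : ∀ z ∈ Fix (pomHom Q (isoHom Q g)), pomHom Q R z = z)
    (hd : 3 ≤ Module.finrank F (fixSp g)) :
    R.σ = RingEquiv.refl F ∧ ∃ μ : F, (∀ w ∈ fixSp g, R.T w = μ • w) ∧ (R.c : F) = μ * μ := by
  set W := fixSp g with hW
  have hnd : (polarBilin (Q.comp W.subtype)).Nondegenerate := by
    rw [show polarBilin (Q.comp W.subtype) = (polarBilin Q).compl₁₂ W.subtype W.subtype from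
      LinearMap.ext fun x => LinearMap.ext fun y => rfl]
    exact nondeg_fixSp hQ.nd h2 hg
  obtain ⟨e, f, he, hf, hef⟩ := exists_pair_one hnd h2 hd
  have hline : ∀ w ∈ W, Q w ≠ 0 → ∃ b : F, R.T w = b • w := fun w hw hQw =>
    line_fixed hQ h2 hg h8 hodd hodd' hR hw hQw
  have hmaps : ∀ w ∈ W, R.T w ∈ W := by
    intro w hw
    have hanis : ∀ z ∈ W, Q z ≠ 0 → R.T z ∈ W := fun z hz hQz => by
      obtain ⟨b, hb⟩ := hline z hz hQz
      rw [hb]; exact W.smul_mem b hz
    have heW := hanis e.1 e.2 (by rw [show Q e.1 = (1 : F) from he]; exact one_ne_zero)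
    by_cases hQw : Q w = 0
    · rcases em (Q (w + e.1) = 0) with h | h
      · have h3 : Q (w - e.1) ≠ 0 := by
          intro h'
          rw [sub_eq_add_neg, quad_add, QuadraticMap.map_neg, polar_neg_right, hQw, show Q e.1 = (1 : F) from he] at h'
          rw [quad_add, hQw, show Q e.1 = (1 : F) from he] at h
          exact h2 (by linear_combination h + h')
        have h4 := W.add_mem (hanis _ (W.sub_mem hw e.2) h3) heW
        rwa [← map_add, sub_add_cancel] at h4
      · have h4 := W.sub_mem (hanis _ (W.add_mem hw e.2) h) heW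
        rwa [← map_sub, add_sub_cancel_right] at h4
    · exact hanis w hw hQw
  let R' : ↥W →+ ↥W :=
    { toFun := fun w => ⟨R.T w.1, hmaps w.1 w.2⟩
      map_zero' := Subtype.ext (map_zero _)
      map_add' := fun a b => Subtype.ext (map_add R.T _ _) }
  obtain ⟨μ, hμ⟩ := scalar_of_lines (P := Q.comp W.subtype) h2 R' (fun w hw => by
    obtain ⟨b, hb⟩ := hline w.1 w.2 hw
    exact ⟨b, Subtype.ext hb⟩) one_ne_zero he hf hef
  have hT : ∀ w ∈ W, R.T w = μ • w := fun w hw => congrArg Subtype.val (hμ ⟨w, hw⟩)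
  have he0 : (e : ι → F) ≠ 0 := fun h => one_ne_zero (α := F) (by
    rw [← he, show Q.comp W.subtype e = Q e.1 from rfl, h, QuadraticMap.map_zero])
  have hμ0 : μ ≠ 0 := fun h => he0 (R.T.injective (by rw [hT _ e.2, h, zero_smul, map_zero]))
  have hσ : R.σ = RingEquiv.refl F := RingEquiv.ext fun t => by
    have h1 := hT _ (W.smul_mem t e.2)
    rw [R.smul, hT _ e.2, smul_smul, smul_smul, mul_comm μ t] at h1
    exact mul_right_cancel₀ hμ0 (smul_left_injective F he0 h1)
  refine ⟨hσ, μ, hT, ?_⟩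
  have h1 := R.quad e.1
  rw [hT _ e.2, quad_smul, show Q e.1 = (1 : F) from he, hσ] at h1
  simpa using h1.symm

theorem scalar_on {R : Semi Q} (hR : ∀ z ∈ Fix (pomHom Q (isoHom Q g)), pomHom Q R z = z)
    (hσ : R.σ = RingEquiv.refl F) :
    ∃ μ : F, (∀ w ∈ fixSp g, R.T w = μ • w) ∧ (R.c : F) = μ * μ := by
  by_cases hd : 3 ≤ Module.finrank F (fixSp g)
  · exact (scalar_on_big hQ h2 hg h8 hodd hodd' hR hd).2
  have h1 : Module.finrank F (fixSp g) = 1 := by obtain ⟨i, hi⟩ := hodd; omega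
  have hnd : (polarBilin (Q.comp (fixSp g).subtype)).Nondegenerate := by
    rw [show polarBilin (Q.comp (fixSp g).subtype) = (polarBilin Q).compl₁₂ (fixSp g).subtype (fixSp g).subtype from
      LinearMap.ext fun x => LinearMap.ext fun y => rfl]
    exact nondeg_fixSp hQ.nd h2 hg
  obtain ⟨v, hv⟩ := exists_aniso hnd h1.ge
  obtain ⟨b, hb⟩ := line_fixed hQ h2 hg h8 hodd hodd' hR v.2 hv
  refine ⟨b, fun w hw => ?_, ?_⟩
  · have hv0 : v ≠ 0 := fun e => hv (by rw [e, QuadraticMap.map_zero])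
    obtain ⟨t, ht⟩ := (finrank_eq_one_iff_of_nonzero' v hv0).mp h1 ⟨w, hw⟩
    rw [show w = t • (v : ι → F) from (congrArg Subtype.val ht).symm, R.smul, hσ, hb, smul_comm]
    rfl
  · have h3 := R.quad v.1
    rw [hb, quad_smul, hσ] at h3
    exact (mul_right_cancel₀ hv h3).symm

theorem iso_stab {R : Semi Q} (hR : ∀ z ∈ Fix (pomHom Q (isoHom Q g)), pomHom Q R z = z) :
    pomHom Q R = 1 ∨ pomHom Q R = pomHom Q (isoHom Q g) := by
  have hg' := neg_mul_sq h2 hg
  have hback : negIso Q * (negIso Q * g) = g := by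
    rw [← mul_assoc, IsPM.sq (show IsPM (negIso Q) from Or.inr rfl), one_mul]
  have hR' : ∀ z ∈ Fix (pomHom Q (isoHom Q (negIso Q * g))), pomHom Q R z = z := by rwa [pomHom_neg_iso hQ g]
  have hodd2 : Odd (Module.finrank F (fixSp (negIso Q * (negIso Q * g)))) := by rw [hback]; exact hodd
  have hσ : R.σ = RingEquiv.refl F := by
    by_cases hd : 3 ≤ Module.finrank F (fixSp g)
    · exact (scalar_on_big hQ h2 hg h8 hodd hodd' hR hd).1
    · have hd' : 3 ≤ Module.finrank F (fixSp (negIso Q * g)) := by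
        have := sum_dims hQ h2 hg h8 hodd hodd'
        omega
      exact (scalar_on_big hQ h2 hg' h8 hodd' hodd2 hR' hd').1
  obtain ⟨μ, hμ, hc⟩ := scalar_on hQ h2 hg h8 hodd hodd' hR hσ
  obtain ⟨ν, hν, hc'⟩ := scalar_on hQ h2 hg' h8 hodd' hodd2 hR' hσ
  have hμ0 : μ ≠ 0 := fun e => R.c.ne_zero (by rw [hc, e, mul_zero])
  have hsplit : ∀ (t : oGroup Q), (∀ w ∈ fixSp g, R.T w = μ • t.1 w) →
      (∀ w ∈ fixSp (negIso Q * g), R.T w = μ • t.1 w) → pomHom Q R = pomHom Q (isoHom Q t) := by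
    intro t e e'
    rw [← pomHom_scalar_mul hQ (Units.mk0 μ hμ0) (isoHom Q t)]
    refine congrArg _ (Semi.ext' (hσ.trans rfl) (fun v => ?_) (Units.ext ?_))
    · change R.T v = μ • t.1 v
      rw [← half_add h2 hg v, map_add, map_add, e _ (half_mem h2 hg v).1, e' _ (half_mem h2 hg v).2, ← smul_add]
    · rw [Semi.mul_c]
      change (R.c : F) = μ * μ * 1
      rw [mul_one, hc]
  rcases mul_self_eq_mul_self_iff.mp (hc.symm.trans hc') with e | e
  · left
    have h := hsplit 1 (fun w hw => hμ w hw) (fun w hw => by rw [hν w hw, ← e]; rfl)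
    rwa [map_one, map_one] at h
  · right
    refine hsplit g (fun w hw => by rw [mem_fixSp.mp hw]; exact hμ w hw) (fun w hw => ?_)
    rw [hν w hw]
    have h' : -(g.1 w) = w := mem_fixSp.mp hw
    rw [neg_eq_iff_eq_neg.mp h', smul_neg, ← neg_smul, e, neg_neg]

theorem iso_core (hs : Shape Q) (A : Subgroup (MulAut (Cfsg.POmega F ⇑Q)))
    (hinn : ∀ z : Cfsg.POmega F ⇑Q, MulAut.conj z ∈ A) (hord : orderOf (pomHom Q (isoHom Q g)) = 2) :
    Cfsg.pPrimeCore 2 ↥(A ⊓ Subgroup.centralizer {pomHom Q (isoHom Q g)}) = ⊥ := by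
  refine core_eq_bot (conj_injective_POm hQ) A hinn _ (iso_fix_core hQ h2 hg h8 hodd hodd') fun y _ hy hc => ?_
  obtain ⟨R, rfl⟩ := pomHom_surjective hQ hs y
  rcases iso_stab hQ h2 hg h8 hodd hodd' hy with e | e
  · exact e
  · rw [e, hord] at hc
    exact absurd hc (by decide)

end CfsgLib.LocalBal
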