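import Cfsg.Agent.LocalBal.SqrtForm
import Cfsg.Agent.LocalBal.Orth

/-!
Automorphisms of `POmega` induced by similitudes squaring to a non-square scalar.
-/

set_option autoImplicit false
set_option linter.unusedSectionVars false
set_option linter.style.haveILetI false

namespace CfsgLib.LocalBal

open QuadraticMap CfsgLib.Forms CfsgLib.Quad CfsgLib.AutPOm

variable {F : Type*} [Field F] [Finite F] {ι : Type} [Fintype ι] [DecidableEq ι] {Q : QuadraticForm F (ι → F)}
  {u : F} [Fact (∀ r : F, r ^ 2 ≠ u + 0 * r)] [Module (QuadraticAlgebra F u 0) (ι → F)]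
  [IsScalarTower F (QuadraticAlgebra F u 0) (ι → F)] {S : Semi Q}

local notation "EE" => QuadraticAlgebra F u 0

theorem finite_EE : Finite EE := Finite.of_equiv _ (QuadraticAlgebra.equivProd u 0).symm

theorem finite_dim_EE : FiniteDimensional EE (ι → F) := Module.Finite.of_restrictScalars_finite F EE (ι → F)

theorem two_finrank : 2 * Module.finrank EE (ι → F) = Fintype.card ι := by
  rw [← QuadraticAlgebra.finrank_eq_two u 0, Module.finrank_mul_finrank, Module.finrank_fintype_fun_eq_card]

theorem two_ne_zero_EE (D : SqrtData u S) : (2 : EE) ≠ 0 := fun h => D.two (by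
  have h1 := congrArg QuadraticAlgebra.re h
  rwa [← one_add_one_eq_two, QuadraticAlgebra.re_add, QuadraticAlgebra.re_one, one_add_one_eq_two,
    QuadraticAlgebra.re_zero] at h1)

variable (hQ : Big Q) (D : SqrtData u S) (h10 : 10 ≤ Fintype.card ι)
include hQ D h10

theorem sqrt_fix_core : Cfsg.pPrimeCore 2 ↥(Fix (pomHom Q S)) = ⊥ := by
  haveI := finite_EE (F := F) (u := u)
  haveI := finite_dim_EE (F := F) (ι := ι) (u := u)
  refine fix_core hQ _ fun P hle hn ho h hh => ?_
  have hpm : ∀ g : oGroup D.qE, IsPM (D.down g) ↔ IsPM g := fun g => by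
    have hneg : D.down (negIso D.qE) = negIso Q := Subtype.ext (LinearEquiv.ext fun v => rfl)
    constructor
    · rintro (e | e)
      · exact Or.inl (D.down_injective (e.trans (map_one D.down).symm))
      · exact Or.inr (D.down_injective (e.trans hneg.symm))
    · rintro (rfl | rfl)
      · exact Or.inl (map_one _)
      · exact Or.inr hneg
  obtain ⟨g, rfl⟩ := D.exists_down (hle hh)
  refine (hpm g).mpr (odd_normal_pm (D.nondeg hQ.nd) (two_ne_zero_EE D) (Or.inr (Or.inr ?_)) (P.comap D.down)
    ⟨fun x hx t => ?_⟩ (fun x hx => ?_) g hh)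
  · have := two_finrank (F := F) (ι := ι) (u := u)
    omega
  · rw [Subgroup.mem_comap, map_mul, map_mul, map_inv]
    exact hn _ (D.down_mem t) _ hx
  · obtain ⟨k, hk, hxk⟩ := ho _ hx
    exact ⟨k, hk, (hpm _).mp (by rwa [map_pow])⟩

theorem sqrt_line_fixed {R : Semi Q} (hR : ∀ z ∈ Fix (pomHom Q S), pomHom Q R z = z) {v : ι → F}
    (hQv : D.qE v ≠ 0) : ∃ b : EE, R.T v = b • v := by
  haveI := finite_EE (F := F) (u := u)
  haveI := finite_dim_EE (F := F) (ι := ι) (u := u)
  have h2 := two_ne_zero_EE D
  have hnd := D.nondeg hQ.nd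
  have hn := two_finrank (F := F) (ι := ι) (u := u)
  set P := D.qE with hP
  obtain ⟨w, hvw, hwc⟩ := exists_perp_value hnd h2 (by omega) hQv (P v)
  obtain ⟨w', hvw', hww, hwc'⟩ := exists_perp_value₂ hnd h2 (by omega) hQv (by rwa [hwc]) hvw (P v)
  have plane : ∀ x, polar P v x = 0 → P x = P v → ∃ a b : EE, R.T v = a • v + b • x := by
    intro x hvx hxc
    have hQx : P x ≠ 0 := by rwa [hxc]
    set hE := CfsgLib.Quad.refl P v * CfsgLib.Quad.refl P x
    have hm : D.down hE ∈ Om Q := by
      have hle : (commutator (oGroup P)).map D.down ≤ Om Q := by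
        rw [Om, commutator_def, Subgroup.map_commutator, commutator_def]
        exact Subgroup.commutator_mono le_top le_top
      exact hle ⟨_, refl_pair_mem_commutator hnd hQv hQx (by rw [hxc]; exact IsSquare.mul_self _), rfl⟩
    set U := Submodule.span EE (Set.range ![v, x])
    have hvU : v ∈ U := Submodule.subset_span ⟨0, rfl⟩
    have hxU : x ∈ U := Submodule.subset_span ⟨1, rfl⟩
    have happ : ∀ z, (D.down hE).1 z = z + (-(P x)⁻¹ * polar P z x) • x + (-(P v)⁻¹ * polar P z v) • v := fun z => by
      change (CfsgLib.Quad.refl P v).1 ((CfsgLib.Quad.refl P x).1 z) = _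
      rw [CfsgLib.Quad.refl_apply v, CfsgLib.Quad.refl_apply x, polar_add_left, polar_smul_left,
        polar_comm P x v, hvx, smul_zero, add_zero]
    have hiff : ∀ z, (D.down hE).1 z = z ↔ z ∈ perpS P U := fun z => by
      constructor
      · intro hz
        rw [happ, add_assoc, add_eq_left] at hz
        have h1 := congrArg (fun t => polar P t v) hz
        have h3 := congrArg (fun t => polar P t x) hz
        simp only [polar_add_left, polar_smul_left, polar_self, polar_comm P x v, hvx, smul_eq_mul, nsmul_eq_mul,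
          Nat.cast_ofNat, mul_zero, add_zero, zero_add, polar_zero_left] at h1 h3
        have hzv : polar P z v = 0 := by
          rcases mul_eq_zero.mp h1 with e | e
          · exact (mul_eq_zero.mp e).resolve_left (neg_ne_zero.mpr (inv_ne_zero hQv))
          · exact absurd e (mul_ne_zero h2 hQv)
        have hzx : polar P z x = 0 := by
          rcases mul_eq_zero.mp h3 with e | e
          · exact (mul_eq_zero.mp e).resolve_left (neg_ne_zero.mpr (inv_ne_zero hQx))
          · exact absurd e (mul_ne_zero h2 hQx)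
        intro y hy
        obtain ⟨c, rfl⟩ := (Submodule.mem_span_range_iff_exists_fun EE).mp hy
        simp [Fin.sum_univ_two, polar_add_left, polar_smul_left, polar_comm P v z, polar_comm P x z, hzv, hzx]
      · intro hz
        rw [happ, polar_comm P z x, hz x hxU, polar_comm P z v, hz v hvU]
        simp
    have hdim : Fintype.card ι < 2 * Module.finrank F ((perpS P U).restrictScalars F) := by
      have h1 := finrank_perpS hnd U
      have h3 : Module.finrank EE U ≤ 2 := (finrank_range_le_card _).trans (by simp)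
      have h4 : Module.finrank F ((perpS P U).restrictScalars F) = 2 * Module.finrank EE ↥(perpS P U) := by
        rw [← QuadraticAlgebra.finrank_eq_two u 0, Module.finrank_mul_finrank]
        rfl
      omega
    have he := oEquiv_eq_of_large ((perpS P U).restrictScalars F) (fun z hz => (hiff z).mpr hz) hdim D.two
      (oEquiv_pm hQ _ hR hm (D.down_mem hE))
    have hcomm : ∀ z, R.T ((D.down hE).1 z) = (D.down hE).1 (R.T z) := fun z => by
      conv_rhs => rw [← he, Semi.oEquiv_apply, AddEquiv.symm_apply_apply]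
    have horth : ∀ z ∈ perpS P U, polar Q (R.T v) z = 0 := by
      intro z hz
      obtain ⟨z₁, rfl⟩ := R.T.surjective z
      have hz₁ : z₁ ∈ perpS P U := (hiff z₁).mp (R.T.injective (by rw [hcomm, (hiff _).mpr hz]))
      have h5 := hz₁ v hvU
      rw [hP, D.qE_polar] at h5
      rw [R.polar_map, show polar Q v z₁ = 0 from congrArg QuadraticAlgebra.re h5, map_zero, mul_zero]
    have hmem : R.T v ∈ U := by
      refine (perpS_perpS hnd U).le ?_
      intro z hz
      rw [polar_comm, hP, D.qE_polar, horth z hz, ← D.ω_smul, horth _ ((perpS P U).smul_mem _ hz), mul_zero]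
      rfl
    obtain ⟨c, hc'⟩ := (Submodule.mem_span_range_iff_exists_fun EE).mp hmem
    exact ⟨c 0, c 1, by rw [← hc', Fin.sum_univ_two]; rfl⟩
  obtain ⟨a, b, h1⟩ := plane w hvw hwc
  obtain ⟨a', b', h1'⟩ := plane w' hvw' hwc'
  have h6 := congrArg (fun t => polar P t w) (h1.symm.trans h1')
  simp only [polar_add_left, polar_smul_left, hvw, polar_comm P w' w, hww, polar_self, smul_eq_mul, nsmul_eq_mul,
    Nat.cast_ofNat, mul_zero, zero_add, add_zero] at h6
  refine ⟨a, ?_⟩
  rw [h1, (mul_eq_zero.mp h6).resolve_right (mul_ne_zero h2 (by rwa [hwc])), zero_smul, add_zero]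

theorem sqrt_stab {R : Semi Q} (hR : ∀ z ∈ Fix (pomHom Q S), pomHom Q R z = z) :
    pomHom Q R = 1 ∨ pomHom Q R = pomHom Q S := by
  haveI := finite_EE (F := F) (u := u)
  haveI := finite_dim_EE (F := F) (ι := ι) (u := u)
  have h2 := two_ne_zero_EE D
  have hnd := D.nondeg hQ.nd
  have hn := two_finrank (F := F) (ι := ι) (u := u)
  obtain ⟨e, f, he, hf, hef⟩ := exists_pair_one hnd h2 (by omega)
  obtain ⟨μ, hμ⟩ := scalar_of_lines (P := D.qE) h2 R.T.toAddMonoidHom
    (fun v hv => sqrt_line_fixed hQ D h10 hR hv) one_ne_zero he hf hef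
  have hT : ∀ v, R.T v = μ • v := hμ
  have hQe : Q e = 1 := by
    have := congrArg QuadraticAlgebra.re he
    rw [D.qE_apply] at this
    exact this
  have he0 : e ≠ 0 := fun h => one_ne_zero (α := F) (by rw [← hQe, h, QuadraticMap.map_zero])
  have hμe : μ • e ≠ 0 := fun h => he0 (R.T.injective (by rw [hT, h, map_zero]))
  have hσ : R.σ = RingEquiv.refl F := RingEquiv.ext fun t => by
    have h1 := hT (t • e)
    rw [R.smul, hT, smul_comm μ t] at h1
    exact smul_left_injective F hμe h1
  have hq : ∀ v, (μ * μ * D.qE v).re = (R.c : F) * Q v := fun v => by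
    have h1 := R.quad v
    rw [hT, hσ] at h1
    have h3 : (D.qE (μ • v)).re = Q (μ • v) := rfl
    rw [QuadraticMap.map_smul, smul_eq_mul] at h3
    rw [h3, h1]
    rfl
  have h1 := hq e
  rw [he, mul_one, hQe, mul_one] at h1
  obtain ⟨v, hv⟩ := exists_value hnd h2 (by omega) (QuadraticAlgebra.omega : EE)
  have h3 := hq v
  have hQv : Q v = 0 := by
    have := congrArg QuadraticAlgebra.re hv
    rw [D.qE_apply] at this
    exact this
  rw [hv, hQv, mul_zero] at h3
  simp only [QuadraticAlgebra.re_mul, QuadraticAlgebra.im_mul, QuadraticAlgebra.omega_re, QuadraticAlgebra.omega_im,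
    zero_mul, mul_zero, add_zero, zero_add, mul_one] at h3 h1
  have hab : μ.re = 0 ∨ μ.im = 0 := by
    have h4 : (2 : F) * u * (μ.re * μ.im) = 0 := by linear_combination h3
    exact mul_eq_zero.mp ((mul_eq_zero.mp h4).resolve_left (mul_ne_zero D.two D.ne_zero))
  have hμ' : ∀ x, R.T x = μ.re • x + μ.im • S.T x := fun x => (hT x).trans (D.smul_eq μ x)
  rcases hab with h | h
  · right
    have hb : μ.im ≠ 0 := fun e' => hμe (by rw [D.smul_eq, h, e', zero_smul, zero_smul, add_zero])
    rw [← pomHom_scalar_mul hQ (Units.mk0 _ hb) S]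
    refine congrArg _ (Semi.ext' (hσ.trans D.σ_refl.symm) (fun x => ?_) (Units.ext ?_))
    · rw [hμ', h, zero_smul, zero_add]; rfl
    · rw [Semi.mul_c]
      change (R.c : F) = μ.im * μ.im * (S.c : F)
      rw [D.c_eq, ← h1, h]
      ring
  · left
    have ha : μ.re ≠ 0 := fun e' => hμe (by rw [D.smul_eq, h, e', zero_smul, zero_smul, add_zero])
    rw [← pomHom_scalar hQ (Units.mk0 _ ha)]
    refine congrArg _ (Semi.ext' hσ (fun x => ?_) (Units.ext ?_))
    · rw [hμ', h, zero_smul, add_zero]; rfl
    · change (R.c : F) = μ.re * μ.re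
      rw [← h1, h]
      ring

omit D h10 in
theorem sqrt_core (D : SqrtData u S) (h10 : 10 ≤ Fintype.card ι) (hs : Shape Q)
    (A : Subgroup (MulAut (Cfsg.POmega F ⇑Q))) (hinn : ∀ z : Cfsg.POmega F ⇑Q, MulAut.conj z ∈ A)
    (hord : orderOf (pomHom Q S) = 2) :
    Cfsg.pPrimeCore 2 ↥(A ⊓ Subgroup.centralizer {pomHom Q S}) = ⊥ := by
  refine core_eq_bot (conj_injective_POm hQ) A hinn _ (sqrt_fix_core hQ D h10) fun y _ hy hc => ?_
  obtain ⟨R, rfl⟩ := pomHom_surjective hQ hs y
  rcases sqrt_stab hQ D h10 hy with e | e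
  · exact e
  · rw [e, hord] at hc
    exact absurd hc (by decide)

end CfsgLib.LocalBal
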