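import Cfsg.Agent.LocalBal.OddThree
import Cfsg.Agent.AutPOm.InvSim

/-!
Maps fixing all anisotropic lines, and odd normal subgroups of orthogonal groups.
-/

set_option autoImplicit false
set_option linter.unusedSectionVars false
set_option linter.style.haveILetI false

namespace CfsgLib.LocalBal

open QuadraticMap CfsgLib.Forms CfsgLib.Quad

variable {F V : Type*} [Field F] [AddCommGroup V] [Module F V] {P : QuadraticForm F V}

/-- An additive map that fixes every anisotropic line is a scalar. -/
theorem scalar_of_lines (h2 : (2 : F) ≠ 0) (R : V →+ V) (hR : ∀ v, P v ≠ 0 → ∃ b : F, R v = b • v)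
    {e f : V} {c : F} (hc : c ≠ 0) (he : P e = c) (hf : P f = c) (hef : polar P e f = 0) :
    ∃ μ : F, ∀ v, R v = μ • v := by
  have hne : ∀ {v : V}, P v ≠ 0 → v ≠ 0 := fun {v} hv h => hv (by rw [h, QuadraticMap.map_zero])
  have pair : ∀ {u v : V} {α : F}, P u ≠ 0 → P v ≠ 0 → P (u + v) ≠ 0 → (∀ t : F, v ≠ t • u) →
      R u = α • u → R v = α • v := by
    intro u v α hu hv huv hind h
    obtain ⟨β, hβ⟩ := hR v hv
    obtain ⟨γ, hγ⟩ := hR _ huv
    rw [map_add, h, hβ] at hγ
    have h1 : (β - γ) • v = (γ - α) • u := by linear_combination (norm := module) hγ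
    rcases eq_or_ne (β - γ) 0 with h3 | h3
    · rw [h3, zero_smul, eq_comm, smul_eq_zero, or_iff_left (hne hu), sub_eq_zero] at h1
      rw [hβ, sub_eq_zero.mp h3, h1]
    · exact absurd (by rw [mul_smul, ← h1, inv_smul_smul₀ h3]) (hind ((β - γ)⁻¹ * (γ - α)))
  have hef' : polar P f e = 0 := by rw [polar_comm, hef]
  have hindep : ∀ {u v : V} (_ : P u = c) (_ : polar P u v = 0) (t : F), t ≠ 0 → ∀ s : F, t • v ≠ s • u ∨
      P v = 0 := by
    intro u v hu huv t ht s
    by_cases hv : P v = 0
    · exact Or.inr hv
    refine Or.inl fun h => ?_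
    have h1 := congrArg (fun x => polar P u x) h
    simp only [polar_smul_right, huv, polar_self, hu, smul_eq_mul, mul_zero, nsmul_eq_mul, Nat.cast_ofNat] at h1
    have hs : s = 0 := by
      rcases mul_eq_zero.mp h1.symm with h3 | h3
      · exact h3
      · exact absurd h3 (mul_ne_zero h2 hc)
    rw [hs, zero_smul, smul_eq_zero, or_iff_right ht] at h
    exact hv (by rw [h, QuadraticMap.map_zero])
  have hval : ∀ {u v : V} (t : F), polar P u v = 0 → P (u + t • v) = P u + t * t * P v := fun {u v} t h => by
    rw [quad_add, quad_smul, polar_smul_right, h, smul_zero, add_zero]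
  obtain ⟨μ, hμ⟩ := hR e (he ▸ hc)
  have hmul : ∀ {u v : V}, P u = c → P v = c → polar P u v = 0 → R u = μ • u →
      ∀ t : F, R (t • v) = μ • (t • v) := by
    intro u v hu hv huv hRu
    have good : ∀ t : F, 1 + t * t ≠ 0 → R (t • v) = μ • (t • v) := by
      intro t ht
      rcases eq_or_ne t 0 with rfl | ht0
      · simp
      refine pair (hu ▸ hc) ?_ ?_ (fun s => (hindep hu huv t ht0 s).resolve_right (hv ▸ hc)) hRu
      · rw [quad_smul, hv]; exact mul_ne_zero (mul_ne_zero ht0 ht0) hc
      · rw [hval t huv, hu, hv, ← one_mul c, ← mul_assoc, ← add_mul, mul_one]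
        exact mul_ne_zero ht hc
    intro t
    by_cases ht : 1 + t * t = 0
    · have hone := good 1 (by rw [one_mul, one_add_one_eq_two]; exact h2)
      by_cases ht1 : 1 + (t + 1) * (t + 1) = 0
      · have ht2 : 1 + (t - 1) * (t - 1) ≠ 0 := fun h => by
          have h3 : (2 : F) * 2 * t = 0 := by linear_combination ht1 - h
          have h4 : t = 0 := (mul_eq_zero.mp h3).resolve_left (mul_ne_zero h2 h2)
          rw [h4] at ht; simp at ht
        have h5 := good _ ht2
        rw [sub_smul, map_sub, hone] at h5
        linear_combination (norm := module) h5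
      · have h5 := good _ ht1
        rw [add_smul, map_add, hone] at h5
        linear_combination (norm := module) h5
    · exact good t ht
  have hfmul := hmul he hf hef hμ
  have hRf : R f = μ • f := by simpa using hfmul 1
  have hemul := hmul hf he hef' hRf
  have hanis : ∀ v, P v ≠ 0 → R v = μ • v := by
    intro v hv
    by_cases hve : ∃ s : F, v = s • e
    · obtain ⟨s, rfl⟩ := hve; exact hemul s
    by_cases hvf : ∃ s : F, v = s • f
    · obtain ⟨s, rfl⟩ := hvf; exact hfmul s
    push Not at hve hvf
    have via : ∀ {g : V}, P g ≠ 0 → (∀ s : F, v ≠ s • g) → P (g + v) ≠ 0 → R g = μ • g → R v = μ • v :=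
      fun hg hi hs h => pair hg hv hs hi h
    have both : ∀ {g : V}, P g = c → (∀ s : F, v ≠ s • g) → R g = μ • g → R ((-1 : F) • g) = μ • ((-1 : F) • g) →
        R v = μ • v ∨ (polar P g v = 0 ∧ P v = -c) := by
      intro g hg hi h h'
      by_cases h1 : P (g + v) = 0
      · by_cases h3 : P ((-1 : F) • g + v) = 0
        · right
          rw [quad_add, quad_smul, polar_smul_left, hg, smul_eq_mul] at h3
          rw [quad_add, hg] at h1
          constructor
          · exact (mul_eq_zero.mp (show (2 : F) * polar P g v = 0 by linear_combination h1 - h3)).resolve_left h2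
          · exact mul_left_cancel₀ h2 (by linear_combination h1 + h3)
        · left
          refine via ?_ (fun s => ?_) h3 h'
          · rw [quad_smul, hg]; simpa using hc
          · rw [smul_smul]; exact hi _
      · exact Or.inl (via (hg ▸ hc) hi h1 h)
    rcases both he hve hμ (hemul _) with h | ⟨h1, h1'⟩
    · exact h
    rcases both hf hvf hRf (hfmul _) with h | ⟨h3, -⟩
    · exact h
    refine via (g := e + f) ?_ (fun s h => ?_) ?_ (by rw [map_add, hμ, hRf, smul_add])
    · rw [quad_add, he, hf, hef, add_zero, ← two_mul]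
      exact mul_ne_zero h2 hc
    · rw [h, smul_add, polar_add_right, polar_smul_right, polar_smul_right, hef, polar_self, he, smul_zero,
        add_zero, smul_eq_mul, nsmul_eq_mul, Nat.cast_ofNat] at h1
      rw [(mul_eq_zero.mp h1).resolve_right (mul_ne_zero h2 hc), zero_smul] at h
      exact hne hv h
    · rw [quad_add, quad_add, polar_add_left, he, hf, hef, h1, h3, h1']
      intro h
      exact hc (by linear_combination h)
  refine ⟨μ, fun v => ?_⟩
  by_cases hv : P v = 0
  · have hx : P (v + e) ≠ 0 ∨ P (v + (-1 : F) • e) ≠ 0 := by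
      by_contra h
      push Not at h
      obtain ⟨h1, h3⟩ := h
      rw [quad_add, hv, he] at h1
      rw [quad_add, quad_smul, polar_smul_right, hv, he, smul_eq_mul] at h3
      exact mul_ne_zero h2 hc (by linear_combination h1 + h3)
    rcases hx with h | h
    · have h1 := hanis _ h
      rw [map_add, hμ] at h1
      linear_combination (norm := module) h1
    · have h1 := hanis _ h
      rw [map_add, hemul] at h1
      linear_combination (norm := module) h1
  · exact hanis v hv

section perp

variable [FiniteDimensional F V] [Finite F] (hP : (polarBilin P).Nondegenerate) (h2 : (2 : F) ≠ 0)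
include hP h2

omit [Finite F] in
theorem nondeg_perp {U : Submodule F V} (hU : ∀ x ∈ U, (∀ y ∈ U, polar P y x = 0) → x = 0) :
    (polarBilin (P.comp (perpS P U).subtype)).Nondegenerate := by
  have hrefl : (polarBilin (P.comp (perpS P U).subtype)).IsRefl := fun x y h => by
    rw [polarBilin_apply_apply] at h ⊢
    rwa [polar_comm]
  refine (LinearMap.IsRefl.nondegenerate_iff_separatingLeft hrefl).mpr fun x hx => Subtype.ext ?_
  have hmem : (x : V) ∈ U := by
    refine (perpS_perpS hP U).le ?_
    intro y hy
    have h := hx ⟨y, hy⟩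
    rw [polarBilin_apply_apply] at h
    rw [polar_comm]
    exact h
  exact hU _ hmem fun y hy => x.2 y hy

/-- A vector of given value orthogonal to an anisotropic vector. -/
theorem exists_perp_value (hd : 3 ≤ Module.finrank F V) {v : V} (hv : P v ≠ 0) (c : F) :
    ∃ w, polar P v w = 0 ∧ P w = c := by
  set U := Submodule.span F {v}
  have hv0 : v ≠ 0 := fun h => hv (by rw [h, QuadraticMap.map_zero])
  have hnd := nondeg_perp hP h2 (U := U) fun x hx hy => by
    obtain ⟨t, rfl⟩ := Submodule.mem_span_singleton.mp hx
    have h := hy v (Submodule.mem_span_singleton_self v)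
    rw [polar_smul_right, polar_self, smul_eq_mul, nsmul_eq_mul, Nat.cast_ofNat] at h
    rw [(mul_eq_zero.mp h).resolve_right (mul_ne_zero h2 hv), zero_smul]
  have h1 := finrank_perpS hP U
  rw [finrank_span_singleton hv0] at h1
  obtain ⟨⟨w, hw⟩, hwc⟩ := exists_value hnd h2 (by omega) c
  exact ⟨w, hw v (Submodule.mem_span_singleton_self v), hwc⟩

/-- A vector of given value orthogonal to two orthogonal anisotropic vectors. -/
theorem exists_perp_value₂ (hd : 4 ≤ Module.finrank F V) {v w : V} (hv : P v ≠ 0) (hw : P w ≠ 0)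
    (hvw : polar P v w = 0) (c : F) : ∃ z, polar P v z = 0 ∧ polar P w z = 0 ∧ P z = c := by
  set U := Submodule.span F (Set.range ![v, w])
  have hv' : v ∈ U := Submodule.subset_span ⟨0, rfl⟩
  have hw' : w ∈ U := Submodule.subset_span ⟨1, rfl⟩
  have hnd := nondeg_perp hP h2 (U := U) fun x hx hy => by
    obtain ⟨g, rfl⟩ := (Submodule.mem_span_range_iff_exists_fun F).mp hx
    have ha := hy v hv'
    have hb := hy w hw'
    simp only [Fin.sum_univ_two, Matrix.cons_val_zero, Matrix.cons_val_one, polar_add_right, polar_smul_right,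
      polar_self, hvw, polar_comm P w v, smul_eq_mul, nsmul_eq_mul, Nat.cast_ofNat, mul_zero, add_zero,
      zero_add] at ha hb
    simp [Fin.sum_univ_two, (mul_eq_zero.mp ha).resolve_right (mul_ne_zero h2 hv),
      (mul_eq_zero.mp hb).resolve_right (mul_ne_zero h2 hw)]
  have h1 := finrank_perpS hP U
  have h3 : Module.finrank F U ≤ 2 := (finrank_range_le_card _).trans (by simp)
  obtain ⟨⟨z, hz⟩, hzc⟩ := exists_value hnd h2 (by omega) c
  exact ⟨z, hz v hv', hz w hw', hzc⟩

/-- Two orthogonal vectors of value one. -/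
theorem exists_pair_one (hd : 3 ≤ Module.finrank F V) :
    ∃ e f, P e = 1 ∧ P f = 1 ∧ polar P e f = 0 := by
  obtain ⟨e, he⟩ := exists_value hP h2 (by omega) (1 : F)
  obtain ⟨f, hef, hf⟩ := exists_perp_value hP h2 hd (by rw [he]; exact one_ne_zero) (1 : F)
  exact ⟨e, f, he, hf, hef⟩

end perp

end CfsgLib.LocalBal
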