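import Cfsg.Agent.LocalBal.MinusStab
import Cfsg.Agent.LocalBal.Orth

/-!
Local balance at automorphisms of odd prime order of the minus type groups that are not inner-diagonal.
-/

set_option autoImplicit false
set_option linter.unusedSectionVars false
set_option linter.style.haveILetI false
set_option synthInstance.maxHeartbeats 400000

namespace CfsgLib.LocalBal

open QuadraticMap CfsgLib.Forms CfsgLib.Quad CfsgLib.AutPOm Matrix

/-- The criterion with the hypotheses read in an isomorphic group. -/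
theorem criterion_equiv {K₁ K₂ : Type*} [Group K₁] [Group K₂] {p : ℕ} [Fact p.Prime]
    (hinj : Function.Injective (MulAut.conj : K₂ →* MulAut K₂)) (A : Subgroup (MulAut K₂))
    (hinn : ∀ k : K₂, MulAut.conj k ∈ A) (e : K₁ ≃* K₂) (φ : MulAut K₁) (x : MulAut K₂)
    (hx : ∀ z, x (e z) = e (φ z)) (hord : orderOf x = p) (S : Subgroup K₁) (hSle : S ≤ Fix φ)
    (hne : Fix φ ≠ ⊥) (hSn : ∀ z ∈ Fix φ, ∀ s ∈ S, z * s * z⁻¹ ∈ S)
    (hS : p ∣ Nat.card (Fix φ) → ∀ N : Subgroup S, N.Normal → (Nat.card N).Coprime p → N = ⊥)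
    (hfix : ∀ y : MulAut K₁, (∀ s ∈ S, y s = s) → y ∈ Subgroup.zpowers φ) :
    Cfsg.pPrimeCore p ↥(A ⊓ Subgroup.centralizer {x}) ≠ ⊥ ↔ Nat.Coprime p (Nat.card (Fix x)) := by
  have hF : Fix x = (Fix φ).map e.toMonoidHom := by
    ext z
    obtain ⟨w, rfl⟩ := e.surjective z
    rw [mem_Fix, hx]
    constructor
    · exact fun h => ⟨w, mem_Fix.mpr (e.injective h), rfl⟩
    · rintro ⟨v, hv, h⟩
      obtain rfl := e.injective h
      rw [mem_Fix.mp hv]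
  let eS : ↥S ≃* ↥(S.map e.toMonoidHom) := e.subgroupMap S
  refine criterion hinj A hinn x hord (S.map e.toMonoidHom) (hF ▸ Subgroup.map_mono hSle)
    (fun h => hne (Subgroup.map_eq_bot_iff_of_injective _ e.injective |>.mp (hF ▸ h))) ?_ ?_ ?_
  · intro z hz
    rw [hF] at hz
    obtain ⟨w, hw, rfl⟩ := hz
    rintro _ ⟨s, hs, rfl⟩
    exact ⟨w * s * w⁻¹, hSn w hw s hs, by simp⟩
  · intro hd N hN hNc
    have hd' : p ∣ Nat.card (Fix φ) := by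
      rwa [hF, Subgroup.card_map_of_injective e.injective] at hd
    have := hS hd' (N.comap eS.toMonoidHom) (hN.comap _)
      (Nat.Coprime.coprime_dvd_left (Subgroup.card_comap_dvd_of_injective _ _ eS.injective) hNc)
    exact Subgroup.comap_injective eS.surjective (this.trans
      ((MonoidHom.comap_bot _).trans (eS.toMonoidHom.ker_eq_bot_iff.mpr eS.injective)).symm)
  · intro y _ hys
    have h1 : MulAut.congr e.symm y ∈ Subgroup.zpowers φ := hfix _ fun s hs => by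
      show e.symm (y (e s)) = s
      rw [hys (e s) ⟨s, hs, rfl⟩]
      simp
    have hxe : x = MulAut.congr e φ := MulEquiv.ext fun z => by
      obtain ⟨w, rfl⟩ := e.surjective z
      rw [hx]
      show e (φ w) = e (φ (e.symm (e w)))
      rw [e.symm_apply_apply]
    obtain ⟨i, hi⟩ := h1
    refine ⟨i, ?_⟩
    show x ^ i = y
    rw [hxe, ← map_zpow, show φ ^ i = MulAut.congr e.symm y from hi]
    exact MulEquiv.ext fun z => by
      show e (e.symm (y (e (e.symm z)))) = y z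
      simp

/-- A similitude intertwines a semisimilarity and its transport. -/
theorem exists_sim_conj {F : Type*} [Field F] {ι : Type} [Fintype ι] [DecidableEq ι] {P Q : QuadraticForm F (ι → F)}
    (J : (ι → F) ≃ₗ[F] (ι → F)) (w : Fˣ) (hJ : ∀ u, Q (J u) = (w : F) * P u) (T : Semi P) {Y : Semi Q}
    (h : transport J w hJ T = Y) :
    ∃ ψ : Cfsg.POmega F ⇑P ≃* Cfsg.POmega F ⇑Q, ∀ z, pomHom Q Y (ψ z) = ψ (pomHom P T z) :=
  ⟨pomEquivOfSim J w hJ, fun z => by rw [← h, pomEquivOfSim_pomHom]⟩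

universe u

variable {F : Type u} [Field F] [Finite F] {k : ℕ} {a b : F}
  (hab : ∀ z₁ z₂ : F, z₁ ^ 2 + a * z₁ * z₂ + b * z₂ ^ 2 = 0 → z₁ = 0 ∧ z₂ = 0)
include hab

theorem aniso_of_similar (hk : 3 ≤ k) {a' b' : F}
    (J : ((Fin k ⊕ Fin k) ⊕ Fin 2 → F) ≃ₗ[F] ((Fin k ⊕ Fin k) ⊕ Fin 2 → F)) (w : Fˣ)
    (hJ : ∀ u, minusQ k a b (J u) = (w : F) * minusQ k a' b' u)
    (hd : (polarBilin (minusQ (F := F) k a' b')).Nondegenerate) :
    ∀ z₁ z₂ : F, z₁ ^ 2 + a' * z₁ * z₂ + b' * z₂ ^ 2 = 0 → z₁ = 0 ∧ z₂ = 0 := by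
  intro z₁ z₂ hz
  rcases eq_or_ne z₂ 0 with rfl | h2
  · exact ⟨by simpa using hz, rfl⟩
  exfalso
  have hH : HypSpace (minusQ k a' b') (k + 1) (rootHalf k (z₁ / z₂)) :=
    hypSpace_minus_of_root (by omega) (by field_simp; linear_combination hz) hd
  have h1 := ts_bound_minusQ hab k ((rootHalf k (z₁ / z₂)).map J.toLinearMap) (by
    rintro _ ⟨x, hx, rfl⟩
    change minusQ k a b (J x) = 0
    rw [hJ, hH.half.zero x hx, mul_zero])
  rw [LinearEquiv.finrank_map_eq, hH.half.rank] at h1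
  omega

theorem minus_base_criterion (hk : 3 ≤ k) (A : Subgroup (MulAut (Cfsg.POmega F ⇑(minusQ k a b))))
    (hinn : ∀ z : Cfsg.POmega F ⇑(minusQ k a b), MulAut.conj z ∈ A) {p : ℕ} [Fact p.Prime] (hodd : Odd p)
    (x : MulAut (Cfsg.POmega F ⇑(minusQ k a b))) (hord : orderOf x = p) {σ : RingAut F} (hσ1 : σ ≠ 1)
    {K : Type*} [Field K] [Finite K] {f : K →+* F} (hf : IsFixed f σ p) {a₀ b₀ : K}
    (hab₀ : ∀ z₁ z₂ : K, z₁ ^ 2 + a₀ * z₁ * z₂ + b₀ * z₂ ^ 2 = 0 → z₁ = 0 ∧ z₂ = 0)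
    (Y : Semi (minusQ k a b)) (hxY : x = pomHom _ Y)
    (J : ((Fin k ⊕ Fin k) ⊕ Fin 2 → F) ≃ₗ[F] ((Fin k ⊕ Fin k) ⊕ Fin 2 → F)) (w : Fˣ)
    (hJ : ∀ u, minusQ k a b (J u) = (w : F) * minusQ k (f a₀) (f b₀) u)
    (hT : transport J w hJ ((isBase_minusQ f k a₀ b₀).coordT σ hf.fix) = Y) :
    Cfsg.pPrimeCore p ↥(A ⊓ Subgroup.centralizer {x}) ≠ ⊥ ↔
      ((∃ (a' b' : F) (ψ : Cfsg.POmega F ⇑(minusQ k a b) ≃* Cfsg.POmega F ⇑(minusQ k a' b'))
        (σ : F ≃+* F), (∀ z₁ z₂ : F, z₁ ^ 2 + a' * z₁ * z₂ + b' * z₂ ^ 2 = 0 → z₁ = 0 ∧ z₂ = 0) ∧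
          σ ≠ RingEquiv.refl F ∧ σ a' = a' ∧ σ b' = b' ∧
          Cfsg.IsFieldAutPOmegaOf ⇑(minusQ k a' b') σ ((ψ.symm.trans x).trans ψ)) ∧
      Nat.Coprime p (Nat.card (Fix x))) := by
  subst hxY
  have hpp : p.Prime := Fact.out
  obtain ⟨hQ, hs⟩ := big_minusQ hab hk
  have hab' := aniso_of_similar hab hk J w hJ (nondeg_ext f hab₀)
  have hb := isBase_minusQ f k a₀ b₀
  have hP : Big (minusQ k (f a₀) (f b₀)) := (big_minusQ hab' hk).1
  have hPs : Shape (minusQ k (f a₀) (f b₀)) := (big_minusQ hab' hk).2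
  have hP0 : Big (minusQ k a₀ b₀) := (big_minusQ hab₀ hk).1
  have D : BasePair f σ p (minusQ k a₀ b₀) (minusQ k (f a₀) (f b₀)) := BasePair.mk hf hb hP0 hP hodd
  have hT' : transport J w hJ D.cT = Y := hT
  obtain ⟨ψ, hx⟩ := exists_sim_conj J w hJ D.cT hT'
  have hclass : ∃ (a' b' : F) (ψ : Cfsg.POmega F ⇑(minusQ k a b) ≃* Cfsg.POmega F ⇑(minusQ k a' b'))
      (τ : F ≃+* F), (∀ z₁ z₂ : F, z₁ ^ 2 + a' * z₁ * z₂ + b' * z₂ ^ 2 = 0 → z₁ = 0 ∧ z₂ = 0) ∧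
        τ ≠ RingEquiv.refl F ∧ τ a' = a' ∧ τ b' = b' ∧
        Cfsg.IsFieldAutPOmegaOf ⇑(minusQ k a' b') τ ((ψ.symm.trans (pomHom _ Y)).trans ψ) := by
    refine ⟨f a₀, f b₀, ψ.symm, σ, hab', hσ1, hf.fix a₀, hf.fix b₀, ?_⟩
    rw [show (ψ.symm.symm.trans (pomHom _ Y)).trans ψ.symm = D.phi from MulEquiv.ext fun z => by
      show ψ.symm (pomHom _ Y (ψ z)) = _
      rw [hx, MulEquiv.symm_apply_apply]]
    intro s s' h
    refine ((induced_iff D.cT).mpr rfl) s s' ?_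
    rw [h, show D.cT.mat = 1 from Semi.mat_eq fun v => by rw [Units.val_one, Matrix.one_mulVec]; rfl]
    simp only [Units.val_one, inv_one, Matrix.one_mul, Matrix.mul_one]
    rfl
  refine Iff.trans ?_ (and_iff_right hclass).symm
  refine criterion_equiv (conj_injective_POm hQ) A hinn ψ D.phi _ hx hord D.sub.range D.sub_le D.fix_ne_bot
    D.sub_normal (fun hd N hN hc => D.sub_normal_bot hpp hd N hN hc) fun y hy => ?_
  obtain ⟨S', rfl⟩ := pomHom_surjective hP hPs y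
  exact minus_mem_zpowers D hk hy

set_option maxHeartbeats 800000 in
theorem minus_field_criterion (hk : 3 ≤ k) (A : Subgroup (MulAut (Cfsg.POmega F ⇑(minusQ k a b))))
    (hinn : ∀ z : Cfsg.POmega F ⇑(minusQ k a b), MulAut.conj z ∈ A) {p : ℕ} [Fact p.Prime] (hodd : Odd p)
    (x : MulAut (Cfsg.POmega F ⇑(minusQ k a b))) (hord : orderOf x = p)
    (hnot : ¬ ∃ g : GL ((Fin k ⊕ Fin k) ⊕ Fin 2) F,
      g ∈ Cfsg.Geo.quadSimilarityGroup (F := F) ⇑(minusQ k a b) ∧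
      Cfsg.PreservesSingularClassesMinus k a b
        (g : Matrix ((Fin k ⊕ Fin k) ⊕ Fin 2) ((Fin k ⊕ Fin k) ⊕ Fin 2) F) ∧
      Cfsg.IsInducedBySemilinearPOmega ⇑(minusQ k a b) g (RingEquiv.refl F) x) :
    Cfsg.pPrimeCore p ↥(A ⊓ Subgroup.centralizer {x}) ≠ ⊥ ↔
      ((∃ (a' b' : F) (ψ : Cfsg.POmega F ⇑(minusQ k a b) ≃* Cfsg.POmega F ⇑(minusQ k a' b'))
        (σ : F ≃+* F), (∀ z₁ z₂ : F, z₁ ^ 2 + a' * z₁ * z₂ + b' * z₂ ^ 2 = 0 → z₁ = 0 ∧ z₂ = 0) ∧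
          σ ≠ RingEquiv.refl F ∧ σ a' = a' ∧ σ b' = b' ∧
          Cfsg.IsFieldAutPOmegaOf ⇑(minusQ k a' b') σ ((ψ.symm.trans x).trans ψ)) ∧
      Nat.Coprime p (Nat.card (Fix x))) := by
  have hk2 : 2 ≤ k := by omega
  have hpp : p.Prime := Fact.out
  obtain ⟨hQ, hs⟩ := big_minusQ hab hk
  obtain ⟨S, rfl⟩ := pomHom_surjective hQ hs x
  have hS1 : ∃ u : Fˣ, S ^ p = scalarHom _ u := by
    have h1 := pow_orderOf_eq_one (pomHom _ S)
    rw [hord, ← map_pow, pomHom_eq_one_iff, mem_ker_pgHom hQ] at h1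
    exact h1
  set σ : RingAut F := S.σ with hσdef
  have hσ1 : σ ≠ 1 := fun e => by
    have hmem : S ∈ simGroup (minusQ k a b) := mem_simGroup.mpr e
    refine hnot ⟨S.mat, Semi.mat_mem e, ((minusSign_spec hab hk2).1 ⟨S, hmem⟩).mpr ?_, ?_⟩
    · obtain ⟨u, hu⟩ := hS1
      have h1 : minusSign hab hk2 ⟨S, hmem⟩ ^ p = 1 := by
        rw [← map_pow, ← (minusSign_spec hab hk2).2.1 u]
        exact congrArg _ (Subtype.ext hu)
      obtain ⟨i, hi⟩ := hodd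
      rwa [hi, pow_succ, pow_mul, Int.units_pow_two, one_pow, one_mul] at h1
    · have h := (induced_iff S).mpr (rfl : pomHom _ S = pomHom _ S)
      rwa [show S.σ = RingEquiv.refl F from e] at h
  have hσp : σ ^ p = 1 := by
    obtain ⟨u, hu⟩ := hS1
    rw [hσdef, ← Semi.pow_σ, hu]
    rfl
  haveI : Finite (RingAut F) := Finite.of_injective (fun τ : RingAut F => (τ : F → F)) DFunLike.coe_injective
  haveI : Finite (CfsgLib.AutPSL.fixField σ) := Subtype.finite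
  have hf : IsFixed (CfsgLib.AutPSL.fixField σ).subtype σ p :=
    ⟨orderOf_eq_prime hσp hσ1, hpp.pos, fun z => (CfsgLib.AutPSL.mem_fixField σ).mp z.2,
      fun y hy => ⟨⟨y, (CfsgLib.AutPSL.mem_fixField σ).mpr hy⟩, rfl⟩⟩
  obtain ⟨w₀, hw⟩ := exists_pow_lift hQ hf (S := S) rfl (by rw [← hord]; exact pow_orderOf_eq_one _)
  have hYσ : (scalarHom _ w₀ * S).σ = σ := RingEquiv.ext fun z => rfl
  obtain ⟨a₀, b₀, hab₀⟩ := exists_aniso_pair (CfsgLib.AutPSL.fixField σ)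
  obtain ⟨J, w, hJ, hT⟩ := minus_model hab hf hab₀ _ hYσ hw
  exact minus_base_criterion hab hk A hinn hodd _ hord hσ1 hf hab₀ _ (pomHom_scalar_mul hQ w₀ S).symm J w hJ hT

theorem minus_field_criterion_of (hk : 3 ≤ k) (q : F → F → (((Fin k ⊕ Fin k) ⊕ Fin 2 → F) → F))
    (hq : q = fun a b => ⇑(minusQ k a b)) (A : Subgroup (MulAut (Cfsg.POmega F (q a b))))
    (hinn : ∀ z : Cfsg.POmega F (q a b), MulAut.conj z ∈ A) {p : ℕ} [Fact p.Prime] (hodd : Odd p)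
    (x : MulAut (Cfsg.POmega F (q a b))) (hord : orderOf x = p)
    (hnot : ¬ ∃ g : GL ((Fin k ⊕ Fin k) ⊕ Fin 2) F, g ∈ Cfsg.Geo.quadSimilarityGroup (F := F) (q a b) ∧
      Cfsg.PreservesSingularClassesMinus k a b
        (g : Matrix ((Fin k ⊕ Fin k) ⊕ Fin 2) ((Fin k ⊕ Fin k) ⊕ Fin 2) F) ∧
      Cfsg.IsInducedBySemilinearPOmega (q a b) g (RingEquiv.refl F) x) :
    Cfsg.pPrimeCore p ↥(A ⊓ Subgroup.centralizer {x}) ≠ ⊥ ↔
      ((∃ (a' b' : F) (ψ : Cfsg.POmega F (q a b) ≃* Cfsg.POmega F (q a' b'))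
        (σ : F ≃+* F), (∀ z₁ z₂ : F, z₁ ^ 2 + a' * z₁ * z₂ + b' * z₂ ^ 2 = 0 → z₁ = 0 ∧ z₂ = 0) ∧
          σ ≠ RingEquiv.refl F ∧ σ a' = a' ∧ σ b' = b' ∧
          Cfsg.IsFieldAutPOmegaOf (q a' b') σ ((ψ.symm.trans x).trans ψ)) ∧
      Nat.Coprime p (Nat.card (Fix x))) := by
  subst hq
  exact minus_field_criterion hab hk A hinn hodd x hord hnot

end CfsgLib.LocalBal
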