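import Cfsg.Agent.LocalBal.InvIsoStab
import Cfsg.Agent.LocalBal.InvSqrt
import Cfsg.Agent.AutPOm.MinusInvol

/-!
Local balance at graph involutions of the minus type groups.
-/

set_option autoImplicit false
set_option linter.unusedSectionVars false
set_option linter.style.haveILetI false
set_option synthInstance.maxHeartbeats 400000
set_option maxHeartbeats 1000000

namespace CfsgLib.LocalBal

open QuadraticMap CfsgLib.Forms CfsgLib.Quad CfsgLib.AutPOm

universe u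

variable {F : Type u} [Field F] [Finite F] {k : ℕ} {a b : F}
  (hab : ∀ z₁ z₂ : F, z₁ ^ 2 + a * z₁ * z₂ + b * z₂ ^ 2 = 0 → z₁ = 0 ∧ z₂ = 0)
include hab

/-- The odd core is trivial at an involution coming from a similitude with a square multiplier. -/
theorem square_core (hk : 3 ≤ k) (h2 : (2 : F) ≠ 0) {S : Semi (minusQ k a b)} {u : Fˣ}
    (hu : S * S = scalarHom _ u) (hσ : S.σ = RingEquiv.refl F)
    (hχ : minusSign hab (by omega : 2 ≤ k) ⟨S, mem_simGroup.mpr hσ⟩ = -1) (hsq : IsSquare (u : F))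
    (A : Subgroup (MulAut (Cfsg.POmega F ⇑(minusQ k a b))))
    (hinn : ∀ z : Cfsg.POmega F ⇑(minusQ k a b), MulAut.conj z ∈ A) (hord : orderOf (pomHom _ S) = 2) :
    Cfsg.pPrimeCore 2 ↥(A ⊓ Subgroup.centralizer {pomHom _ S}) = ⊥ := by
  have hk2 : 2 ≤ k := by omega
  obtain ⟨hQ, hs⟩ := big_minusQ hab hk
  obtain ⟨hc, -⟩ := invol_c_eq hab hk h2 hu hσ hχ
  obtain ⟨w, hw⟩ := hsq
  obtain ⟨s, g, hS⟩ := exists_scalar_iso (S := S) hσ (s := w) (by rw [hc, hw])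
  have hgg : g * g = 1 := by
    refine Subtype.ext (LinearEquiv.ext fun x => ?_)
    have h := congrArg (fun R : Semi (minusQ k a b) => R.T x) hu
    have hs2 : (s : F) * s = (u : F) := by
      rw [← hc, hS, Semi.mul_c]
      change _ = (s : F) * s * 1
      rw [mul_one]
    rw [hS] at h
    change (s : F) • g.1 ((s : F) • g.1 x) = (u : F) • x at h
    rw [map_smul, smul_smul, hs2] at h
    exact smul_right_injective _ u.ne_zero h
  have hd : detO (minusQ k a b) g ≠ 1 := by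
    intro h
    have h1 := (minusSign_isoHom_eq_one hab hk h2).mpr h
    rw [show (⟨S, mem_simGroup.mpr hσ⟩ : ↥(simGroup (minusQ k a b))) =
      ⟨scalarHom _ s, mem_simGroup.mpr rfl⟩ * ⟨isoHom _ g, mem_simGroup.mpr rfl⟩ from
        Subtype.ext hS, map_mul, (minusSign_spec hab hk2).2.1, one_mul, h1] at hχ
    exact absurd hχ (by decide)
  obtain ⟨hodd, hsum, -⟩ := fixSp_invol hab hk h2 hgg hd
  have hodd' : Odd (Module.finrank F (fixSp (negIso (minusQ k a b) * g))) := by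
    obtain ⟨i, hi⟩ := hodd
    exact ⟨k - i, by omega⟩
  have hx : pomHom _ S = pomHom _ (isoHom _ g) := by rw [hS, pomHom_scalar_mul hQ]
  rw [hx] at hord ⊢
  exact iso_core hQ h2 hgg (by rw [card_minus_index]; omega) hodd hodd' hs A hinn hord

/-- The odd core is trivial at an involution coming from a similitude with a non-square multiplier. -/
theorem nonsquare_core (hk : 3 ≤ k) (h2 : (2 : F) ≠ 0) {S : Semi (minusQ k a b)} {u : Fˣ}
    (hu : S * S = scalarHom _ u) (hσ : S.σ = RingEquiv.refl F)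
    (hχ : minusSign hab (by omega : 2 ≤ k) ⟨S, mem_simGroup.mpr hσ⟩ = -1) (hsq : ¬ IsSquare (u : F))
    (A : Subgroup (MulAut (Cfsg.POmega F ⇑(minusQ k a b))))
    (hinn : ∀ z : Cfsg.POmega F ⇑(minusQ k a b), MulAut.conj z ∈ A) (hord : orderOf (pomHom _ S) = 2) :
    Cfsg.pPrimeCore 2 ↥(A ⊓ Subgroup.centralizer {pomHom _ S}) = ⊥ := by
  obtain ⟨hQ, hs⟩ := big_minusQ hab hk
  obtain ⟨hc, heven⟩ := invol_c_eq hab hk h2 hu hσ hχ
  haveI : Fact (∀ r : F, r ^ 2 ≠ (u : F) + 0 * r) :=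
    ⟨fun r hr => hsq ⟨r, by rw [← pow_two, hr]; ring⟩⟩
  obtain ⟨T, hT⟩ := exists_simLin hab hk hσ
  have hTT : T * T = (u : F) • 1 + (0 : F) • T := LinearMap.ext fun x => by
    rw [zero_smul, add_zero]
    change T (T x) = (u : F) • x
    rw [hT, hT]
    exact congrArg (fun R : Semi _ => R.T x) hu
  let φ : QuadraticAlgebra F (u : F) 0 →ₐ[F] Module.End F ((Fin k ⊕ Fin k) ⊕ Fin 2 → F) :=
    QuadraticAlgebra.lift ⟨T, hTT⟩
  letI : Module (QuadraticAlgebra F (u : F) 0) ((Fin k ⊕ Fin k) ⊕ Fin 2 → F) :=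
    Module.compHom _ φ.toRingHom
  haveI : IsScalarTower F (QuadraticAlgebra F (u : F) 0) ((Fin k ⊕ Fin k) ⊕ Fin 2 → F) :=
    ⟨fun t e v => by
      change φ (t • e) v = t • φ e v
      rw [map_smul]
      rfl⟩
  have D : SqrtData (u : F) S :=
    { ω_smul := fun v => by
        change φ QuadraticAlgebra.omega v = S.T v
        rw [← hT]
        simp [φ]
      σ_refl := hσ
      c_eq := by rw [hc]
      ne_zero := u.ne_zero
      two := h2 }
  refine sqrt_core hQ D ?_ hs A hinn hord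
  obtain ⟨i, hi⟩ := heven hsq
  rw [card_minus_index]
  omega

theorem minus_invol_criterion (hk : 3 ≤ k) (h2 : (2 : F) ≠ 0)
    (A : Subgroup (MulAut (Cfsg.POmega F ⇑(minusQ k a b))))
    (hinn : ∀ z : Cfsg.POmega F ⇑(minusQ k a b), MulAut.conj z ∈ A)
    (x : MulAut (Cfsg.POmega F ⇑(minusQ k a b))) (hord : orderOf x = 2)
    (hnot : ¬ ∃ g : GL ((Fin k ⊕ Fin k) ⊕ Fin 2) F,
      g ∈ Cfsg.Geo.quadSimilarityGroup (F := F) ⇑(minusQ k a b) ∧
      Cfsg.PreservesSingularClassesMinus k a b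
        (g : Matrix ((Fin k ⊕ Fin k) ⊕ Fin 2) ((Fin k ⊕ Fin k) ⊕ Fin 2) F) ∧
      Cfsg.IsInducedBySemilinearPOmega ⇑(minusQ k a b) g (RingEquiv.refl F) x) :
    Cfsg.pPrimeCore 2 ↥(A ⊓ Subgroup.centralizer {x}) = ⊥ ∧
      ¬ ∃ (a' b' : F) (ψ : Cfsg.POmega F ⇑(minusQ k a b) ≃* Cfsg.POmega F ⇑(minusQ k a' b'))
        (σ : F ≃+* F), (∀ z₁ z₂ : F, z₁ ^ 2 + a' * z₁ * z₂ + b' * z₂ ^ 2 = 0 → z₁ = 0 ∧ z₂ = 0) ∧
          σ ≠ RingEquiv.refl F ∧ σ a' = a' ∧ σ b' = b' ∧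
          Cfsg.IsFieldAutPOmegaOf ⇑(minusQ k a' b') σ ((ψ.symm.trans x).trans ψ) := by
  have hk2 : 2 ≤ k := by omega
  constructor
  · obtain ⟨hQ, hs⟩ := big_minusQ hab hk
    obtain ⟨S, rfl⟩ := pomHom_surjective hQ hs x
    have hsq1 : pomHom _ (S * S) = 1 := by
      have h := pow_orderOf_eq_one (pomHom _ S)
      rw [hord, pow_two] at h
      rw [map_mul]; exact h
    obtain ⟨u, hu⟩ := (mem_ker_pgHom hQ).mp (pomHom_eq_one_iff.mp hsq1)
    have hσ := invol_σ_eq_refl hab hk h2 hu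
    have hmem : S ∈ simGroup (minusQ k a b) := mem_simGroup.mpr hσ
    have hχ : minusSign hab hk2 ⟨S, hmem⟩ = -1 := by
      refine (Int.units_eq_one_or _).resolve_left fun e => ?_
      refine hnot ⟨S.mat, Semi.mat_mem hσ, ((minusSign_spec hab hk2).1 ⟨S, hmem⟩).mpr e, ?_⟩
      have h := (induced_iff S).mpr (rfl : pomHom _ S = pomHom _ S)
      rwa [hσ] at h
    by_cases hsq : IsSquare (u : F)
    · exact square_core hab hk h2 hu hσ hχ hsq A hinn hord
    · exact nonsquare_core hab hk h2 hu hσ hχ hsq A hinn hord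
  · intro hx
    obtain ⟨σ, Y, a', b', hab', ha', hb', hσr, -⟩ := minus_lift hab hk hx
    rw [hord] at hσr
    haveI : Finite (RingAut F) := Finite.of_injective (fun τ : RingAut F => (τ : F → F)) DFunLike.coe_injective
    haveI : Finite (CfsgLib.AutPSL.fixField σ) := Subtype.finite
    have hf : IsFixed (CfsgLib.AutPSL.fixField σ).subtype σ 2 :=
      ⟨hσr, by norm_num, fun z => (CfsgLib.AutPSL.mem_fixField σ).mp z.2,
        fun y hy => ⟨⟨y, (CfsgLib.AutPSL.mem_fixField σ).mpr hy⟩, rfl⟩⟩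
    obtain ⟨a₀, b₀, e1, e2, hab₀⟩ := exists_aniso_coeffs hab hf ha' hb' hab'
    have h : Odd 2 := odd_of_aniso hab hf (a₀ := a₀) (b₀ := b₀) (by rw [e1, e2]; exact hab') hab₀
    exact absurd h (by decide)

theorem minus_invol_criterion_of (hk : 3 ≤ k) (h2 : (2 : F) ≠ 0)
    (q : F → F → (((Fin k ⊕ Fin k) ⊕ Fin 2 → F) → F)) (hq : q = fun a b => ⇑(minusQ k a b))
    (A : Subgroup (MulAut (Cfsg.POmega F (q a b))))
    (hinn : ∀ z : Cfsg.POmega F (q a b), MulAut.conj z ∈ A)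
    (x : MulAut (Cfsg.POmega F (q a b))) (hord : orderOf x = 2)
    (hnot : ¬ ∃ g : GL ((Fin k ⊕ Fin k) ⊕ Fin 2) F, g ∈ Cfsg.Geo.quadSimilarityGroup (F := F) (q a b) ∧
      Cfsg.PreservesSingularClassesMinus k a b
        (g : Matrix ((Fin k ⊕ Fin k) ⊕ Fin 2) ((Fin k ⊕ Fin k) ⊕ Fin 2) F) ∧
      Cfsg.IsInducedBySemilinearPOmega (q a b) g (RingEquiv.refl F) x) :
    Cfsg.pPrimeCore 2 ↥(A ⊓ Subgroup.centralizer {x}) = ⊥ ∧
      ¬ ∃ (a' b' : F) (ψ : Cfsg.POmega F (q a b) ≃* Cfsg.POmega F (q a' b'))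
        (σ : F ≃+* F), (∀ z₁ z₂ : F, z₁ ^ 2 + a' * z₁ * z₂ + b' * z₂ ^ 2 = 0 → z₁ = 0 ∧ z₂ = 0) ∧
          σ ≠ RingEquiv.refl F ∧ σ a' = a' ∧ σ b' = b' ∧
          Cfsg.IsFieldAutPOmegaOf (q a' b') σ ((ψ.symm.trans x).trans ψ) := by
  subst hq
  exact minus_invol_criterion hab hk h2 A hinn x hord hnot

end CfsgLib.LocalBal
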