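import Cfsg.Agent.LocalBal.BaseStab

/-!
Maps fixing the minus type group over the fixed field are scalar on the coordinate vectors.
-/

set_option autoImplicit false
set_option linter.unusedSectionVars false

namespace CfsgLib.LocalBal

open QuadraticMap CfsgLib.Forms CfsgLib.Quad CfsgLib.AutPOm Matrix

variable {F K : Type*} [Field F] [Finite F] [Field K] [Finite K] {k : ℕ} {f : K →+* F} {σ : RingAut F}
  {p : ℕ} {a b : K} (D : BasePair f σ p (minusQ k a b) (minusQ k (f a) (f b)))
  {S : Semi (minusQ k (f a) (f b))} (hk : 3 ≤ k)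
  (hS : ∀ s ∈ D.sub.range, pomHom _ S s = s)
include hk hS

theorem minus_mem_zpowers : pomHom _ S ∈ Subgroup.zpowers D.phi := by
  classical
  have h0 : 0 < k := by omega
  let e : Fin k → (Fin k ⊕ Fin k) ⊕ Fin 2 := fun i => .inl (.inl i)
  let g : Fin k → (Fin k ⊕ Fin k) ⊕ Fin 2 := fun i => .inl (.inr i)
  have hE : ∀ i, ∃ q, S.T (extVec f (Pi.single (e i) 1)) = q • extVec f (Pi.single (e i) 1) := fun i =>
    D.pin hS (by simp [minusQ_coe, Cfsg.quadFormMinus, e, Pi.single_apply])
  have hG : ∀ i, ∃ q, S.T (extVec f (Pi.single (g i) 1)) = q • extVec f (Pi.single (g i) 1) := fun i =>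
    D.pin hS (by simp [minusQ_coe, Cfsg.quadFormMinus, g, Pi.single_apply])
  choose qe hqe using hE
  choose qg hqg using hG
  simp only [extVec_single] at hqe hqg
  have hext : ∀ (m : (Fin k ⊕ Fin k) ⊕ Fin 2) (c : K), extVec f (Pi.single m c) = f c • Pi.single m 1 :=
    fun m c => by
      funext l
      rcases eq_or_ne l m with rfl | h <;> simp [extVec, *]
  have heg : ∀ i j, i ≠ j → qe i = qg j := fun i j hij => by
    obtain ⟨q, hq⟩ := D.pin hS (u := Pi.single (e i) 1 + Pi.single (g j) 1)
      (by simp [minusQ_coe, Cfsg.quadFormMinus, e, g, Pi.single_apply, hij, hij.symm])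
    rw [extVec_add, extVec_single, extVec_single, map_add, hqe, hqg] at hq
    have a' := congrFun hq (e i)
    have b' := congrFun hq (g j)
    simp [e, g] at a' b'
    rw [a', b']
  have hthird : ∀ i j : Fin k, ∃ l : Fin k, l ≠ i ∧ l ≠ j := fun i j => by
    by_contra hc
    push Not at hc
    have hsub : (Finset.univ : Finset (Fin k)) ⊆ {i, j} := fun l _ => by
      rcases eq_or_ne l i with h | h
      · simp [h]
      · simp [hc l h]
    have := (Finset.card_le_card hsub).trans Finset.card_le_two
    rw [Finset.card_univ, Fintype.card_fin] at this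
    omega
  set i0 : Fin k := ⟨0, h0⟩
  have hg0 : ∀ i, qg i = qe i0 := fun i => by
    rcases eq_or_ne i i0 with rfl | h
    · obtain ⟨j, hj, -⟩ := hthird i0 i0
      obtain ⟨l, hl1, hl2⟩ := hthird i0 j
      rw [← heg j i0 hj, heg j l hl2.symm, ← heg i0 l hl1.symm]
    · exact (heg i0 i h.symm).symm
  have he0 : ∀ i, qe i = qe i0 := fun i => by
    obtain ⟨l, hl1, -⟩ := hthird i i
    rw [heg i l hl1.symm, hg0]
  obtain ⟨i1, hi1, -⟩ := hthird i0 i0
  have hz : ∀ j : Fin 2, S.T (Pi.single (.inr j) 1) = qe i0 • Pi.single (.inr j) 1 := fun j => by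
    set c := minusQ k a b (Pi.single (.inr j) 1) with hc
    have hsing : ∀ i, minusQ k a b (Pi.single (.inr j) 1 + (Pi.single (e i) 1 + Pi.single (g i) (-c))) = 0 := by
      intro i
      fin_cases j <;> simp [hc, minusQ_coe, Cfsg.quadFormMinus, e, g, Pi.single_apply]
    have hform : ∀ i, ∃ q, S.T (Pi.single (.inr j) 1) = q • Pi.single (.inr j) 1 +
        (q - qe i0) • Pi.single (e i) 1 + (S.σ (f c) * qe i0 - q * f c) • Pi.single (g i) 1 := fun i => by
      obtain ⟨q, hq⟩ := D.pin hS (hsing i)
      rw [extVec_add, extVec_add, hext _ (-c), extVec_single, extVec_single, map_add, map_add, map_neg,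
        neg_smul, map_neg, S.smul, hqe, hqg, hg0, he0] at hq
      exact ⟨q, by linear_combination (norm := module) hq⟩
    obtain ⟨q, h1⟩ := hform i0
    obtain ⟨q', h1'⟩ := hform i1
    have h6 := congrFun (h1.symm.trans h1') (e i0)
    have h7 := congrFun (h1.symm.trans h1') (g i0)
    simp [e, g, hi1.symm] at h6 h7
    rw [h1, show q = qe i0 from sub_eq_zero.mp h6, sub_self, zero_smul, add_zero]
    rw [show q = qe i0 from sub_eq_zero.mp h6] at h7
    rw [h7, zero_smul, add_zero]
  refine D.mem_zpowers_of_scalar hS (lam := qe i0) (i := e i0) (j := e i1) (l := g i1) (k := .inr 0)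
    ?_ ?_ ?_ ?_ ?_ ?_
  · rintro ((i | i) | j)
    · exact (hqe i).trans (by rw [he0])
    · exact (hqg i).trans (by rw [hg0])
    · exact hz j
  all_goals simp [polar, minusQ_coe, Cfsg.quadFormMinus, e, g, Pi.single_apply, Finset.sum_add_distrib, add_mul, mul_add, hi1, hi1.symm]

end CfsgLib.LocalBal
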