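import Cfsg.Agent.LocalBal.LineFix
import Cfsg.Agent.Quad.OmegaSum

/-!
Odd normal subgroups of orthogonal groups are scalar.
-/

set_option autoImplicit false
set_option linter.unusedSectionVars false
set_option linter.style.haveILetI false

namespace CfsgLib.LocalBal

open QuadraticMap CfsgLib.Forms CfsgLib.Quad

variable {F V : Type*} [Field F] [Finite F] [AddCommGroup V] [Module F V] [FiniteDimensional F V]
  {P : QuadraticForm F V}

/-- Plus or minus the identity. -/
def IsPM (g : oGroup P) : Prop := g = 1 ∨ g = negIso P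

omit [Finite F] [FiniteDimensional F V] in
theorem IsPM.sq {g : oGroup P} (h : IsPM g) : g * g = 1 := by
  rcases h with rfl | rfl
  · exact one_mul 1
  · exact Subtype.ext (LinearEquiv.ext fun v => neg_neg v)

omit [Finite F] [FiniteDimensional F V] in
theorem IsPM.mul {g h : oGroup P} (hg : IsPM g) (hh : IsPM h) : IsPM (g * h) := by
  rcases hg with rfl | rfl
  · rwa [one_mul]
  rcases hh with rfl | rfl
  · exact Or.inr (mul_one _)
  · exact Or.inl (IsPM.sq (Or.inr rfl))

omit [Finite F] [FiniteDimensional F V] in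
theorem IsPM.pow {g : oGroup P} (hg : IsPM g) : ∀ n : ℕ, IsPM (g ^ n)
  | 0 => Or.inl (pow_zero g)
  | n + 1 => by rw [pow_succ]; exact (hg.pow n).mul hg

omit [Finite F] [FiniteDimensional F V] in
theorem IsPM.commute {g : oGroup P} (hg : IsPM g) (h : oGroup P) : Commute g h := by
  rcases hg with rfl | rfl
  · exact Commute.one_left h
  · exact Subtype.ext (LinearEquiv.ext fun v => (map_neg h.1 v).symm)

omit [Finite F] [FiniteDimensional F V] in
/-- An element that is odd and square-trivial modulo signs is a sign. -/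
theorem IsPM.of_odd {g : oGroup P} {k : ℕ} (hk : Odd k) (h : IsPM (g ^ k)) (h' : IsPM (g * g)) : IsPM g := by
  obtain ⟨i, rfl⟩ := hk
  have e : g = g ^ (2 * i + 1) * (g * g) ^ i := by
    have h4 : g ^ 4 = 1 := by rw [show (4 : ℕ) = 2 + 2 from rfl, pow_add, pow_two, h'.sq]
    rw [← pow_two, ← pow_mul, ← pow_add, show 2 * i + 1 + 2 * i = 4 * i + 1 by omega, pow_succ, pow_mul, h4,
      one_pow, one_mul]
  rw [e]
  exact h.mul (h'.pow i)

variable (hP : (polarBilin P).Nondegenerate) (h2 : (2 : F) ≠ 0)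
include hP h2

/-- The centre of the orthogonal group. -/
theorem pm_of_commute_refl (hd : 3 ≤ Module.finrank F V) {g : oGroup P}
    (hg : ∀ v, P v ≠ 0 → Commute g (CfsgLib.Quad.refl P v)) : IsPM g := by
  obtain ⟨e, f, he, hf, hef⟩ := exists_pair_one hP h2 hd
  obtain ⟨μ, hμ⟩ := scalar_of_lines h2 g.1.toLinearMap.toAddMonoidHom (fun v hv => by
    have h := refl_conj g v
    rw [(hg v hv).eq, mul_inv_cancel_right] at h
    have h3 := congrArg (fun t : oGroup P => t.1 v) h
    simp only [CfsgLib.Quad.refl_self hv, CfsgLib.Quad.refl_apply] at h3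
    set a := -(P (g.1 v))⁻¹ * polar P v (g.1 v) with ha
    rcases eq_or_ne a 0 with h4 | h4
    · rw [h4, zero_smul, add_zero, neg_eq_iff_add_eq_zero, ← two_smul F, smul_eq_zero] at h3
      exact absurd (h3.resolve_left h2) fun hv0 => hv (by rw [hv0, QuadraticMap.map_zero])
    · refine ⟨a⁻¹ * -2, ?_⟩
      change g.1 v = _
      rw [mul_smul, show (-2 : F) • v = a • g.1 v by linear_combination (norm := module) h3, inv_smul_smul₀ h4])
    one_ne_zero he hf hef
  have hμ' : ∀ v, g.1 v = μ • v := hμ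
  have h1 := g.2 e
  rw [hμ', quad_smul, he, mul_one] at h1
  rcases mul_self_eq_one_iff.mp h1 with rfl | rfl
  · exact Or.inl (Subtype.ext (LinearEquiv.ext fun v => (hμ' v).trans (one_smul F v)))
  · exact Or.inr (Subtype.ext (LinearEquiv.ext fun v => (hμ' v).trans (neg_one_smul F v)))

theorem odd_normal_pm_three (hd : Module.finrank F V = 3) (N : Subgroup (oGroup P)) (hN : N.Normal)
    (ho : ∀ g ∈ N, ∃ k, Odd k ∧ IsPM (g ^ k)) : ∀ g ∈ N, IsPM g := by
  classical
  let b := Module.finBasisOfFinrankEq F V hd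
  have hQ1 : (polarBilin (P.comp b.equivFun.symm.toLinearMap)).Nondegenerate := by
    have hrefl : (polarBilin (P.comp b.equivFun.symm.toLinearMap)).IsRefl := fun x y h => by
      rw [polarBilin_apply_apply] at h ⊢
      rwa [polar_comm]
    refine (LinearMap.IsRefl.nondegenerate_iff_separatingLeft hrefl).mpr fun x hx => ?_
    refine b.equivFun.symm.map_eq_zero_iff.mp (hP.1 _ fun y => ?_)
    obtain ⟨z, rfl⟩ := b.equivFun.symm.surjective y
    have h := hx z
    simp only [polarBilin_apply_apply, polar, QuadraticMap.comp_apply, LinearEquiv.coe_coe, map_add] at h ⊢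
    exact h
  obtain ⟨φ, c, hc, hφ⟩ := CfsgLib.AutPOm.similar_odd (m := 1) hQ1 (by simp)
  let J := φ.trans b.equivFun.symm
  have hJ : ∀ z, P (J z) = c * oddQ 1 z := hφ
  let e : oGroup (oddQ (F := F) 1) →* oGroup P :=
    { toFun := fun g => ⟨J.symm.trans (g.1.trans J), fun v => by
        change P (J (g.1 (J.symm v))) = P v
        rw [hJ, g.2, ← hJ, J.apply_symm_apply]⟩
      map_one' := Subtype.ext (LinearEquiv.ext fun v => J.apply_symm_apply v)
      map_mul' := fun g h => Subtype.ext (LinearEquiv.ext fun v => by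
        change J (g.1 (h.1 (J.symm v))) = J (g.1 (J.symm (J (h.1 (J.symm v)))))
        rw [J.symm_apply_apply]) }
  have he : Function.Bijective e := by
    refine ⟨fun g h hgh => Subtype.ext (LinearEquiv.ext fun z => ?_), fun g => ?_⟩
    · have := congrArg (fun t : oGroup P => t.1 (J z)) hgh
      simpa [e] using this
    · refine ⟨⟨J.trans (g.1.trans J.symm), fun z => ?_⟩, Subtype.ext (LinearEquiv.ext fun v => ?_)⟩
      · change oddQ 1 (J.symm (g.1 (J z))) = oddQ 1 z
        refine mul_left_cancel₀ hc ?_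
        rw [← hJ, J.apply_symm_apply, g.2, hJ]
      · simp [e]
  have hcen : N.comap e ≤ Subgroup.center _ := by
    refine central_of_odd_oGroup h2 _ (hN.comap e) fun g hg => ?_
    obtain ⟨k, hk, hkg⟩ := ho _ hg
    refine ⟨k, hk, Subgroup.mem_center_iff.mpr fun h => he.1 ?_⟩
    rw [map_mul, map_mul, map_pow]
    exact (hkg.commute (e h)).eq.symm
  intro g hg
  obtain ⟨g₀, rfl⟩ := he.2 g
  refine pm_of_commute_refl hP h2 hd.ge fun v _ => ?_
  obtain ⟨r, hr⟩ := he.2 (CfsgLib.Quad.refl P v)
  rw [← hr]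
  exact ((show Commute g₀ r from (Subgroup.mem_center_iff.mp (hcen hg) r).symm)).map e

theorem odd_normal_pm_five (hd : 5 ≤ Module.finrank F V) (N : Subgroup (oGroup P)) (hN : N.Normal)
    (ho : ∀ g ∈ N, ∃ k, Odd k ∧ IsPM (g ^ k)) : ∀ g ∈ N, IsPM g := by
  have hcenter : ∀ g : ↥(commutator (oGroup P)), g ∈ Subgroup.center _ ↔ IsPM g.1 := fun g => by
    refine ⟨fun h => ?_, fun h => Subgroup.mem_center_iff.mpr fun x => Subtype.ext (h.commute x.1).eq.symm⟩
    rcases center_omega_subset hP hd g h with rfl | h'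
    · exact Or.inl rfl
    · exact Or.inr h'
  haveI : IsSimpleGroup (↥(commutator (oGroup P)) ⧸ Subgroup.center ↥(commutator (oGroup P))) :=
    isSimpleGroup_omega hP hd
  set π := QuotientGroup.mk' (Subgroup.center ↥(commutator (oGroup P)))
  have hM : ((N.subgroupOf (commutator (oGroup P))).map π).Normal :=
    (hN.subgroupOf _).map π (QuotientGroup.mk'_surjective _)
  rcases hM.eq_bot_or_eq_top with h | h
  · intro g hg
    obtain ⟨k, hk, hgk⟩ := ho g hg
    refine IsPM.of_odd hk hgk ((hcenter ⟨_, sq_mem_commutator hP (Or.inr (by omega)) g⟩).mp ?_)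
    rw [← QuotientGroup.eq_one_iff]
    exact Subgroup.mem_bot.mp (h ▸ Subgroup.mem_map_of_mem π (mul_mem hg hg))
  · exfalso
    obtain ⟨u, hu⟩ := exists_value hP h2 (by omega) (1 : F)
    obtain ⟨v, huv, hv⟩ := exists_perp_value hP h2 (by omega) (show P u ≠ 0 by rw [hu]; exact one_ne_zero) (1 : F)
    have hu0 : P u ≠ 0 := by rw [hu]; exact one_ne_zero
    have hv0 : P v ≠ 0 := by rw [hv]; exact one_ne_zero
    obtain ⟨z, huz, hvz, hz⟩ := exists_perp_value₂ hP h2 (by omega) hu0 hv0 huv (1 : F)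
    set t : oGroup P := CfsgLib.Quad.refl P u * CfsgLib.Quad.refl P v with ht
    have htm : t ∈ commutator (oGroup P) := refl_pair_mem_commutator hP hu0 hv0
      (by rw [hu, hv, one_mul]; exact IsSquare.one)
    obtain ⟨h', hh', hπ⟩ := (show π ⟨t, htm⟩ ∈ (N.subgroupOf (commutator (oGroup P))).map π from
      h ▸ Subgroup.mem_top _)
    have hz' : IsPM (h'⁻¹ * ⟨t, htm⟩ : ↥(commutator (oGroup P))).1 :=
      (hcenter _).mp (QuotientGroup.eq.mp hπ)
    set c : oGroup P := (h'⁻¹ * ⟨t, htm⟩ : ↥(commutator (oGroup P))).1 with hc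
    have htc : t = h'.1 * c := by
      rw [hc, Subgroup.coe_mul, Subgroup.coe_inv, mul_inv_cancel_left]
    obtain ⟨k, hk, hhk⟩ := ho h'.1 hh'
    have htsq : t * t = 1 := by
      rw [ht, mul_assoc, ← mul_assoc (CfsgLib.Quad.refl P v), ← CfsgLib.AutPOm.refl_comm_of_orth (x := u) (y := v)
        (by rw [polar_comm, huv]), mul_assoc, CfsgLib.Quad.refl_mul_self, mul_one, CfsgLib.Quad.refl_mul_self]
    have htk : t ^ k = t := by
      obtain ⟨i, rfl⟩ := hk
      rw [pow_succ, pow_mul, pow_two, htsq, one_pow, one_mul]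
    have htpm : IsPM t := by
      rw [← htk, htc, ((hz'.commute h'.1).symm).mul_pow]
      exact hhk.mul (hz'.pow k)
    have hz0 : z ≠ 0 := fun e => one_ne_zero (α := F) (by rw [← hz, e, QuadraticMap.map_zero])
    have hfix : t.1 z = z := by
      change (CfsgLib.Quad.refl P u).1 ((CfsgLib.Quad.refl P v).1 z) = z
      rw [refl_fix (show polar P z v = 0 by rw [polar_comm, hvz]), refl_fix (show polar P z u = 0 by rw [polar_comm, huz])]
    have hneg : t.1 u = -u := by
      change (CfsgLib.Quad.refl P u).1 ((CfsgLib.Quad.refl P v).1 u) = -u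
      rw [refl_fix huv, CfsgLib.Quad.refl_self hu0]
    rcases htpm with e | e
    · rw [e] at hneg
      change u = -u at hneg
      rw [eq_neg_iff_add_eq_zero, ← two_smul F, smul_eq_zero, or_iff_right h2] at hneg
      exact hu0 (by rw [hneg, QuadraticMap.map_zero])
    · rw [e, negIso_apply, neg_eq_iff_add_eq_zero, ← two_smul F, smul_eq_zero, or_iff_right h2] at hfix
      exact hz0 hfix

/-- A normal subgroup of the orthogonal group in dimension `1`, `3` or at least `5`, odd modulo signs, consists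
of signs. -/
theorem odd_normal_pm (hd : Module.finrank F V = 1 ∨ Module.finrank F V = 3 ∨ 5 ≤ Module.finrank F V)
    (N : Subgroup (oGroup P)) (hN : N.Normal) (ho : ∀ g ∈ N, ∃ k, Odd k ∧ IsPM (g ^ k)) :
    ∀ g ∈ N, IsPM g := by
  rcases hd with hd | hd | hd
  · intro g _
    obtain ⟨v, hv, hspan⟩ := finrank_eq_one_iff'.mp hd
    obtain ⟨t, ht⟩ := hspan (g.1 v)
    obtain ⟨a, ha⟩ := exists_aniso hP hd.ge
    obtain ⟨s, hs⟩ := hspan a
    have hPv : P v ≠ 0 := fun e => ha (by rw [← hs, quad_smul, e, mul_zero])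
    have h1 := g.2 v
    rw [← ht, quad_smul] at h1
    have ht2 : t * t = 1 := mul_right_cancel₀ hPv (h1.trans (one_mul _).symm)
    have hall : ∀ x, g.1 x = t • x := fun x => by
      obtain ⟨s, rfl⟩ := hspan x
      rw [map_smul, ← ht, smul_comm]
    rcases mul_self_eq_one_iff.mp ht2 with rfl | rfl
    · exact Or.inl (Subtype.ext (LinearEquiv.ext fun x => (hall x).trans (one_smul F x)))
    · exact Or.inr (Subtype.ext (LinearEquiv.ext fun x => (hall x).trans (neg_one_smul F x)))
  · exact odd_normal_pm_three hP h2 hd N hN ho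
  · exact odd_normal_pm_five hP h2 hd N hN ho

end CfsgLib.LocalBal
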