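import Cfsg.Agent.LocalBal.PSLSimple

/-!
Local balance at a semilinear automorphism of prime order of `PSL_n`.
-/

set_option autoImplicit false
set_option linter.unusedSectionVars false

namespace CfsgLib.LocalBal

open CfsgLib.AutPSL

variable {F : Type*} [Field F] [Finite F] {n : ℕ}

local notation "PSLn" => Matrix.ProjectiveSpecialLinearGroup (Fin n) F

theorem conjL_injective (hn : 2 ≤ n) :
    Function.Injective (MulAut.conj : PSLn →* MulAut (Matrix.ProjectiveSpecialLinearGroup (Fin n) F)) := by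
  rw [← MonoidHom.ker_eq_bot_iff, eq_bot_iff]
  intro x hx
  obtain ⟨s, rfl⟩ := QuotientGroup.mk_surjective x
  rw [MonoidHom.mem_ker, ← semiAut_toGL] at hx
  obtain ⟨-, c, hc⟩ := semiAut_eq_one hn hx
  rw [Subgroup.mem_bot, QuotientGroup.eq_one_iff, Matrix.SpecialLinearGroup.mem_center_iff]
  refine ⟨c, ?_, ?_⟩
  · have h := congrArg Matrix.det hc
    rw [Matrix.det_smul, Matrix.det_one, mul_one] at h
    exact h.symm.trans s.2
  · rw [Matrix.scalar_apply, ← Matrix.smul_one_eq_diagonal]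
    exact hc.symm

theorem semiAut_criterion (hn : 2 ≤ n) {p : ℕ} [Fact p.Prime] (hpF : (p : F) ≠ 0)
    (A : Subgroup (MulAut PSLn)) (hinn : ∀ k : PSLn, MulAut.conj k ∈ A)
    (g : GL (Fin n) F) (σ : RingAut F) (hσ : σ ≠ 1) (hord : orderOf (semiAut g σ) = p) :
    Cfsg.pPrimeCore p ↥(A ⊓ Subgroup.centralizer {semiAut g σ}) ≠ ⊥ ↔
      Nat.Coprime p (Nat.card (Fix (semiAut g σ))) := by
  have hpp : p.Prime := Fact.out
  have h1 := pow_orderOf_eq_one (semiAut g σ)
  rw [hord, semiAut_pow] at h1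
  obtain ⟨k, hk⟩ := exists_conj_of_orderOf hn hpp (orderOf_eq_prime (semiAut_eq_one hn h1).1 hσ) hord
  exact criterion_conj (conjL_injective hn) A hinn _ (phiL σ) _ hk hord (subL σ) (subL_le σ)
    (fixL_ne_bot σ hn) (subL_normal σ) (fun hd N hN hc => subL_normal_bot σ hn hpp hpF hd N hN hc)
    (fun y _ hy => mem_zpowers_of_fix_subL σ hn y hy)

end CfsgLib.LocalBal
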