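import Cfsg.Agent.Quad.SmallIso
import Cfsg.Agent.GraphInv.Models
import Cfsg.Agent.LocalBal.PSLMain
import Cfsg.Agent.LocalBal.DiagClean

/-!
Odd normal subgroups of the orthogonal groups in dimension three.
-/

set_option autoImplicit false
set_option linter.unusedSectionVars false
set_option linter.style.haveILetI false

namespace CfsgLib.LocalBal

open QuadraticMap Matrix CfsgLib.Forms CfsgLib.Quad

variable {F : Type*} [Field F] [Finite F]

/-- `SL_2` maps onto the commutator group of `O_3` with the centre as kernel. -/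
theorem exists_sl2_hom (h2 : (2 : F) ≠ 0) :
    ∃ f : Matrix.SpecialLinearGroup (Fin 2) F →* oGroup (oddQ (F := F) 1),
      f.range = commutator (oGroup (oddQ (F := F) 1)) ∧ f.ker = Subgroup.center _ := by
  haveI := Fintype.ofFinite F
  have hdet : ∀ v, (symModel (F := F) v).det = -oddQ 1 v := fun v => by
    simp [symModel, Matrix.det_fin_two, oddQ_coe, Cfsg.quadFormOdd]
    ring
  have hinj : Function.Injective (symModel (F := F)) := fun u v e => by
    funext i
    rcases i with u' | i | i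
    · exact congrFun (congrFun e 0) 1
    · rw [Subsingleton.elim i 0]; exact congrFun (congrFun e 0) 0
    · rw [Subsingleton.elim i 0]; exact neg_injective (congrFun (congrFun e 1) 1)
  let act := congrAct (F := F) (slVal (Fin 2) F) (slVal (Fin 2) F)
  have hstab : ∀ g v, ∃ w, symModel (F := F) w = act g (symModel v) := by
    intro g v
    set H := act g (symModel v) with hH
    have hsym : Hᵀ = H := by
      rw [hH]
      change (g.1 * symModel v * g.1ᵀ)ᵀ = g.1 * symModel v * g.1ᵀ
      rw [Matrix.transpose_mul, Matrix.transpose_mul, Matrix.transpose_transpose, Matrix.mul_assoc]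
      congr 2
      ext i j; fin_cases i <;> fin_cases j <;> rfl
    refine ⟨Sum.elim (fun _ => H 0 1) (Sum.elim (fun _ => H 0 0) (fun _ => -H 1 1)), ?_⟩
    have h10 : H 0 1 = H 1 0 := congrFun (congrFun hsym.symm 0) 1
    ext i j; fin_cases i <;> fin_cases j <;> simp [symModel, h10]
  have hQ : ∀ g v w, symModel (F := F) w = act g (symModel v) → oddQ 1 w = oddQ 1 v := by
    intro g v w e
    have h := congrArg Matrix.det e
    change _ = (g.1 * symModel v * g.1ᵀ).det at h
    rw [Matrix.det_mul, Matrix.det_mul, Matrix.det_transpose, g.2, one_mul, mul_one, hdet, hdet] at h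
    exact neg_injective h
  let f := repO act symModel hinj hstab hQ
  have hker : f.ker = Subgroup.center _ := by
    ext g
    rw [MonoidHom.mem_ker, repO_eq_one_iff]
    constructor
    · intro h
      refine (mem_center_of_eq_pm ?_).1
      have hd := g.2
      rw [Matrix.det_fin_two] at hd
      have e1 : g.1 * symModel (Sum.elim 0 (Sum.elim 1 0)) * g.1ᵀ = symModel (Sum.elim 0 (Sum.elim 1 0)) :=
        h _
      have e3 : g.1 * symModel (Sum.elim 0 (Sum.elim 0 1)) * g.1ᵀ = symModel (Sum.elim 0 (Sum.elim 0 1)) :=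
        h _
      have a00 : g.1 0 0 * g.1 0 0 = 1 := by
        have := congrFun (congrFun e1 0) 0
        simpa [symModel, Matrix.mul_apply, Fin.sum_univ_two] using this
      have a10 : g.1 1 0 = 0 := by
        have := congrFun (congrFun e1 1) 1
        simpa [symModel, Matrix.mul_apply, Fin.sum_univ_two] using this
      have a01 : g.1 0 1 = 0 := by
        have := congrFun (congrFun e3 0) 0
        simpa [symModel, Matrix.mul_apply, Fin.sum_univ_two] using this
      rw [a10, a01, mul_zero, sub_zero] at hd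
      rcases mul_self_eq_one_iff.mp a00 with h0 | h0 <;> rw [h0] at hd
      · left; ext i j; fin_cases i <;> fin_cases j <;> simp_all
      · right
        have h11 : g.1 1 1 = -1 := by linear_combination -hd
        ext i j; fin_cases i <;> fin_cases j <;> simp_all
    · intro h v
      change g.1 * symModel v * g.1ᵀ = symModel v
      rcases eq_pm_of_center h with e | e <;> rw [e] <;> simp
  have hk : Nat.card f.ker = 2 := by
    rw [hker, CfsgLib.Linear.card_center_SL, Fintype.card_fin]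
    have := Nat.odd_iff.mp (Nat.odd_iff.mpr (odd_card_of_two_ne h2) : Odd (Nat.card F))
    have h1 : 1 < Nat.card F := Finite.one_lt_card
    obtain ⟨k, hk⟩ : 2 ∣ Nat.card F - 1 := Nat.dvd_of_mod_eq_zero (by omega)
    rw [hk]; exact Nat.gcd_eq_left ⟨k, rfl⟩
  have hsq : SqGen (Matrix.SpecialLinearGroup (Fin 2) F) := sqGen_SL (Or.inl h2)
  have hrange := range_eq_commutator_odd (oddQ_nondeg h2 1) h2 (by simp) f hsq (by
    rw [hk, card_SL_two]
    have h := card_oGroup_odd (F := F) (q := Fintype.card F) Nat.card_eq_fintype_card h2 1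
    have h1 : 1 ≤ Fintype.card F ^ 2 := Nat.one_le_pow _ _ Fintype.card_pos
    apply Nat.cast_injective (R := ℤ)
    push_cast [h1]
    rw [h]
    simp
    ring)
  exact ⟨f, hrange, hker⟩

/-- Every element of a normal subgroup that is odd modulo scalars is central in `O_3`. -/
theorem central_of_odd_oGroup (h2 : (2 : F) ≠ 0) (L : Subgroup (oGroup (oddQ (F := F) 1))) (hL : L.Normal)
    (ho : ∀ a ∈ L, ∃ k, Odd k ∧ a ^ k ∈ Subgroup.center _) : L ≤ Subgroup.center _ := by
  classical
  obtain ⟨f, hrange, hker⟩ := exists_sl2_hom (F := F) h2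
  set π := QuotientGroup.mk' (Subgroup.center (Matrix.SpecialLinearGroup (Fin 2) F))
  have hsurj : Function.Surjective π := QuotientGroup.mk'_surjective _
  set N := (L.comap f).map π
  haveI hN : N.Normal := Subgroup.Normal.map inferInstance π hsurj
  have hNodd : (Nat.card N).Coprime 2 := by
    rw [Nat.coprime_comm, Nat.prime_two.coprime_iff_not_dvd]
    intro hd
    haveI : Fact (Nat.Prime 2) := ⟨Nat.prime_two⟩
    obtain ⟨x, hx⟩ := exists_prime_orderOf_dvd_card' 2 hd
    obtain ⟨g, hg, hgx⟩ := x.2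
    obtain ⟨k, hk, hgk⟩ := ho (f g) hg
    have h1 : (x : Matrix.ProjectiveSpecialLinearGroup (Fin 2) F) ^ k = 1 := by
      refine conjL_injective (n := 2) le_rfl (MulEquiv.ext fun y => ?_)
      obtain ⟨h, rfl⟩ := hsurj y
      have hc : g ^ k * h * (g ^ k)⁻¹ * h⁻¹ ∈ f.ker := by
        rw [MonoidHom.mem_ker, map_mul, map_mul, map_mul, map_inv, map_inv, map_pow,
          ← Subgroup.mem_center_iff.mp hgk (f h), mul_inv_cancel_right, mul_inv_cancel]
      rw [hker] at hc
      have hc' : π (g ^ k * h * (g ^ k)⁻¹ * h⁻¹) = 1 := (QuotientGroup.eq_one_iff _).mpr hc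
      rw [map_one, MulAut.one_apply, MulAut.conj_apply, ← hgx, ← map_pow, ← map_inv π, ← map_mul, ← map_mul]
      rw [map_mul, map_inv, mul_inv_eq_one] at hc'
      exact hc'
    obtain ⟨j, rfl⟩ := hk
    have h2' : orderOf x ∣ 2 * j + 1 := orderOf_dvd_of_pow_eq_one (Subtype.ext (by simpa using h1))
    rw [hx] at h2'
    omega
  have hchar : ((2 : ℕ) : F) ≠ 0 := by simpa using h2
  have hdvd : 2 ∣ Nat.card (Matrix.ProjectiveSpecialLinearGroup (Fin 2) F) := by
    let w : Matrix.SpecialLinearGroup (Fin 2) F := ⟨!![0, 1; -1, 0], by simp [Matrix.det_fin_two]⟩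
    have h2w : (π w) ^ 2 = 1 := by
      rw [← map_pow, QuotientGroup.mk'_apply, QuotientGroup.eq_one_iff, Matrix.SpecialLinearGroup.mem_center_iff]
      refine ⟨-1, by simp, ?_⟩
      rw [Matrix.SpecialLinearGroup.coe_pow, pow_two]
      ext a b; fin_cases a <;> fin_cases b <;> simp [w, Matrix.mul_apply, Fin.sum_univ_two]
    have h1w : π w ≠ 1 := by
      rw [ne_eq, QuotientGroup.mk'_apply, QuotientGroup.eq_one_iff, Matrix.SpecialLinearGroup.mem_center_iff]
      rintro ⟨r, -, hr⟩
      have := congrFun (congrFun hr 0) 1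
      simp [w, Matrix.scalar_apply] at this
    have h3 := orderOf_dvd_natCard (π w)
    rwa [orderOf_eq_prime h2w h1w] at h3
  have hbot : N = ⊥ := psl_normal_bot le_rfl Nat.prime_two hchar hdvd N hN hNodd
  have hLC : ∀ z ∈ L, z ∈ commutator (oGroup (oddQ (F := F) 1)) → z = 1 := by
    intro z hz hzc
    rw [← hrange] at hzc
    obtain ⟨g, rfl⟩ := hzc
    have : π g = 1 := Subgroup.mem_bot.mp (hbot ▸ Subgroup.mem_map_of_mem π hz)
    rw [QuotientGroup.mk'_apply, QuotientGroup.eq_one_iff, ← hker] at this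
    exact this
  intro a ha
  rw [Subgroup.mem_center_iff]
  intro h
  have h1 := hLC (a * (h * a⁻¹ * h⁻¹)) (mul_mem ha (hL.conj_mem _ (inv_mem ha) h))
    (by rw [← mul_assoc, ← mul_assoc]
        exact Subgroup.commutator_mem_commutator (Subgroup.mem_top a) (Subgroup.mem_top h))
  rw [← mul_assoc, ← mul_assoc, mul_inv_eq_one, mul_inv_eq_iff_eq_mul] at h1
  exact h1.symm

theorem mem_uGrp_iff_isometry {ι : Type} [Fintype ι] [DecidableEq ι] (h2 : (2 : F) ≠ 0) {S : Matrix ι ι F}
    (hS : Sᵀ = S) {Q : (ι → F) → F} (hQ : ∀ v, 2 * Q v = v ⬝ᵥ (S *ᵥ v)) (g : GL ι F) :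
    g ∈ uGrp (1 : RingAut F) S ↔ g ∈ Cfsg.isometryGroup F Q := by
  set G := (g : Matrix ι ι F)
  have hG : ∀ v, (G *ᵥ v) ⬝ᵥ (S *ᵥ (G *ᵥ v)) = v ⬝ᵥ ((Gᵀ * S * G) *ᵥ v) := fun v => by
    rw [← Matrix.mulVec_mulVec, ← Matrix.mulVec_mulVec, Matrix.dotProduct_mulVec v Gᵀ, Matrix.vecMul_transpose]
  have hmap : (g : Matrix ι ι F).map (1 : RingAut F) = G := by ext; rfl
  rw [mem_uGrp, hmap]
  constructor
  · intro h u _
    refine mul_left_cancel₀ h2 ?_
    show 2 * Q (G *ᵥ u) = 2 * Q u
    rw [hQ, hQ, hG, h]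
  · intro h
    set M := Gᵀ * S * G - S with hM
    have hsym : Mᵀ = M := by
      rw [hM, transpose_sub, transpose_mul, transpose_mul, transpose_transpose, hS, mul_assoc]
    have h0 : ∀ v, v ⬝ᵥ (M *ᵥ v) = 0 := fun v => by
      rw [hM, Matrix.sub_mulVec, dotProduct_sub, ← hG, ← hQ, ← hQ, sub_eq_zero]
      exact congrArg (2 * ·) (h v 0)
    refine sub_eq_zero.mp ?_
    show M = 0
    ext a b
    have ha := h0 (Pi.single a 1)
    have hb := h0 (Pi.single b 1)
    have hab := h0 (Pi.single a 1 + Pi.single b 1)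
    simp only [Matrix.mulVec_add, dotProduct_add, add_dotProduct, Matrix.mulVec_single_one, single_dotProduct,
      one_mul, Matrix.col_apply] at ha hb hab
    have hba : M b a = M a b := congrFun (congrFun hsym a) b
    have : (2 : F) * M a b = 0 := by linear_combination hab - ha - hb - hba
    exact (mul_eq_zero.mp this).resolve_left h2

theorem clean_oddP (h2 : (2 : F) ≠ 0) {a : GL (Unit ⊕ (Fin 1 ⊕ Fin 1)) F}
    (L : Subgroup (GL (Unit ⊕ (Fin 1 ⊕ Fin 1)) F)) (hle : L ≤ uGrp (1 : RingAut F) (CfsgLib.GraphInv.oddP F 1))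
    (hn : ∀ g ∈ uGrp (1 : RingAut F) (CfsgLib.GraphInv.oddP F 1), ∀ a ∈ L, g * a * g⁻¹ ∈ L) (ho : OddSc L)
    (ha : a ∈ L) (g : GL (Unit ⊕ (Fin 1 ⊕ Fin 1)) F) (hg : g ∈ uGrp (1 : RingAut F) (CfsgLib.GraphInv.oddP F 1)) :
    Commute a g := by
  set Q := oddQ (F := F) 1
  have hiff : ∀ h : GL (Unit ⊕ (Fin 1 ⊕ Fin 1)) F,
      h ∈ uGrp (1 : RingAut F) (CfsgLib.GraphInv.oddP F 1) ↔ h ∈ Cfsg.isometryGroup F ⇑Q :=
    mem_uGrp_iff_isometry h2 CfsgLib.GraphInv.oddP_transpose fun v => by
      rw [oddQ_coe]; exact CfsgLib.GraphInv.two_quadOdd v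
  let e := isoGroupEquiv Q
  set L' := (L.subgroupOf (Cfsg.isometryGroup F ⇑Q)).map e.toMonoidHom
  have hN : L'.Normal := ⟨fun x hx y => by
    obtain ⟨b, hb, rfl⟩ := hx
    refine ⟨e.symm y * b * (e.symm y)⁻¹, hn _ ((hiff _).mpr (e.symm y).2) _ hb, ?_⟩
    simp⟩
  have hc := central_of_odd_oGroup h2 L' hN (fun x hx => by
    obtain ⟨b, hb, rfl⟩ := hx
    obtain ⟨k, hk, hbk⟩ := ho _ hb
    refine ⟨k, hk, Subgroup.mem_center_iff.mpr fun y => ?_⟩
    rw [← e.apply_symm_apply y, MulEquiv.coe_toMonoidHom, ← map_pow, ← map_mul, ← map_mul]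
    exact congrArg e (Subtype.ext ((hbk.commute _).eq.symm)))
  have := Subgroup.mem_center_iff.mp (hc (Subgroup.mem_map_of_mem e.toMonoidHom
    (show (⟨a, (hiff a).mp (hle ha)⟩ : Cfsg.isometryGroup F ⇑Q) ∈ L.subgroupOf _ from ha))) (e ⟨g, (hiff g).mp hg⟩)
  rw [MulEquiv.coe_toMonoidHom, ← map_mul, ← map_mul] at this
  exact (congrArg Subtype.val (e.injective this)).symm

end CfsgLib.LocalBal
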