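import Cfsg.Agent.AutPOm.OddField
import Cfsg.Agent.AutPOm.InvSim
import Cfsg.Agent.Quad.OmegaSum
import Cfsg.Agent.LocalBal.Core
import Cfsg.Agent.LocalBal.Field

/-!
Fixed points of a standard field automorphism of `Ω_{2m+1}`.
-/

set_option autoImplicit false
set_option linter.unusedSectionVars false
set_option linter.style.haveILetI false

namespace CfsgLib.LocalBal

open QuadraticMap CfsgLib.Forms CfsgLib.Quad CfsgLib.AutPOm Matrix

variable {F : Type*} [Field F] [Finite F] {m : ℕ}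

theorem center_Om_odd (h2 : (2 : F) ≠ 0) (hm : 3 ≤ m) :
    Subgroup.center ↥(Om (oddQ (F := F) m)) = ⊥ := by
  obtain ⟨hQ, -⟩ := big_oddQ (F := F) h2 hm
  refine eq_bot_iff.mpr fun c hc => Subgroup.mem_bot.mpr ?_
  rcases center_omega_subset hQ.nd hQ.five c hc with h | h
  · exact h
  exfalso
  have h1 : detO (oddQ (F := F) m) (negIso _) = 1 :=
    MonoidHom.mem_ker.mp (Abelianization.commutator_subset_ker _ (h ▸ c.2))
  have h3 := congrArg Units.val h1
  have hodd : Odd (Module.finrank F (Unit ⊕ (Fin m ⊕ Fin m) → F)) := by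
    simp [Module.finrank_fintype_fun_eq_card]
  rw [detO_val, Units.val_one, show (negIso (oddQ (F := F) m)).1.toLinearMap = (-1 : F) • LinearMap.id from
      LinearMap.ext fun x => (neg_one_smul F x).symm, LinearMap.det_smul, hodd.neg_one_pow,
    LinearMap.det_id] at h3
  exact h2 (by linear_combination -h3)

theorem pomHom_symm_toPG {ι : Type} [Fintype ι] [DecidableEq ι] {Q : QuadraticForm F (ι → F)} (S : Semi Q)
    (t : ↥(Om Q)) :
    pomHom Q S ((pOmegaEquiv Q).symm (toPG Q t)) = (pOmegaEquiv Q).symm (toPG Q (S.omEquiv t)) := by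
  rw [pomHom_apply', (pOmegaEquiv Q).apply_symm_apply]
  refine congrArg (pOmegaEquiv Q).symm ?_
  rw [pgHom_apply]
  exact S.pgAut_mk t

/-- `Ω` as the fixed group's ambient group. -/
noncomputable def omToPOm (F : Type*) [Field F] (m : ℕ) :
    ↥(Om (oddQ (F := F) m)) →* Cfsg.POmega F ⇑(oddQ (F := F) m) :=
  (pOmegaEquiv (oddQ (F := F) m)).symm.toMonoidHom.comp (toPG _)

theorem omToPOm_injective (h2 : (2 : F) ≠ 0) (hm : 3 ≤ m) : Function.Injective (omToPOm F m) := by
  intro a b h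
  have h1 : toPG _ a = toPG _ b := (pOmegaEquiv (oddQ (F := F) m)).symm.injective h
  have h3 := QuotientGroup.eq.mp h1
  rw [center_Om_odd h2 hm, Subgroup.mem_bot, inv_mul_eq_one] at h3
  exact h3

theorem omToPOm_surjective : Function.Surjective (omToPOm F m) :=
  (pOmegaEquiv (oddQ (F := F) m)).symm.surjective.comp (QuotientGroup.mk'_surjective _)

theorem pomHom_omToPOm (S : Semi (oddQ (F := F) m)) (t : ↥(Om (oddQ (F := F) m))) :
    pomHom _ S (omToPOm F m t) = omToPOm F m (S.omEquiv t) :=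
  pomHom_symm_toPG (Q := oddQ (F := F) m) S t

variable (σ : RingAut F)

/-- The coordinatewise map. -/
abbrev cT : Semi (oddQ (F := F) m) := coordHom (oddQ_coord m) σ

/-- The standard field automorphism. -/
noncomputable abbrev phiO : MulAut (Cfsg.POmega F ⇑(oddQ (F := F) m)) := pomHom _ (cT (m := m) σ)

local notation "K" => CfsgLib.AutPSL.fixField σ

theorem fix_subtype (x : K) : σ ((K).subtype x) = (K).subtype x := (CfsgLib.AutPSL.mem_fixField σ).mp x.2

/-- Isometries as similarities. -/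
noncomputable def isoSim : oGroup (oddQ (F := K) m) →* ↥(simGroup (oddQ (F := K) m)) :=
  (isoHom (oddQ (F := K) m)).codRestrict _ fun _ => mem_simGroup.mpr rfl

theorem exists_base_iso (k : oGroup (oddQ (F := K) m)) :
    ∃ g : oGroup (oddQ (F := F) m),
      (isBase_oddQ (K).subtype m).extHom (isoSim σ k) = isoHom _ g := by
  obtain ⟨h1, -, h3⟩ := (isBase_oddQ (K).subtype m).extHom_spec (isoSim σ k)
  refine Semi.eq_iso (mem_simGroup.mp h1) (Units.ext ?_)
  rw [h3]
  exact map_one (K).subtype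

/-- Isometries over the fixed field. -/
noncomputable def baseIso : oGroup (oddQ (F := K) m) →* oGroup (oddQ (F := F) m) where
  toFun k := Classical.choose (exists_base_iso σ k)
  map_one' := isoHom_injective (by
    rw [← Classical.choose_spec (exists_base_iso σ 1), map_one, map_one, map_one])
  map_mul' a b := isoHom_injective (by
    rw [map_mul (isoHom _), ← Classical.choose_spec (exists_base_iso σ (a * b)),
      ← Classical.choose_spec (exists_base_iso σ a), ← Classical.choose_spec (exists_base_iso σ b), map_mul,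
      map_mul])

theorem isoHom_baseIso (k : oGroup (oddQ (F := K) m)) : isoHom _ (baseIso σ k) =
    (isBase_oddQ (K).subtype m).extHom (isoSim σ k) :=
  (Classical.choose_spec (exists_base_iso σ k)).symm

theorem baseIso_injective : Function.Injective (baseIso (m := m) σ) := fun a b h => by
  have h1 := congrArg (isoHom _) h
  rw [isoHom_baseIso, isoHom_baseIso] at h1
  exact isoHom_injective (congrArg Subtype.val ((isBase_oddQ (K).subtype m).extHom_injective h1))

theorem oEquiv_baseIso (k : oGroup (oddQ (F := K) m)) : (cT σ).oEquiv (baseIso σ k) = baseIso σ k := by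
  refine isoHom_injective ?_
  rw [← Semi.conj_iso, isoHom_baseIso, show cT (m := m) σ = (isBase_oddQ (K).subtype m).coordT σ (fix_subtype σ) from rfl,
    IsBase.commute_coordT, mul_inv_cancel_right]

theorem exists_baseIso {g : oGroup (oddQ (F := F) m)} (h : (cT σ).oEquiv g = g) :
    ∃ k, baseIso σ k = g := by
  have hc : cT σ * isoHom _ g = isoHom _ g * cT σ := by
    rw [← mul_inv_eq_iff_eq_mul, Semi.conj_iso, h]
  obtain ⟨L, hL⟩ := (isBase_oddQ (K).subtype m).exists_of_commute (fix_subtype σ)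
    (fun y hy => ⟨⟨y, (CfsgLib.AutPSL.mem_fixField σ).mpr hy⟩, rfl⟩) (mem_simGroup.mpr rfl) hc
  obtain ⟨k, hk⟩ := Semi.eq_iso (S := L.1) (mem_simGroup.mp L.2) (Units.ext ((K).subtype.injective (by
    rw [← ((isBase_oddQ (K).subtype m).extHom_spec L).2.2, hL]
    exact (map_one (K).subtype).symm)))
  refine ⟨k, isoHom_injective ?_⟩
  rw [isoHom_baseIso, ← hL]
  exact congrArg _ (Subtype.ext hk.symm)

/-- `Ω` over the fixed field inside `Ω`. -/
noncomputable def baseOm : ↥(Om (oddQ (F := K) m)) →* ↥(Om (oddQ (F := F) m)) :=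
  ((baseIso σ).comp (Om (oddQ (F := K) m)).subtype).codRestrict _ fun k => by
    have h : (Om (oddQ (F := K) m)).map (baseIso σ) ≤ Om (oddQ (F := F) m) := by
      rw [Om, Om, commutator_def, Subgroup.map_commutator, commutator_def]
      exact Subgroup.commutator_mono le_top le_top
    exact h ⟨k.1, k.2, rfl⟩

/-- Its image in `POmega`. -/
noncomputable def subO : Subgroup (Cfsg.POmega F ⇑(oddQ (F := F) m)) := ((omToPOm F m).comp (baseOm σ)).range

theorem subO_le : subO σ ≤ Fix (phiO (m := m) σ) := by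
  rintro _ ⟨k, rfl⟩
  rw [mem_Fix, MonoidHom.comp_apply, pomHom_omToPOm]
  exact congrArg _ (Subtype.ext (oEquiv_baseIso σ k.1))

theorem exists_of_fix (h2 : (2 : F) ≠ 0) (hm : 3 ≤ m) {z : Cfsg.POmega F ⇑(oddQ (F := F) m)}
    (hz : z ∈ Fix (phiO (m := m) σ)) :
    ∃ (k : oGroup (oddQ (F := K) m)) (h : baseIso σ k ∈ Om (oddQ (F := F) m)), z = omToPOm F m ⟨_, h⟩ := by
  obtain ⟨⟨g, hg⟩, rfl⟩ := omToPOm_surjective z
  rw [mem_Fix, pomHom_omToPOm] at hz
  obtain ⟨k, rfl⟩ := exists_baseIso σ (congrArg Subtype.val (omToPOm_injective h2 hm hz))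
  exact ⟨k, hg, rfl⟩

theorem subO_normal (h2 : (2 : F) ≠ 0) (hm : 3 ≤ m) :
    ∀ z ∈ Fix (phiO (m := m) σ), ∀ s ∈ subO σ, z * s * z⁻¹ ∈ subO σ := by
  intro z hz _ hs
  obtain ⟨s, rfl⟩ := hs
  obtain ⟨k, hk, rfl⟩ := exists_of_fix σ h2 hm hz
  have hn : (Om (oddQ (F := K) m)).Normal := by rw [Om]; infer_instance
  refine ⟨⟨k * s.1 * k⁻¹, hn.conj_mem _ s.2 k⟩, ?_⟩
  rw [← map_inv, MonoidHom.comp_apply, MonoidHom.comp_apply, ← map_mul, ← map_mul]
  refine congrArg _ (Subtype.ext ?_)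
  show baseIso σ (k * s.1 * k⁻¹) = baseIso σ k * baseIso σ s.1 * (baseIso σ k)⁻¹
  rw [map_mul, map_mul, map_inv]

theorem two_ne_zero_fix (h2 : (2 : F) ≠ 0) : (2 : K) ≠ 0 := fun e => h2 (by
  rw [← map_ofNat (K).subtype 2, e, map_zero])

theorem sq_mem_subO (h2 : (2 : F) ≠ 0) (hm : 3 ≤ m) {z : Cfsg.POmega F ⇑(oddQ (F := F) m)}
    (hz : z ∈ Fix (phiO (m := m) σ)) : z ^ 2 ∈ subO σ := by
  obtain ⟨k, hk, rfl⟩ := exists_of_fix σ h2 hm hz
  obtain ⟨hQ0, -⟩ := big_oddQ (F := K) (two_ne_zero_fix σ h2) hm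
  refine ⟨⟨k * k, sq_mem_commutator hQ0.nd (Or.inr ?_) k⟩, ?_⟩
  · have := hQ0.dim; omega
  rw [pow_two, MonoidHom.comp_apply, ← map_mul]
  refine congrArg _ (Subtype.ext ?_)
  show baseIso σ (k * k) = baseIso σ k * baseIso σ k
  rw [map_mul]

theorem subHom_injective (h2 : (2 : F) ≠ 0) (hm : 3 ≤ m) :
    Function.Injective ((omToPOm F m).comp (baseOm σ)) := fun a b h =>
  Subtype.ext (baseIso_injective σ (congrArg Subtype.val (omToPOm_injective h2 hm h)))

theorem two_dvd_subO (h2 : (2 : F) ≠ 0) (hm : 3 ≤ m) : 2 ∣ Nat.card (subO (m := m) σ) := by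
  obtain ⟨hQ0, -⟩ := big_oddQ (F := K) (two_ne_zero_fix σ h2) hm
  have hm0 : 0 < m := by omega
  classical
  let u : Unit ⊕ (Fin m ⊕ Fin m) → K := Pi.single (Sum.inl ()) 1
  let v : Unit ⊕ (Fin m ⊕ Fin m) → K :=
    Pi.single (Sum.inr (Sum.inl ⟨0, hm0⟩)) 1 + Pi.single (Sum.inr (Sum.inr ⟨0, hm0⟩)) 1
  have hu : oddQ (F := K) m u = 1 := by simp [oddQ_coe, Cfsg.quadFormOdd, u, Pi.single_apply]
  have hv : oddQ (F := K) m v = 1 := by simp [oddQ_coe, Cfsg.quadFormOdd, v, Pi.single_apply]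
  have huv : polar (oddQ (F := K) m) v u = 0 := by
    simp [polar, oddQ_coe, Cfsg.quadFormOdd, u, v, Pi.single_apply]
  set g := refl (oddQ (F := K) m) u * refl (oddQ m) v with hg
  have hmem : g ∈ Om (oddQ (F := K) m) := refl_pair_mem_commutator hQ0.nd (by simp [hu]) (by simp [hv])
    (by rw [hu, hv, mul_one]; exact IsSquare.one)
  have hsq : g * g = 1 := by
    have hc := refl_comm_of_orth (Q := oddQ (F := K) m) (x := u) (y := v) huv
    rw [hg, mul_assoc, ← mul_assoc (refl _ v), ← hc, mul_assoc, refl_mul_self, mul_one, refl_mul_self]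
  have hne : g ≠ 1 := fun e => by
    have h := congrArg (fun t : oGroup (oddQ (F := K) m) => t.1 u) e
    change (refl _ u).1 ((refl _ v).1 u) = u at h
    rw [refl_apply v u, polar_comm, huv, mul_zero, zero_smul, add_zero, refl_self (by simp [hu])] at h
    have h0 := congrFun h (Sum.inl ())
    simp [u] at h0
    exact two_ne_zero_fix σ h2 (by linear_combination -h0)
  have h3 : orderOf (⟨g, hmem⟩ : ↥(Om (oddQ (F := K) m))) = 2 := by
    rw [← Subgroup.orderOf_coe]
    exact orderOf_eq_prime (by rw [pow_two]; exact hsq) hne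
  have h4 : orderOf (((omToPOm F m).comp (baseOm σ)) ⟨g, hmem⟩) = 2 := by
    rw [orderOf_injective _ (subHom_injective σ h2 hm), h3]
  rw [← h4, ← Subgroup.orderOf_mk _ (show _ ∈ subO σ from ⟨_, rfl⟩)]
  exact orderOf_dvd_natCard _

theorem fixO_ne_bot (h2 : (2 : F) ≠ 0) (hm : 3 ≤ m) : Fix (phiO (m := m) σ) ≠ ⊥ := fun h => by
  have h3 := two_dvd_subO (m := m) σ h2 hm
  rw [show subO (m := m) σ = ⊥ from le_bot_iff.mp ((subO_le σ).trans h.le), Subgroup.card_bot] at h3
  exact absurd h3 (by decide)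

theorem subO_normal_bot (h2 : (2 : F) ≠ 0) (hm : 3 ≤ m) {p : ℕ} (hp : p.Prime)
    (hd : p ∣ Nat.card (Fix (phiO (m := m) σ))) (N : Subgroup ↥(subO (m := m) σ)) (hN : N.Normal)
    (hc : (Nat.card N).Coprime p) : N = ⊥ := by
  have hdS : p ∣ Nat.card (subO (m := m) σ) := by
    rcases hp.eq_two_or_odd' with rfl | ho
    · exact two_dvd_subO σ h2 hm
    · haveI : Fact p.Prime := ⟨hp⟩
      haveI := finite_POmega (Q := oddQ (F := F) m)
      obtain ⟨z, hz⟩ := exists_prime_orderOf_dvd_card' p hd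
      have h1 : (z : Cfsg.POmega F ⇑(oddQ (F := F) m)) ∈ subO σ := by
        obtain ⟨i, hi⟩ := ho
        have h3 : (z : Cfsg.POmega F ⇑(oddQ (F := F) m)) = ((z : Cfsg.POmega F ⇑(oddQ (F := F) m)) ^ 2) ^ (i + 1) := by
          rw [← pow_mul, show 2 * (i + 1) = p + 1 by omega, pow_succ, ← hz, ← Subgroup.orderOf_coe,
            pow_orderOf_eq_one, one_mul]
        rw [h3]
        exact pow_mem (sq_mem_subO σ h2 hm z.2) _
      rw [← hz, ← Subgroup.orderOf_coe, ← Subgroup.orderOf_mk _ h1]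
      exact orderOf_dvd_natCard _
  obtain ⟨hQ0, -⟩ := big_oddQ (F := K) (two_ne_zero_fix σ h2) hm
  haveI : IsSimpleGroup (↥(Om (oddQ (F := K) m)) ⧸ Subgroup.center ↥(Om (oddQ (F := K) m))) :=
    isSimpleGroup_omega hQ0.nd hQ0.five
  let e : ↥(subO (m := m) σ) ≃* ↥(Om (oddQ (F := K) m)) ⧸ Subgroup.center ↥(Om (oddQ (F := K) m)) :=
    ((MonoidHom.ofInjective (subHom_injective σ h2 hm)).symm.trans QuotientGroup.quotientBot.symm).trans
      (QuotientGroup.quotientMulEquivOfEq (center_Om_odd (two_ne_zero_fix σ h2) hm).symm)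
  rcases (hN.map e.toMonoidHom e.surjective).eq_bot_or_eq_top with h | h
  · exact (Subgroup.map_eq_bot_iff_of_injective _ e.injective).mp h
  · exfalso
    have hc' : Nat.card (N.map e.toMonoidHom) = Nat.card N := Subgroup.card_map_of_injective e.injective
    rw [h, Subgroup.card_top, ← Nat.card_congr e.toEquiv] at hc'
    exact hp.coprime_iff_not_dvd.mp hc.symm (hc' ▸ hdS)

end CfsgLib.LocalBal
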