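import Cfsg.Agent.LocalBal.OrthFix

/-!
The pointwise stabiliser of `Ω_{2m+1}` over a subfield.
-/

set_option autoImplicit false
set_option linter.unusedSectionVars false

namespace CfsgLib.LocalBal

open QuadraticMap CfsgLib.Forms CfsgLib.Quad CfsgLib.AutPOm Matrix

variable {F : Type*} [Field F] [Finite F] {m : ℕ} (σ : RingAut F)

/-- Coordinate vectors. -/
abbrev eO (i : Fin m) : Unit ⊕ (Fin m ⊕ Fin m) → F := Pi.single (Sum.inr (Sum.inl i)) 1

/-- Coordinate vectors. -/
abbrev fO (i : Fin m) : Unit ⊕ (Fin m ⊕ Fin m) → F := Pi.single (Sum.inr (Sum.inr i)) 1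

/-- The anisotropic coordinate vector. -/
abbrev xO : Unit ⊕ (Fin m ⊕ Fin m) → F := Pi.single (Sum.inl ()) 1

theorem polar_odd (u v : Unit ⊕ (Fin m ⊕ Fin m) → F) :
    polar (oddQ m) u v = 2 * u (Sum.inl ()) * v (Sum.inl ()) +
      ∑ i, (u (Sum.inr (Sum.inl i)) * v (Sum.inr (Sum.inr i)) + v (Sum.inr (Sum.inl i)) * u (Sum.inr (Sum.inr i))) := by
  simp only [polar, oddQ_coe, Cfsg.quadFormOdd, Pi.add_apply, add_mul, mul_add, Finset.sum_add_distrib]
  ring

/-- Coordinates in the fixed field. -/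
def Fixd (v : Unit ⊕ (Fin m ⊕ Fin m) → F) : Prop := ∀ k, σ (v k) = v k

theorem fixd_single (k : Unit ⊕ (Fin m ⊕ Fin m)) {c : F} (hc : σ c = c) : Fixd σ (Pi.single k c) := fun l => by
  rcases eq_or_ne l k with rfl | h <;> simp [*]

theorem Fixd.add {u v : Unit ⊕ (Fin m ⊕ Fin m) → F} (hu : Fixd σ u) (hv : Fixd σ v) : Fixd σ (u + v) := fun k => by
  rw [Pi.add_apply, map_add, hu, hv]

theorem Fixd.sub {u v : Unit ⊕ (Fin m ⊕ Fin m) → F} (hu : Fixd σ u) (hv : Fixd σ v) : Fixd σ (u - v) := fun k => by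
  rw [Pi.sub_apply, map_sub, hu, hv]

theorem Fixd.smul {u : Unit ⊕ (Fin m ⊕ Fin m) → F} (hu : Fixd σ u) {c : F} (hc : σ c = c) : Fixd σ (c • u) :=
  fun k => by rw [Pi.smul_apply, smul_eq_mul, map_mul, hu, hc]

variable (h2 : (2 : F) ≠ 0) (hm : 3 ≤ m) {S : Semi (oddQ (F := F) m)}
  (hS : ∀ s ∈ subO (m := m) σ, pomHom _ S s = s)
include h2 hm hS

theorem comm_siegel {u a : Unit ⊕ (Fin m ⊕ Fin m) → F} (hu : Fixd σ u) (ha : Fixd σ a)
    (hQu : oddQ m u = 0) (hua : polar (oddQ m) u a = 0) {t : F} (ht : σ t = t) (x : Unit ⊕ (Fin m ⊕ Fin m) → F) :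
    S.T ((siegel (oddQ m) u (t • a)).1 x) = (siegel (oddQ m) u (t • a)).1 (S.T x) := by
  obtain ⟨hQ, -⟩ := big_oddQ (F := F) h2 hm
  set b := (t / 2) • a
  have hb : Fixd σ b := ha.smul σ (by rw [map_div₀, ht, map_ofNat])
  have hub : polar (oddQ m) u b = 0 := by rw [polar_smul_right, hua, smul_zero]
  let g : ↥(Om (oddQ (F := F) m)) := ⟨_, siegel_mem_commutator hQ.nd hQ.five hQu hub⟩
  have hz : omToPOm F m g ∈ Fix (phiO (m := m) σ) := by
    rw [mem_Fix, pomHom_omToPOm]
    refine congrArg _ (Subtype.ext ?_)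
    show (cT σ).oEquiv (siegel (oddQ m) u b) = siegel (oddQ m) u b
    rw [Semi.oEquiv_siegel _ hQu hub, coordHom_apply_T, coordHom_apply_T, funext hu, funext hb]
    rw [show (cT (m := m) σ).c = 1 from rfl, inv_one, Units.val_one, one_smul]
  have h3 := hS _ (sq_mem_subO σ h2 hm hz)
  rw [← map_pow, pomHom_omToPOm] at h3
  have h4 := congrArg (fun z : ↥(Om (oddQ (F := F) m)) => z.1) (omToPOm_injective h2 hm h3)
  have hg2 : ((g ^ 2 : ↥(Om (oddQ (F := F) m))) : oGroup (oddQ (F := F) m)) = siegel (oddQ m) u (t • a) := by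
    rw [SubmonoidClass.coe_pow, pow_two]
    show siegel (oddQ m) u b * siegel (oddQ m) u b = _
    haveI : NeZero (2 : F) := ⟨h2⟩
    rw [siegel_mul hQu hub hub, ← add_smul, add_halves]
  simp only [Semi.omEquiv_coe] at h4
  rw [hg2] at h4
  have h5 := congrArg (fun z : oGroup (oddQ (F := F) m) => z.1 (S.T x)) h4
  simp only [Semi.oEquiv_apply, AddEquiv.symm_apply_apply] at h5
  exact h5

theorem pin {u : Unit ⊕ (Fin m ⊕ Fin m) → F} (hu : Fixd σ u) (hQu : oddQ m u = 0) (k : Fin m)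
    (he : u (Sum.inr (Sum.inl k)) = 0) (hf : u (Sum.inr (Sum.inr k)) = 0) : ∃ q : F, S.T u = q • u := by
  classical
  have key : ∀ a x : Unit ⊕ (Fin m ⊕ Fin m) → F, Fixd σ a → oddQ m a = 0 → polar (oddQ m) u a = 0 →
      polar (oddQ m) x u = 0 → polar (oddQ m) x a = 1 → ∃ p q : F, S.T u = q • u - p • a := by
    intro a x ha hQa hua hxu hxa
    have h := comm_siegel σ h2 hm hS hu ha hQu hua (map_one σ) x
    rw [one_smul, siegel_apply hQu hua, siegel_apply hQu hua, hxu, hxa, hQa] at h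
    simp only [zero_mul, add_zero, zero_smul, one_smul] at h
    rw [map_sub] at h
    exact ⟨polar (oddQ m) (S.T x) u, polar (oddQ m) (S.T x) a, by linear_combination (norm := module) -h⟩
  obtain ⟨p, q, h1⟩ := key (eO k) (fO k) (fixd_single σ _ (map_one σ))
    (by simp [oddQ_coe, Cfsg.quadFormOdd, Pi.single_apply])
    (by simp [polar_odd, Pi.single_apply, hf]) (by simp [polar_odd, Pi.single_apply, he])
    (by simp [polar_odd, Pi.single_apply])
  obtain ⟨p', q', h1'⟩ := key (fO k) (eO k) (fixd_single σ _ (map_one σ))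
    (by simp [oddQ_coe, Cfsg.quadFormOdd, Pi.single_apply])
    (by simp [polar_odd, Pi.single_apply, he]) (by simp [polar_odd, Pi.single_apply, hf])
    (by simp [polar_odd, Pi.single_apply])
  have h6 := congrFun (h1.symm.trans h1') (Sum.inr (Sum.inr k))
  simp [hf] at h6
  exact ⟨q', by rw [h1', h6, zero_smul, sub_zero]⟩

theorem exists_scalar : ∃ lam : F, ∀ k : Unit ⊕ (Fin m ⊕ Fin m),
    S.T (Pi.single k 1) = lam • Pi.single k 1 := by
  classical
  have hthird : ∀ i j : Fin m, ∃ k : Fin m, k ≠ i ∧ k ≠ j := fun i j => by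
    by_contra hc
    push Not at hc
    have hsub : (Finset.univ : Finset (Fin m)) ⊆ {i, j} := fun k _ => by
      rcases eq_or_ne k i with e | e
      · simp [e]
      · simp [hc k e]
    have := (Finset.card_le_card hsub).trans Finset.card_le_two
    rw [Finset.card_univ, Fintype.card_fin] at this
    omega
  have hE : ∀ i, ∃ q, S.T (eO i) = q • eO i := fun i => by
    obtain ⟨k, hk, -⟩ := hthird i i
    exact pin σ h2 hm hS (fixd_single σ _ (map_one σ)) (by simp [oddQ_coe, Cfsg.quadFormOdd, Pi.single_apply]) k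
      (by simp [hk]) (by simp)
  have hF : ∀ i, ∃ q, S.T (fO i) = q • fO i := fun i => by
    obtain ⟨k, hk, -⟩ := hthird i i
    exact pin σ h2 hm hS (fixd_single σ _ (map_one σ)) (by simp [oddQ_coe, Cfsg.quadFormOdd, Pi.single_apply]) k
      (by simp) (by simp [hk])
  choose qe hqe using hE
  choose qf hqf using hF
  have hef : ∀ i j, i ≠ j → qe i = qf j := fun i j hij => by
    obtain ⟨k, hki, hkj⟩ := hthird i j
    obtain ⟨q, hq⟩ := pin σ h2 hm hS (u := eO i + fO j)
      ((fixd_single σ _ (map_one σ)).add σ (fixd_single σ _ (map_one σ)))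
      (by simp [oddQ_coe, Cfsg.quadFormOdd, Pi.single_apply, hij, hij.symm]) k (by simp [hki]) (by simp [hkj])
    rw [map_add, hqe, hqf] at hq
    have a := congrFun hq (Sum.inr (Sum.inl i))
    have b := congrFun hq (Sum.inr (Sum.inr j))
    simp at a b
    rw [a, b]
  have h0 : 0 < m := by omega
  set i0 : Fin m := ⟨0, h0⟩
  have hf0 : ∀ i, qf i = qe i0 := fun i => by
    rcases eq_or_ne i i0 with rfl | h
    · obtain ⟨j, hj, -⟩ := hthird i0 i0
      obtain ⟨l, hl1, hl2⟩ := hthird i0 j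
      rw [← hef j i0 hj, hef j l hl2.symm, ← hef i0 l hl1.symm]
    · exact (hef i0 i h.symm).symm
  have he0 : ∀ i, qe i = qe i0 := fun i => by
    obtain ⟨l, hl1, -⟩ := hthird i i
    rw [hef i l hl1.symm, hf0]
  obtain ⟨k, hk, -⟩ := hthird i0 i0
  obtain ⟨q, hq⟩ := pin σ h2 hm hS (u := xO + (eO i0 - fO i0))
    ((fixd_single σ _ (map_one σ)).add σ ((fixd_single σ _ (map_one σ)).sub σ (fixd_single σ _ (map_one σ))))
    (by simp [oddQ_coe, Cfsg.quadFormOdd, Pi.single_apply]) k (by simp [hk]) (by simp [hk])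
  obtain ⟨q', hq'⟩ := pin σ h2 hm hS (u := xO - (eO i0 - fO i0))
    ((fixd_single σ _ (map_one σ)).sub σ ((fixd_single σ _ (map_one σ)).sub σ (fixd_single σ _ (map_one σ))))
    (by simp [oddQ_coe, Cfsg.quadFormOdd, Pi.single_apply]) k (by simp [hk]) (by simp [hk])
  refine ⟨qe i0, ?_⟩
  rintro (⟨⟩ | i | i)
  · rw [map_add, map_sub, hqe, hqf, hf0 i0] at hq
    rw [map_sub, map_sub, hqe, hqf, hf0 i0] at hq'
    have hx : S.T xO = q • xO + (q - qe i0) • (eO i0 - fO i0) := by linear_combination (norm := module) hq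
    have hx' : S.T xO = q' • xO + (qe i0 - q') • (eO i0 - fO i0) := by linear_combination (norm := module) hq'
    have a := congrFun (hx.symm.trans hx') (Sum.inl ())
    have b := congrFun (hx.symm.trans hx') (Sum.inr (Sum.inl i0))
    simp at a b
    have hqq : q = qe i0 := mul_left_cancel₀ h2 (by linear_combination b + a)
    rw [hx, hqq, sub_self, zero_smul, add_zero]
  · exact (hqe i).trans (by rw [he0])
  · exact (hqf i).trans (by rw [hf0])

/-- Only powers of `φ` fix the fixed-field subgroup pointwise. -/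
theorem mem_zpowers_of_fix_subO : pomHom _ S ∈ Subgroup.zpowers (phiO (m := m) σ) := by
  classical
  obtain ⟨lam, hlam⟩ := exists_scalar σ h2 hm hS
  have hT : ∀ v, S.T v = lam • fun k => S.σ (v k) := fun v => by
    conv_lhs => rw [← Finset.univ_sum_single v]
    rw [map_sum]
    have h1 : ∀ k, S.T (Pi.single k (v k)) = lam • Pi.single k (S.σ (v k)) := fun k => by
      rw [show Pi.single k (v k) = v k • (Pi.single k 1 : Unit ⊕ (Fin m ⊕ Fin m) → F) by
        rw [← Pi.single_smul, smul_eq_mul, mul_one], S.smul, hlam, smul_comm, ← Pi.single_smul, smul_eq_mul, mul_one]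
    rw [Finset.sum_congr rfl fun k _ => h1 k, ← Finset.smul_sum, Finset.univ_sum_single]
  have hl0 : lam ≠ 0 := fun e => by
    have h1 := hlam (Sum.inl ())
    rw [e, zero_smul, ← map_zero S.T] at h1
    have := congrFun (S.T.injective h1) (Sum.inl ())
    simp at this
  have h0 : 0 < m := by omega
  obtain ⟨i, j, hij⟩ : ∃ i j : Fin m, i ≠ j := ⟨⟨0, h0⟩, ⟨1, by omega⟩, by simp⟩
  have hρ : ∀ t ∈ CfsgLib.AutPSL.fixField σ, S.σ t = t := fun t ht => by
    have hua : polar (oddQ m) (eO i : Unit ⊕ (Fin m ⊕ Fin m) → F) (eO j) = 0 := by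
      simp [polar_odd, Pi.single_apply]
    have hQu : oddQ m (eO i : Unit ⊕ (Fin m ⊕ Fin m) → F) = 0 := by
      simp [oddQ_coe, Cfsg.quadFormOdd, Pi.single_apply]
    have hQa : oddQ m (eO j : Unit ⊕ (Fin m ⊕ Fin m) → F) = 0 := by
      simp [oddQ_coe, Cfsg.quadFormOdd, Pi.single_apply]
    have hxu : polar (oddQ m) (fO j : Unit ⊕ (Fin m ⊕ Fin m) → F) (eO i) = 0 := by
      simp [polar_odd, Pi.single_apply, hij, hij.symm]
    have hxa : polar (oddQ m) (fO j : Unit ⊕ (Fin m ⊕ Fin m) → F) (eO j) = 1 := by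
      simp [polar_odd, Pi.single_apply]
    have h := comm_siegel σ h2 hm hS (u := eO i) (a := eO j) (fixd_single σ _ (map_one σ))
      (fixd_single σ _ (map_one σ)) hQu hua ((CfsgLib.AutPSL.mem_fixField σ).mp ht) (fO j)
    rw [hlam (Sum.inr (Sum.inr j)), map_smul] at h
    rw [siegel_apply hQu (by rw [polar_smul_right, hua, smul_zero]), polar_smul_right, hxu, hxa, quad_smul, hQa] at h
    simp only [mul_zero, zero_mul, add_zero, zero_smul, smul_eq_mul, mul_one] at h
    rw [map_sub, S.smul, hlam (Sum.inr (Sum.inl i)), hlam (Sum.inr (Sum.inr j))] at h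
    have h6 := congrFun h (Sum.inr (Sum.inl i))
    simp [hl0] at h6
    exact mul_right_cancel₀ hl0 (by linear_combination h6)
  have hc : (S.c : F) = lam * lam := by
    have h1 := S.quad (xO : Unit ⊕ (Fin m ⊕ Fin m) → F)
    rw [hlam, quad_smul, show oddQ m (xO : Unit ⊕ (Fin m ⊕ Fin m) → F) = 1 by
      simp [oddQ_coe, Cfsg.quadFormOdd], map_one, mul_one, mul_one] at h1
    exact h1.symm
  obtain ⟨hQ, -⟩ := big_oddQ (F := F) h2 hm
  have hSeq : S = scalarHom _ (Units.mk0 lam hl0) * coordHom (oddQ_coord m) S.σ := by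
    refine Semi.ext' (RingEquiv.ext fun x => rfl) (fun v => ?_) (Units.ext ?_)
    · rw [hT, Semi.mul_T, coordHom_apply_T]
      rfl
    · rw [Semi.mul_c, hc]
      simp [coordHom, coordSemi, Semi.scalar, scalarHom]
  obtain ⟨n, hn⟩ := mem_zpowers_of_fix hρ
  refine ⟨n, ?_⟩
  rw [hSeq, pomHom_scalar_mul hQ]
  show pomHom _ (cT σ) ^ n = _
  rw [← map_zpow, ← map_zpow, show σ ^ n = S.σ from hn]

end CfsgLib.LocalBal
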