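import Cfsg.Agent.AutPSL.FieldClasses
import Cfsg.Agent.AutPSL.GraphFieldClasses
import Cfsg.Agent.Classical.Transvections
import Cfsg.Agent.LocalBal.Core
import Cfsg.Agent.LocalBal.Field

/-!
Local balance at a field automorphism of `PSL_n`.
-/

set_option autoImplicit false
set_option linter.unusedSectionVars false

open Matrix

namespace CfsgLib.LocalBal

open CfsgLib.AutPSL

variable {F : Type*} [Field F] [Finite F] {n : ℕ} (σ : RingAut F)

local notation "PSLn" => Matrix.ProjectiveSpecialLinearGroup (Fin n) F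
local notation "SLn" => Matrix.SpecialLinearGroup (Fin n) F
local notation "K" => CfsgLib.AutPSL.fixField σ

/-- The standard field automorphism. -/
abbrev phiL : MulAut (Matrix.ProjectiveSpecialLinearGroup (Fin n) F) := semiAut (1 : GL (Fin n) F) σ

/-- `SL_n` over the fixed field, in `SL_n`. -/
noncomputable def slBase : Matrix.SpecialLinearGroup (Fin n) K →* SLn :=
  Matrix.SpecialLinearGroup.map (K).subtype

/-- Its image in `PSL_n`. -/
noncomputable def subL : Subgroup PSLn := ((QuotientGroup.mk' _).comp (slBase σ)).range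

theorem semiFun_one_coe (s : SLn) :
    (semiFun (1 : GL (Fin n) F) σ s : Matrix (Fin n) (Fin n) F) = (s : Matrix (Fin n) (Fin n) F).map σ := by
  rw [coe_semiFun]
  simp

theorem semiFun_slBase (s : Matrix.SpecialLinearGroup (Fin n) K) :
    semiFun (1 : GL (Fin n) F) σ (slBase σ s) = slBase σ s := by
  refine Subtype.ext ?_
  rw [semiFun_one_coe]
  ext a b
  exact (mem_fixField σ).mp ((s : Matrix (Fin n) (Fin n) K) a b).2

theorem exists_slBase {t : SLn} (h : semiFun (1 : GL (Fin n) F) σ t = t) : ∃ s, slBase σ s = t := by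
  have h' := congrArg (fun u : SLn => (u : Matrix (Fin n) (Fin n) F)) h
  simp only [semiFun_one_coe] at h'
  let M : Matrix (Fin n) (Fin n) K := Matrix.of fun a b =>
    ⟨(t : Matrix (Fin n) (Fin n) F) a b, (mem_fixField σ).mpr (congrFun (congrFun h' a) b)⟩
  have hM : M.map (K).subtype = (t : Matrix (Fin n) (Fin n) F) := rfl
  have hdet : M.det = 1 := (K).subtype.injective (by
    rw [(K).subtype.map_det, map_one]
    exact (congrArg Matrix.det hM).trans t.2)
  exact ⟨⟨M, hdet⟩, Subtype.ext hM⟩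

theorem subL_le : subL σ ≤ Fix (phiL (n := n) σ) := by
  rintro _ ⟨s, rfl⟩
  rw [mem_Fix]
  show semiAut _ σ (QuotientGroup.mk (slBase σ s)) = _
  rw [semiAut_mk, semiFun_slBase]
  rfl

theorem exists_centerL {z : PSLn} (hz : z ∈ Fix (phiL (n := n) σ)) :
    ∃ t : SLn, z = QuotientGroup.mk t ∧
      ∃ c ∈ Subgroup.center SLn, semiSL (1 : GL (Fin n) F) σ t = t * c := by
  obtain ⟨t, rfl⟩ := QuotientGroup.mk_surjective z
  rw [mem_Fix] at hz
  refine ⟨t, rfl, _, QuotientGroup.eq.mp (Eq.symm hz), ?_⟩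
  show semiFun _ σ t = _
  rw [mul_inv_cancel_left]
  rfl

theorem subL_normal : ∀ z ∈ Fix (phiL (n := n) σ), ∀ s ∈ subL σ, z * s * z⁻¹ ∈ subL σ := by
  intro z hz _ hs
  obtain ⟨s, rfl⟩ := hs
  obtain ⟨t, rfl, c, hc, ht⟩ := exists_centerL σ hz
  obtain ⟨u, hu⟩ := exists_slBase σ (t := t * slBase σ s * t⁻¹) (by
    show semiSL (1 : GL (Fin n) F) σ (t * slBase σ s * t⁻¹) = t * slBase σ s * t⁻¹
    have hs2 : semiSL (1 : GL (Fin n) F) σ (slBase σ s) = slBase σ s := semiFun_slBase σ s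
    rw [map_mul, map_mul, map_inv, ht, hs2]
    calc t * c * slBase σ s * (t * c)⁻¹ = t * (c * slBase σ s * c⁻¹) * t⁻¹ := by group
      _ = _ := by rw [← Subgroup.mem_center_iff.mp hc, mul_inv_cancel_right])
  exact ⟨u, by simp [hu]⟩

theorem pow_mem_subL {z : PSLn} (hz : z ∈ Fix (phiL (n := n) σ)) : z ^ n ∈ subL σ := by
  obtain ⟨t, rfl, c, hc, ht⟩ := exists_centerL σ hz
  obtain ⟨r, hr, hrc⟩ := Matrix.SpecialLinearGroup.mem_center_iff.mp hc
  have hcn : c ^ n = 1 := by
    refine Subtype.ext ?_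
    rw [Matrix.SpecialLinearGroup.coe_pow, ← hrc, ← map_pow]
    rw [Fintype.card_fin] at hr
    rw [hr, map_one]
    rfl
  obtain ⟨u, hu⟩ := exists_slBase σ (t := t ^ n) (by
    show semiSL (1 : GL (Fin n) F) σ (t ^ n) = t ^ n
    rw [map_pow, ht, (show Commute t c from Subgroup.mem_center_iff.mp hc t).mul_pow, hcn, mul_one])
  exact ⟨u, by simp [hu]⟩

/-- Matrices of signed permutation type. -/
theorem exists_subL_perm (π : Equiv.Perm (Fin n)) (d : Fin n → F)
    (hd : ∀ i, σ (d i) = d i) (hdet : ((π.permMatrix F) * Matrix.diagonal d).det = 1) :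
    ∃ t : SLn, (t : Matrix (Fin n) (Fin n) F) = π.permMatrix F * Matrix.diagonal d ∧
      (QuotientGroup.mk t : PSLn) ∈ subL σ := by
  let t : SLn := ⟨_, hdet⟩
  obtain ⟨u, hu⟩ := exists_slBase σ (t := t) (Subtype.ext (by
    rw [semiFun_one_coe]
    show (π.permMatrix F * Matrix.diagonal d).map σ = _
    ext a b
    simp only [Matrix.map_apply, Matrix.mul_diagonal, map_mul, hd]
    simp [t, Equiv.Perm.permMatrix, PEquiv.toMatrix_apply, Matrix.mul_diagonal]))
  exact ⟨t, rfl, u, by simp [hu]⟩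

theorem phiL_tv_fixed {X : Flag F n} (hp : σ ∘ X.pt = X.pt) (hh : σ ∘ X.hyp = X.hyp) {c : F} (hc : σ c = c) :
    (QuotientGroup.mk (tv X c) : PSLn) ∈ subL σ := by
  obtain ⟨u, hu⟩ := exists_slBase σ (t := tv X c) (Subtype.ext (by
    rw [semiFun_one_coe, coe_tv]
    ext a b
    have h1 : σ (X.pt a) = X.pt a := congrFun hp a
    have h2 : σ (X.hyp b) = X.hyp b := congrFun hh b
    simp [Matrix.one_apply, apply_ite σ, Matrix.vecMulVec_apply, h1, h2, hc]))
  exact ⟨u, by simp [hu]⟩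

/-- Only powers of `φ` fix the fixed-field subgroup pointwise. -/
theorem mem_zpowers_of_fix_subL (hn : 2 ≤ n) (y : MulAut PSLn) (hy : ∀ s ∈ subL σ, y s = s) :
    y ∈ Subgroup.zpowers (phiL (n := n) σ) := by
  classical
  have : NeZero n := ⟨by omega⟩
  have hsingle : ∀ k : Fin n, ∀ τ : RingAut F, τ ∘ (Pi.single k (1 : F) : Fin n → F) = Pi.single k 1 := fun k τ => by
    funext i; rcases eq_or_ne i k with rfl | h <;> simp [*]
  have hfix : ∀ (i j : Fin n) (h : i ≠ j) (c : F), σ c = c →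
      y (QuotientGroup.mk (tv (cFlag i j h) c)) = QuotientGroup.mk (tv (cFlag i j h) c) := fun i j h c hc =>
    hy _ (phiL_tv_fixed σ (hsingle i σ) (hsingle j σ) hc)
  have hsemi : ∃ (g : GL (Fin n) F) (ρ : RingAut F), y = semiAut g ρ := by
    rcases Nat.lt_or_ge n 3 with h3 | h3
    · obtain rfl : n = 2 := by omega
      exact exists_semi_two y
    obtain ⟨g, ρ, h | h⟩ := exists_semi_or_semi_invTrans hn y
    · exact ⟨g, ρ, h⟩
    exfalso
    have hcol : ∀ i j : Fin n, i ≠ j → ∃ a : F,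
        (g : Matrix (Fin n) (Fin n) F) *ᵥ Pi.single j 1 = a • Pi.single i 1 := by
      intro i j hij
      have h1 := hfix i j hij 1 (map_one σ)
      have hit : invTrans (QuotientGroup.mk (tv (cFlag i j hij) 1) : PSLn) =
          QuotientGroup.mk (tv (cFlag i j hij).swap (-1 : F)) := congrArg QuotientGroup.mk (invTransSL_tv _ _)
      rw [h, MulAut.mul_apply, hit, semiAut_mk, semiFun_tv] at h1
      obtain ⟨⟨a, ha⟩, -⟩ := same_of_mem (X := cFlag i j hij) (Y := (cFlag i j hij).swap.semi g ρ)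
        (mk_tv_mem _ 1) (h1 ▸ mk_tv_mem _ _) (mk_tv_ne_one _ one_ne_zero)
      refine ⟨a, ?_⟩
      rw [← hsingle j ρ]
      exact ha
    obtain ⟨i, j, k, hij, hik, hjk⟩ : ∃ i j k : Fin n, i ≠ j ∧ i ≠ k ∧ j ≠ k :=
      ⟨⟨0, by omega⟩, ⟨1, by omega⟩, ⟨2, by omega⟩, by simp, by simp, by simp⟩
    obtain ⟨a, ha⟩ := hcol i j hij
    obtain ⟨b, hb⟩ := hcol i k hik
    have hinv : ∀ v, ((g⁻¹ : GL (Fin n) F) : Matrix (Fin n) (Fin n) F) *ᵥ ((g : Matrix (Fin n) (Fin n) F) *ᵥ v) = v :=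
      fun v => by rw [Matrix.mulVec_mulVec, ← Units.val_mul, inv_mul_cancel, Units.val_one, Matrix.one_mulVec]
    have hja : (Pi.single j 1 : Fin n → F) = a • (((g⁻¹ : GL (Fin n) F) : Matrix (Fin n) (Fin n) F) *ᵥ Pi.single i 1) := by
      rw [← Matrix.mulVec_smul, ← ha, hinv]
    have hkb : (Pi.single k 1 : Fin n → F) = b • (((g⁻¹ : GL (Fin n) F) : Matrix (Fin n) (Fin n) F) *ᵥ Pi.single i 1) := by
      rw [← Matrix.mulVec_smul, ← hb, hinv]
    have hjk' : b • (Pi.single j 1 : Fin n → F) = a • Pi.single k 1 := by rw [hja, hkb, smul_comm]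
    have h2 := congrFun hjk' k
    simp [hjk, hjk.symm] at h2
    rw [← h2, zero_smul] at hja
    simpa using congrFun hja j
  obtain ⟨g, ρ, rfl⟩ := hsemi
  have hcol : ∀ i : Fin n, ∃ a : F, (g : Matrix (Fin n) (Fin n) F) *ᵥ Pi.single i 1 = a • Pi.single i 1 := by
    intro i
    obtain ⟨j, hij⟩ : ∃ j, i ≠ j := by
      by_cases h : i = ⟨0, by omega⟩
      · exact ⟨⟨1, by omega⟩, by simp [h]⟩
      · exact ⟨_, h⟩
    have h1 := hfix i j hij 1 (map_one σ)
    rw [semiAut_mk, semiFun_tv] at h1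
    obtain ⟨⟨a, ha⟩, -⟩ := same_of_mem (X := cFlag i j hij) (Y := (cFlag i j hij).semi g ρ)
      (mk_tv_mem _ 1) (h1 ▸ mk_tv_mem _ _) (mk_tv_ne_one _ one_ne_zero)
    refine ⟨a, ?_⟩
    simp only [Flag.semi, cFlag, hsingle] at ha
    exact ha
  choose a ha using hcol
  have hG : (g : Matrix (Fin n) (Fin n) F) = Matrix.diagonal a := by
    ext i j
    have := congrFun (ha j) i
    rw [Matrix.mulVec_single_one] at this
    rcases eq_or_ne i j with rfl | h <;> simp_all [Matrix.diagonal]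
  obtain ⟨p, hp⟩ := CharP.exists F
  have := Fact.mk (CharP.char_is_prime F p)
  have hpw : ∀ (X : Flag F n) (c : F), semiFun g ρ (tv X c) ^ p = 1 := fun X c => by
    rw [semiFun_tv]; exact tv_pow_prime p _ _
  have heq : ∀ i j, i ≠ j → a i = a j := by
    intro i j hij
    have h1 := hfix i j hij 1 (map_one σ)
    rw [semiAut_mk] at h1
    have h2 := congrArg (fun u : SLn => (u : Matrix (Fin n) (Fin n) F) * (g : Matrix (Fin n) (Fin n) F))
      (eq_of_mk_eq p (hpw _ _) (tv_pow_prime p _ _) h1)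
    simp only [coe_semiFun, Matrix.mul_assoc] at h2
    rw [← Units.val_mul, inv_mul_cancel, Units.val_one, Matrix.mul_one, coe_tv, hG] at h2
    have h3 := congrFun (congrFun h2 i) j
    simpa [cFlag, Matrix.vecMulVec_apply, Matrix.diagonal_mul, Matrix.mul_diagonal, Matrix.one_apply, hij,
      apply_ite ρ] using h3
  set i0 : Fin n := ⟨0, by omega⟩
  have hG' : (g : Matrix (Fin n) (Fin n) F) = a i0 • 1 := by
    rw [hG]
    ext i j
    rcases eq_or_ne i j with rfl | h
    · rcases eq_or_ne i i0 with rfl | h0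
      · simp
      · simp [heq i i0 h0]
    · simp [h]
  have hg1 : ∀ τ : RingAut F, semiAut g τ = semiAut (1 : GL (Fin n) F) τ := fun τ => by
    rw [semiAut_eq_inndiag_mul, semiAut_scalar hG', one_mul]
  rw [hg1] at hfix ⊢
  have hρ : ∀ c ∈ CfsgLib.AutPSL.fixField σ, ρ c = c := by
    intro c hc
    have hij : (i0 : Fin n) ≠ ⟨1, by omega⟩ := by simp [i0]
    have h1 := hfix i0 _ hij c ((mem_fixField σ).mp hc)
    rw [semiAut_mk, semiFun_tv] at h1
    have hX : tv ((cFlag i0 _ hij).semi (1 : GL (Fin n) F) ρ) (ρ c) = tv (cFlag i0 _ hij) (ρ c) := by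
      refine Subtype.ext ?_
      simp only [coe_tv, Flag.semi, cFlag, hsingle, Units.val_one, inv_one, Matrix.one_mulVec, Matrix.vecMul_one]
    rw [hX] at h1
    exact mk_tv_injective _ h1
  obtain ⟨k, hk⟩ := mem_zpowers_of_fix hρ
  refine ⟨k, ?_⟩
  show stdHom n F σ ^ k = stdHom n F ρ
  rw [← map_zpow]
  exact congrArg _ hk

end CfsgLib.LocalBal
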