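import Cfsg.Agent.Classical.SmallPSL
import Cfsg.Agent.LocalBal.PSLField

/-!
The fixed points of a field automorphism of `PSL_n` have no normal `p'`-subgroups.
-/

set_option autoImplicit false
set_option linter.unusedSectionVars false

open Matrix

namespace CfsgLib.LocalBal

open CfsgLib.AutPSL

theorem normal_bot_of_witness {G : Type*} [Group G] {p : ℕ} (hp : p.Prime)
    (h : ∀ n : G, n ≠ 1 → ∃ g : G, (n ^ p = 1) ∨ (g * n * g⁻¹ * n⁻¹ ≠ 1 ∧ (g * n * g⁻¹ * n⁻¹) ^ p = 1))
    (N : Subgroup G) (hN : N.Normal) (hc : (Nat.card N).Coprime p) : N = ⊥ := by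
  have hord : ∀ x ∈ N, x ^ p = 1 → x = 1 := fun x hx hxp => by
    have h1 : orderOf x ∣ Nat.card N := by
      rw [← Subgroup.orderOf_mk x hx]
      exact orderOf_dvd_natCard _
    exact orderOf_eq_one_iff.mp (Nat.eq_one_of_dvd_coprimes hc h1 (orderOf_dvd_of_pow_eq_one hxp))
  rw [eq_bot_iff]
  intro n hn
  rw [Subgroup.mem_bot]
  by_contra hn1
  obtain ⟨g, h | ⟨h1, h2⟩⟩ := h n hn1
  · exact hn1 (hord n hn h)
  · exact h1 (hord _ (mul_mem (hN.conj_mem n hn g) (inv_mem hn)) h2)

theorem witness_perm_three : ∀ n : Equiv.Perm (Fin 3), n ≠ 1 → ∃ g : Equiv.Perm (Fin 3),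
    (n ^ 3 = 1) ∨ (g * n * g⁻¹ * n⁻¹ ≠ 1 ∧ (g * n * g⁻¹ * n⁻¹) ^ 3 = 1) := by
  decide +kernel

theorem witness_alt_four : ∀ n : alternatingGroup (Fin 4), n ≠ 1 → ∃ g : alternatingGroup (Fin 4),
    (n ^ 2 = 1) ∨ (g * n * g⁻¹ * n⁻¹ ≠ 1 ∧ (g * n * g⁻¹ * n⁻¹) ^ 2 = 1) := by
  decide +kernel

theorem normal_bot_of_equiv {G H : Type*} [Group G] [Group H] (e : G ≃* H) {p : ℕ}
    (h : ∀ N : Subgroup G, N.Normal → (Nat.card N).Coprime p → N = ⊥)
    (N : Subgroup H) (hN : N.Normal) (hc : (Nat.card N).Coprime p) : N = ⊥ := by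
  have h1 := h (N.comap e.toMonoidHom) (hN.comap _)
    (Nat.Coprime.coprime_dvd_left (Subgroup.card_comap_dvd_of_injective _ _ e.injective) hc)
  rw [← Subgroup.map_comap_eq_self_of_surjective (f := e.toMonoidHom) e.surjective N, h1, Subgroup.map_bot]

/-- `PSL_n` over any finite field has no nontrivial normal `p'`-subgroup for a non-defining prime dividing
its order. -/
theorem psl_normal_bot {F : Type*} [Field F] [Finite F] {n : ℕ} (hn : 2 ≤ n) {p : ℕ} (hp : p.Prime)
    (hpF : (p : F) ≠ 0) (hd : p ∣ Nat.card (Matrix.ProjectiveSpecialLinearGroup (Fin n) F))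
    (N : Subgroup (Matrix.ProjectiveSpecialLinearGroup (Fin n) F)) (hN : N.Normal)
    (hc : (Nat.card N).Coprime p) : N = ⊥ := by
  classical
  cases nonempty_fintype F
  have : Nontrivial (Fin n) := Fin.nontrivial_iff_two_le.mpr hn
  by_cases hs : 3 ≤ Fintype.card (Fin n) ∨ ∃ x : F, x ≠ 0 ∧ x ^ 2 ≠ 1
  · haveI := CfsgLib.Linear.isSimpleGroup_PSL (ι := Fin n) (F := F) hs
    rcases hN.eq_bot_or_eq_top with h | h
    · exact h
    · rw [h, Subgroup.card_top] at hc
      exact absurd hd (hp.coprime_iff_not_dvd.mp hc.symm)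
  push Not at hs
  obtain ⟨h3, hsq⟩ := hs
  obtain rfl : n = 2 := by rw [Fintype.card_fin] at h3; omega
  have hF : Fintype.card F = 2 ∨ Fintype.card F = 3 := by
    have h1 := Fintype.one_lt_card (α := F)
    by_contra hne
    obtain ⟨x, hx, hx2⟩ := CfsgLib.Linear.Small.exists_sq_ne_one (F := F) (by omega)
    exact hx2 (hsq x hx)
  rcases hF with hF | hF
  · obtain ⟨e⟩ := CfsgLib.Linear.Small.nonempty_sl_two_two (F := F) hF
    haveI : Subsingleton Fˣ := Fintype.card_le_one_iff_subsingleton.mp (by rw [Fintype.card_units, hF])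
    have hbot : Subgroup.center (Matrix.SpecialLinearGroup (Fin 2) F) = ⊥ :=
      Subgroup.eq_bot_of_card_eq _ (by
        rw [CfsgLib.Linear.card_center_SL, Nat.card_eq_fintype_card (α := F), hF]; rfl)
    let E : Equiv.Perm (Fin 3) ≃* Matrix.ProjectiveSpecialLinearGroup (Fin 2) F :=
      e.symm.trans (QuotientGroup.quotientBot.symm.trans (QuotientGroup.quotientMulEquivOfEq hbot.symm))
    have hd6 : p ∣ 6 := by
      rw [← Nat.card_congr E.toEquiv, Nat.card_perm, Nat.card_fin] at hd
      simpa [Nat.factorial] using hd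
    have hchar : CharP F 2 := charP_of_card_eq_prime hF
    have hp3 : p = 3 := by
      have hle := Nat.le_of_dvd (by norm_num) hd6
      interval_cases p <;> first | rfl | omega | exact absurd (CharP.cast_eq_zero F 2) hpF | (exfalso; norm_num at hp; done)
    subst hp3
    exact normal_bot_of_equiv E (fun M hM hMc => normal_bot_of_witness hp witness_perm_three M hM hMc) N hN hc
  · obtain ⟨e⟩ := CfsgLib.Linear.Small.nonempty_psl_two_three (F := F) hF
    have hd12 : p ∣ 12 := by
      rw [Nat.card_congr e.toEquiv, Nat.card_eq_fintype_card] at hd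
      have h12 : Fintype.card (alternatingGroup (Fin 4)) = 12 := by decide +kernel
      rwa [h12] at hd
    haveI : Fact (Nat.Prime 3) := ⟨Nat.prime_three⟩
    have hchar : CharP F 3 := charP_of_card_eq_prime hF
    have hp2 : p = 2 := by
      have hle := Nat.le_of_dvd (by norm_num) hd12
      interval_cases p <;> first | rfl | omega | exact absurd (CharP.cast_eq_zero F 3) hpF | (exfalso; norm_num at hp; done)
    subst hp2
    exact normal_bot_of_equiv e.symm (fun M hM hMc => normal_bot_of_witness hp witness_alt_four M hM hMc) N hN hc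

variable {F : Type*} [Field F] [Finite F] {n : ℕ} (σ : RingAut F)

local notation "PSLn" => Matrix.ProjectiveSpecialLinearGroup (Fin n) F
local notation "SLn" => Matrix.SpecialLinearGroup (Fin n) F
local notation "K" => CfsgLib.AutPSL.fixField σ

theorem nonempty_subL_equiv (hn : 2 ≤ n) :
    Nonempty (Matrix.ProjectiveSpecialLinearGroup (Fin n) K ≃* ↥(subL (n := n) σ)) := by
  classical
  have : NeZero n := ⟨by omega⟩
  let π : Matrix.SpecialLinearGroup (Fin n) K →* PSLn := (QuotientGroup.mk' _).comp (slBase σ)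
  have hk : π.ker = Subgroup.center (Matrix.SpecialLinearGroup (Fin n) K) := by
    ext s
    rw [MonoidHom.mem_ker]
    show (QuotientGroup.mk (slBase σ s) : PSLn) = 1 ↔ _
    rw [QuotientGroup.eq_one_iff, Matrix.SpecialLinearGroup.mem_center_iff, Matrix.SpecialLinearGroup.mem_center_iff,
      Fintype.card_fin]
    constructor
    · rintro ⟨r, hr, hrs⟩
      have h0 := congrFun (congrFun hrs 0) 0
      simp [slBase, Matrix.scalar_apply] at h0
      refine ⟨(s : Matrix (Fin n) (Fin n) K) 0 0, (K).subtype.injective (by rw [map_pow, map_one]; rw [h0] at hr; exact hr), ?_⟩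
      ext a b
      have hab := congrFun (congrFun hrs a) b
      simp [slBase, Matrix.scalar_apply] at hab
      rcases eq_or_ne a b with rfl | h
      · simp at hab
        simp [← h0, ← hab]
      · simp [h] at hab
        simp [h, ← hab]
    · rintro ⟨r, hr, hrs⟩
      refine ⟨(K).subtype r, by rw [← map_pow, hr, map_one], ?_⟩
      ext a b
      have hab := congrFun (congrFun hrs a) b
      simp [slBase, Matrix.scalar_apply] at hab ⊢
      rcases eq_or_ne a b with rfl | h <;> simp [*] at hab ⊢ <;> rw [← hab] <;> simp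
  exact ⟨(QuotientGroup.quotientMulEquivOfEq hk).symm.trans (QuotientGroup.quotientKerEquivRange π)⟩

theorem two_dvd_of_w {t : SLn} {d : Fin n → F} (i j : Fin n) (hij : i ≠ j)
    (ht : (t : Matrix (Fin n) (Fin n) F) = (Equiv.swap i j).permMatrix F * Matrix.diagonal d)
    (hd : ∀ k, d k = if k = j then -1 else 1) (hn2 : n = 2) (hmem : (QuotientGroup.mk t : PSLn) ∈ subL σ) :
    2 ∣ Nat.card (subL (n := n) σ) := by
  classical
  subst hn2
  have h2 : (QuotientGroup.mk t : Matrix.ProjectiveSpecialLinearGroup (Fin 2) F) ^ 2 = 1 := by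
    rw [← QuotientGroup.mk_pow, QuotientGroup.eq_one_iff, Matrix.SpecialLinearGroup.mem_center_iff]
    refine ⟨-1, by simp, ?_⟩
    rw [Matrix.SpecialLinearGroup.coe_pow, pow_two, ht]
    ext a b
    simp only [Matrix.scalar_apply, Matrix.diagonal_apply, Matrix.mul_apply, Fin.sum_univ_two,
      Equiv.Perm.permMatrix, PEquiv.toMatrix_apply, Equiv.toPEquiv_apply, Option.mem_some_iff, hd]
    fin_cases i <;> fin_cases j <;> first | exact absurd rfl hij | (fin_cases a <;> fin_cases b <;> simp)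
  have h1 : (QuotientGroup.mk t : Matrix.ProjectiveSpecialLinearGroup (Fin 2) F) ≠ 1 := by
    rw [ne_eq, QuotientGroup.eq_one_iff, Matrix.SpecialLinearGroup.mem_center_iff]
    rintro ⟨r, hr, hrs⟩
    rw [ht] at hrs
    have h := congrFun (congrFun hrs i) j
    simp [Matrix.scalar_apply, hij, Equiv.Perm.permMatrix, PEquiv.toMatrix_apply, hd] at h
  have h3 := orderOf_dvd_natCard (G := ↥(subL (n := 2) σ)) ⟨_, hmem⟩
  have h4 : orderOf (⟨_, hmem⟩ : ↥(subL (n := 2) σ)) =
      orderOf (QuotientGroup.mk t : Matrix.ProjectiveSpecialLinearGroup (Fin 2) F) :=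
    (orderOf_injective (subL (n := 2) σ).subtype Subtype.val_injective _).symm
  rw [h4, orderOf_eq_prime h2 h1] at h3
  exact h3

theorem alt_dvd_subL (hn : 2 ≤ n) : Nat.card (alternatingGroup (Fin n)) ∣ Nat.card (subL (n := n) σ) := by
  classical
  have hdet : ∀ π : alternatingGroup (Fin n), ((π : Equiv.Perm (Fin n))⁻¹.permMatrix K).det = 1 := fun π => by
    have h : Equiv.Perm.sign (π : Equiv.Perm (Fin n)) = 1 := π.2
    rw [Matrix.det_permutation, map_inv, h, inv_one]
    norm_num
  let f : alternatingGroup (Fin n) →* Matrix.SpecialLinearGroup (Fin n) K :=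
    { toFun := fun π => ⟨_, hdet π⟩
      map_one' := Subtype.ext (by simp)
      map_mul' := fun a b => Subtype.ext (by
        show Equiv.Perm.permMatrix K ((a * b : alternatingGroup (Fin n)) : Equiv.Perm (Fin n))⁻¹ =
          (a : Equiv.Perm (Fin n))⁻¹.permMatrix K * (b : Equiv.Perm (Fin n))⁻¹.permMatrix K
        rw [Subgroup.coe_mul, _root_.mul_inv_rev, Matrix.permMatrix_mul]) }
  obtain ⟨e⟩ := nonempty_subL_equiv (n := n) σ hn
  rw [← Nat.card_congr e.toEquiv]
  refine Subgroup.card_dvd_of_injective ((QuotientGroup.mk' _).comp f) ?_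
  rw [← MonoidHom.ker_eq_bot_iff, eq_bot_iff]
  intro π hπ
  rw [MonoidHom.mem_ker] at hπ
  rw [Subgroup.mem_bot]
  obtain ⟨r, hr, hrs⟩ := Matrix.SpecialLinearGroup.mem_center_iff.mp ((QuotientGroup.eq_one_iff _).mp hπ)
  refine inv_injective (Subtype.ext (Equiv.ext fun a => ?_))
  by_contra hne
  have h := congrFun (congrFun hrs a) ((π : Equiv.Perm (Fin n))⁻¹ a)
  simp only [Subgroup.coe_inv, Subgroup.coe_one, inv_one, Equiv.Perm.one_apply] at hne
  have h1 : ((f π : Matrix.SpecialLinearGroup (Fin n) K) : Matrix (Fin n) (Fin n) K) a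
      ((π : Equiv.Perm (Fin n))⁻¹ a) = 1 := by
    show Equiv.Perm.permMatrix K (π : Equiv.Perm (Fin n))⁻¹ a _ = 1
    simp [Equiv.Perm.permMatrix, PEquiv.toMatrix_apply]
  rw [Matrix.scalar_apply, h1, Matrix.diagonal_apply_ne _ (fun he => hne he.symm)] at h
  exact zero_ne_one h

theorem dvd_subL (hn : 2 ≤ n) {p : ℕ} (hp : p.Prime) (hd : p ∣ Nat.card (Fix (phiL (n := n) σ))) :
    p ∣ Nat.card (subL (n := n) σ) := by
  classical
  haveI : Fact p.Prime := ⟨hp⟩
  have : Nontrivial (Fin n) := Fin.nontrivial_iff_two_le.mpr hn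
  by_cases hpn : p ∣ n
  · have hle : p ≤ n := Nat.le_of_dvd (by omega) hpn
    by_cases h4 : 4 ≤ n ∨ p ≠ 2
    · have halt : p ∣ Nat.card (alternatingGroup (Fin n)) := by
        have h2 := two_mul_nat_card_alternatingGroup (α := Fin n)
        rw [Nat.card_perm, Nat.card_fin] at h2
        rcases hp.eq_two_or_odd with rfl | ho
        · have h24 : 4 ≤ n := by omega
          have : 4 ∣ n.factorial := (Nat.dvd_factorial (by norm_num) h24)
          omega
        · have h3 : p ∣ 2 * Nat.card (alternatingGroup (Fin n)) := h2 ▸ hp.dvd_factorial.mpr hle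
          exact (hp.dvd_mul.mp h3).resolve_left fun h => by
            have := Nat.le_of_dvd (by norm_num) h
            have := hp.two_le
            omega
      exact halt.trans (alt_dvd_subL σ hn)
    · push Not at h4
      obtain ⟨h4, rfl⟩ := h4
      have hn2 : n = 2 := by omega
      subst hn2
      let d : Fin 2 → F := fun k => if k = 1 then -1 else 1
      obtain ⟨t, ht, hmem⟩ := exists_subL_perm σ (Equiv.swap (0 : Fin 2) 1) d
        (fun k => by simp only [d]; split_ifs <;> simp)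
        (by rw [Matrix.det_mul, Matrix.det_permutation, Matrix.det_diagonal]
            simp [d, Fin.prod_univ_two])
      exact two_dvd_of_w σ 0 1 (by simp) ht (fun k => rfl) rfl hmem
  · obtain ⟨z, hz⟩ := exists_prime_orderOf_dvd_card' p hd
    have h1 : ((z : PSLn) ^ n) ∈ subL σ := pow_mem_subL σ z.2
    have h2 : orderOf ((z : PSLn) ^ n) = p := by
      rw [orderOf_pow, Subgroup.orderOf_coe, hz, (hp.coprime_iff_not_dvd.mpr hpn).gcd_eq_one, Nat.div_one]
    rw [← h2, ← Subgroup.orderOf_mk _ h1]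
    exact orderOf_dvd_natCard _

theorem fixL_ne_bot (hn : 2 ≤ n) : Fix (phiL (n := n) σ) ≠ ⊥ := by
  intro h
  have hij : (⟨0, by omega⟩ : Fin n) ≠ ⟨1, by omega⟩ := by simp
  have hmem := subL_le σ (phiL_tv_fixed σ (X := cFlag _ _ hij) (c := 1)
    (by funext i; by_cases hi : i = ⟨0, by omega⟩ <;> simp [cFlag, hi])
    (by funext i; by_cases hi : i = ⟨1, by omega⟩ <;> simp [cFlag, hi]) (map_one σ))
  rw [h, Subgroup.mem_bot] at hmem
  exact mk_tv_ne_one _ one_ne_zero hmem

/-- The criterion's hypothesis on normal `p'`-subgroups. -/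
theorem subL_normal_bot (hn : 2 ≤ n) {p : ℕ} (hp : p.Prime) (hpF : (p : F) ≠ 0)
    (hd : p ∣ Nat.card (Fix (phiL (n := n) σ))) (N : Subgroup ↥(subL (n := n) σ)) (hN : N.Normal)
    (hc : (Nat.card N).Coprime p) : N = ⊥ := by
  obtain ⟨e⟩ := nonempty_subL_equiv (n := n) σ hn
  refine normal_bot_of_equiv e (fun M hM hMc => psl_normal_bot hn hp (fun h => hpF ?_) ?_ M hM hMc) N hN hc
  · rw [← map_natCast (K).subtype, h, map_zero]
  · rw [Nat.card_congr e.toEquiv]
    exact dvd_subL σ hn hp hd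

end CfsgLib.LocalBal
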