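import Cfsg.Agent.LocalBal.SesqGroup
import Cfsg.Agent.Classical.SymplecticSimple
import Cfsg.Agent.GraphInv.Models

/-!
Odd normal subgroups of symplectic groups, and semilinear maps fixing them.
-/

set_option autoImplicit false
set_option linter.unusedSectionVars false
set_option linter.style.haveILetI false

open Matrix

namespace CfsgLib.LocalBal

variable {F : Type*} [Field F] [Finite F] {m : ℕ}

theorem map_one_aut {κ : Type} (M : Matrix κ κ F) : M.map (1 : RingAut F) = M := by ext; rfl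

theorem mem_uGrp_J {g : GL (Fin m ⊕ Fin m) F} :
    g ∈ uGrp (1 : RingAut F) (Matrix.J (Fin m) F) ↔ g ∈ CfsgLib.GraphInv.isoGroup (Matrix.J (Fin m) F) := by
  rw [mem_uGrp, map_one_aut, CfsgLib.GraphInv.mem_isoGroup]

theorem clean_J (h2 : (2 : F) ≠ 0) (hm : 2 ≤ m) : Clean (1 : RingAut F) (Matrix.J (Fin m) F) := by
  classical
  intro L hle hn ho a ha
  have : NeZero m := ⟨by omega⟩
  haveI := CfsgLib.Symp.isSimpleGroup_quot (l := Fin m) (F := F)
    (Or.inr (Or.inl ⟨by rwa [Fintype.card_fin], h2⟩))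
  let e := CfsgLib.GraphInv.spEquiv (F := F) (m := m)
  let ψ : Matrix.symplecticGroup (Fin m) F →* GL (Fin m ⊕ Fin m) F :=
    (CfsgLib.GraphInv.isoGroup (Matrix.J (Fin m) F)).subtype.comp e.toMonoidHom
  have hψ : ∀ g, ψ g ∈ uGrp (1 : RingAut F) (Matrix.J (Fin m) F) := fun g => mem_uGrp_J.mpr (e g).2
  set π := QuotientGroup.mk' (Subgroup.center (Matrix.symplecticGroup (Fin m) F))
  have hsurj : Function.Surjective π := QuotientGroup.mk'_surjective _
  have hLn : (L.comap ψ).Normal := ⟨fun x hx y => by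
    show ψ (y * x * y⁻¹) ∈ L
    rw [map_mul, map_mul, map_inv]
    exact hn _ (hψ y) _ hx⟩
  set N := (L.comap ψ).map π
  haveI hN : N.Normal := Subgroup.Normal.map hLn π hsurj
  have hker : ∀ g, IsSc (ψ g) → π g = 1 := by
    intro g hg
    rw [QuotientGroup.mk'_apply, QuotientGroup.eq_one_iff, Subgroup.mem_center_iff]
    intro y
    refine e.injective (Subtype.ext ?_)
    rw [map_mul, map_mul]
    exact (hg.commute (ψ y)).eq.symm
  rcases hN.eq_bot_or_eq_top with hbot | htop
  · have hg : π (e.symm ⟨a, mem_uGrp_J.mp (hle ha)⟩) = 1 := by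
      refine Subgroup.mem_bot.mp (hbot ▸ Subgroup.mem_map_of_mem π ?_)
      show (e (e.symm ⟨a, _⟩) : GL (Fin m ⊕ Fin m) F) ∈ L
      rw [e.apply_symm_apply]; exact ha
    rw [QuotientGroup.mk'_apply, QuotientGroup.eq_one_iff, CfsgLib.Symp.mem_center_iff] at hg
    rcases hg with h | h
    · exact ⟨1, by rw [one_smul]; exact h⟩
    · exact ⟨-1, by rw [neg_one_smul]; exact h⟩
  · exfalso
    let w : Matrix.symplecticGroup (Fin m) F := ⟨Matrix.J (Fin m) F, SymplecticGroup.J_mem _ _⟩
    have hw : π w ∈ N := htop ▸ Subgroup.mem_top _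
    obtain ⟨g, hg, hgw⟩ := hw
    obtain ⟨k, ⟨j, rfl⟩, hk⟩ := ho _ hg
    have h1 : π g ^ (2 * j + 1) = 1 := by rw [← map_pow]; exact hker _ (by rw [map_pow]; exact hk)
    have hw2 : π w ^ 2 = 1 := by
      rw [← map_pow, QuotientGroup.mk'_apply, QuotientGroup.eq_one_iff, CfsgLib.Symp.mem_center_iff]
      refine Or.inr ?_
      rw [pow_two]
      exact Matrix.J_squared _ _
    rw [hgw, pow_succ, pow_mul, hw2, one_pow, one_mul, QuotientGroup.mk'_apply, QuotientGroup.eq_one_iff,
      CfsgLib.Symp.mem_center_iff] at h1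
    let i : Fin m := ⟨0, by omega⟩
    rcases h1 with h | h
    · have := congrFun (congrFun h (Sum.inl i)) (Sum.inr i)
      simp [w, Matrix.J] at this
    · have := congrFun (congrFun h (Sum.inl i)) (Sum.inr i)
      simp [w, Matrix.J] at this

/-- A semilinear map fixing the symplectic group modulo scalars is trivial. -/
theorem link_sp (hm : 1 ≤ m) {σ τ : RingAut F} {h : GL (Fin m ⊕ Fin m) F}
    (H : ∀ g ∈ uGrp (1 : RingAut F) (Matrix.J (Fin m) F),
      (g : Matrix (Fin m ⊕ Fin m) (Fin m ⊕ Fin m) F).map σ = (g : Matrix (Fin m ⊕ Fin m) (Fin m ⊕ Fin m) F) →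
      (g : Matrix (Fin m ⊕ Fin m) (Fin m ⊕ Fin m) F).det = 1 →
      ∃ c : F, (h : Matrix (Fin m ⊕ Fin m) (Fin m ⊕ Fin m) F) * (g : Matrix (Fin m ⊕ Fin m) (Fin m ⊕ Fin m) F).map τ =
        c • ((g : Matrix (Fin m ⊕ Fin m) (Fin m ⊕ Fin m) F) * (h : Matrix (Fin m ⊕ Fin m) (Fin m ⊕ Fin m) F))) :
    IsSc h ∧ ∀ t, σ t = t → τ t = t := by
  classical
  set M := (h : Matrix (Fin m ⊕ Fin m) (Fin m ⊕ Fin m) F)
  -- unipotent elements are fixed exactly
  have key : ∀ X : Matrix (Fin m ⊕ Fin m) (Fin m ⊕ Fin m) F, X * X = 0 → (∀ a, X a a = 0) →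
      X.map σ = X → ∀ (hX : 1 + X ∈ Matrix.symplecticGroup (Fin m) F), M * X.map τ = X * M := by
    intro X hXX hX0 hXσ hX
    let g : GL (Fin m ⊕ Fin m) F := (CfsgLib.GraphInv.spEquiv ⟨1 + X, hX⟩ : GL (Fin m ⊕ Fin m) F)
    obtain ⟨c, hc⟩ := H g (mem_uGrp_J.mpr (CfsgLib.GraphInv.spEquiv ⟨1 + X, hX⟩).2)
      (by rw [show (g : Matrix (Fin m ⊕ Fin m) (Fin m ⊕ Fin m) F) = 1 + X from rfl, Matrix.map_add _ (map_add σ),
        Matrix.map_one _ (map_zero σ) (map_one σ), hXσ])
      (SymplecticGroup.det_eq_one hX)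
    rw [show (g : Matrix (Fin m ⊕ Fin m) (Fin m ⊕ Fin m) F) = 1 + X from rfl] at hc
    have e1 : (1 + X).map τ = 1 + X.map τ := by
      rw [Matrix.map_add _ (map_add τ), Matrix.map_one _ (map_zero τ) (map_one τ)]
    have hXX' : X.map τ * X.map τ = 0 := by rw [← Matrix.map_mul, hXX]; simp
    rw [e1, mul_add, mul_one, add_mul, one_mul, smul_add] at hc
    -- the difference is nilpotent
    set Y := (c - 1) • (1 : Matrix (Fin m ⊕ Fin m) (Fin m ⊕ Fin m) F) + c • X with hY
    have hYM : M * X.map τ = Y * M := by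
      rw [hY, add_mul, smul_mul_assoc, one_mul, smul_mul_assoc, sub_smul, one_smul]
      linear_combination (norm := abel) hc
    have hYY : Y * Y = 0 := by
      have h0 : Y * Y * M = 0 := by
        rw [mul_assoc, ← hYM, ← mul_assoc, ← hYM, mul_assoc, hXX', mul_zero]
      obtain ⟨U, hU⟩ := h.isUnit
      rw [show M = (U : Matrix _ _ F) from hU.symm] at h0
      exact (Units.mul_left_eq_zero U).mp h0
    have hc1 : c = 1 := by
      let i : Fin m ⊕ Fin m := Sum.inl ⟨0, by omega⟩
      have h0 := congrFun (congrFun hYY i) i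
      rw [hY, add_mul, mul_add, mul_add, smul_mul_smul_comm, smul_mul_smul_comm, smul_mul_smul_comm,
        smul_mul_smul_comm, one_mul, one_mul, mul_one, hXX] at h0
      simp [hX0] at h0
      linear_combination h0
    rw [hYM, hY, hc1, sub_self, zero_smul, zero_add, one_smul]
  set A := M.toBlocks₁₁
  set B := M.toBlocks₁₂
  set C := M.toBlocks₂₁
  set D := M.toBlocks₂₂
  have hM : M = Matrix.fromBlocks A B C D := (Matrix.fromBlocks_toBlocks M).symm
  have hup : ∀ S : Matrix (Fin m) (Fin m) F, Sᵀ = S → S.map σ = S → A * S.map τ = S * D ∧ 0 = S * C ∧ C * S.map τ = 0 := by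
    intro S hS hSσ
    have := key (Matrix.fromBlocks 0 S 0 0) (by simp [Matrix.fromBlocks_multiply])
      (fun a => by rcases a with a | a <;> simp)
      (by simp [Matrix.fromBlocks_map, Matrix.map_zero _ (map_zero σ), *])
      (by rw [← Matrix.fromBlocks_one, Matrix.fromBlocks_add, SymplecticGroup.fromBlocks_mem_iff]; simp [hS])
    rw [hM, Matrix.fromBlocks_map, Matrix.map_zero _ (map_zero τ), Matrix.fromBlocks_multiply,
      Matrix.fromBlocks_multiply, Matrix.fromBlocks_inj] at this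
    simp at this
    exact ⟨this.2.1, this.1, this.2.2⟩
  have hlow : B = 0 := by
    have := key (Matrix.fromBlocks 0 0 1 0) (by simp [Matrix.fromBlocks_multiply])
      (fun a => by rcases a with a | a <;> simp)
      (by simp [Matrix.fromBlocks_map, Matrix.map_zero _ (map_zero σ), *])
      (by rw [← Matrix.fromBlocks_one, Matrix.fromBlocks_add, SymplecticGroup.fromBlocks_mem_iff]; simp)
    rw [hM, Matrix.fromBlocks_map, Matrix.map_zero _ (map_zero τ), Matrix.map_one _ (map_zero τ) (map_one τ),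
      Matrix.fromBlocks_multiply, Matrix.fromBlocks_multiply, Matrix.fromBlocks_inj] at this
    simp at this
    exact this.1
  obtain ⟨hAD, hC, -⟩ := hup 1 (Matrix.transpose_one) (Matrix.map_one _ (map_zero σ) (map_one σ))
  rw [Matrix.map_one _ (map_zero τ) (map_one τ), mul_one, one_mul] at hAD
  rw [one_mul] at hC
  have hA : ∀ S : Matrix (Fin m) (Fin m) F, Sᵀ = S → S.map σ = S → A * S.map τ = S * A := fun S hS hSσ => by
    rw [(hup S hS hSσ).1, ← hAD]
  let i0 : Fin m := ⟨0, by omega⟩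
  have hdet : A.det ≠ 0 := by
    intro h0
    apply Matrix.GeneralLinearGroup.det_ne_zero h
    show M.det = 0
    rw [hM, hlow, Matrix.det_fromBlocks_zero₁₂, h0, zero_mul]
  have hoff : ∀ i k : Fin m, i ≠ k → A i k = 0 := fun i k hik => by
    have := congrFun (congrFun (hA (Matrix.single k k 1) (by simp)
      (by ext a b; simp [Matrix.single_apply, apply_ite σ])) i) k
    simpa [Matrix.mul_apply, Matrix.single_apply, hik.symm, apply_ite τ] using this
  have hne : ∀ k, A k k ≠ 0 := fun k hk => hdet (Matrix.det_eq_zero_of_row_eq_zero k fun j => by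
    rcases eq_or_ne k j with rfl | hj
    · exact hk
    · exact hoff k j hj)
  have hτ : ∀ t, σ t = t → τ t = t := fun t ht => by
    have := congrFun (congrFun (hA (Matrix.single i0 i0 t) (by simp)
      (by ext a b; simp [Matrix.single_apply, apply_ite σ, ht])) i0) i0
    simp [Matrix.mul_apply, Matrix.single_apply, apply_ite τ] at this
    exact mul_left_cancel₀ (hne i0) (by linear_combination this)
  refine ⟨⟨A i0 i0, ?_⟩, hτ⟩
  have hAeq : ∀ k, A k k = A i0 i0 := fun k => by
    rcases eq_or_ne k i0 with rfl | hk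
    · rfl
    have := congrFun (congrFun (hA (Matrix.single k i0 1 + Matrix.single i0 k 1) (by
      simp [Matrix.transpose_add, add_comm]) (by
      ext a b; simp [Matrix.single_apply, apply_ite σ])) k) i0
    rw [Matrix.map_add _ (map_add τ), Matrix.map_single, Matrix.map_single, map_one] at this
    simpa [Matrix.mul_apply, Matrix.single_apply, hk, hk.symm, Finset.sum_add_distrib] using this
  have hAs : A = A i0 i0 • 1 := by
    ext i j
    rcases eq_or_ne i j with rfl | hij
    · simp [hAeq i]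
    · simp [hij, hoff i j hij]
  show M = A i0 i0 • 1
  rw [hM, hlow, ← hC, ← hAD, ← Matrix.fromBlocks_one, Matrix.fromBlocks_smul, smul_zero, ← hAs]

end CfsgLib.LocalBal
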