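import Cfsg.Agent.LocalBal.DiagBase
import Cfsg.Agent.LocalBal.DiagLink
import Cfsg.Agent.LocalBal.SpClean
import Cfsg.Agent.LocalBal.OddCore
import Cfsg.Agent.GraphInv.PSL
import Cfsg.Agent.Solvable.Basics
import Cfsg.Agent.Fusion.Homocyclic.Main

/-!
Local balance at twisted involutions of `PSL_n`.
-/

set_option autoImplicit false
set_option linter.unusedSectionVars false
set_option linter.style.haveILetI false

open Matrix

namespace CfsgLib.LocalBal

open CfsgLib.AutPSL

variable {F : Type*} [Field F] [Finite F] {n : ℕ}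

local notation "PSLn" => Matrix.ProjectiveSpecialLinearGroup (Fin n) F
local notation "Mat" => Matrix (Fin n) (Fin n) F

/-- The twisted automorphism attached to `S` and `σ`. -/
def twistAut (S : GL (Fin n) F) (σ : RingAut F) : MulAut PSLn := semiAut S⁻¹ σ * invTrans

/-- Absence of semilinear stabilisers. -/
def Linked (σ : RingAut F) (S : Mat) : Prop :=
  ∀ (h : GL (Fin n) F) (τ : RingAut F) (m : ℕ), Odd m → τ ^ m = 1 → IsSc (twistProd τ h m) →
    Fixes σ S h τ → IsSc h ∧ τ = 1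

theorem twistAut_mk (S : GL (Fin n) F) (σ : RingAut F) (s : Matrix.SpecialLinearGroup (Fin n) F) :
    twistAut S σ (QuotientGroup.mk s) = QuotientGroup.mk (semiFun S⁻¹ σ (invTransSL s)) := rfl

theorem coe_twist (S : GL (Fin n) F) (σ : RingAut F) (s : Matrix.SpecialLinearGroup (Fin n) F) :
    ((semiFun S⁻¹ σ (invTransSL s) : Matrix.SpecialLinearGroup (Fin n) F) : Mat) =
      ((S⁻¹ : GL (Fin n) F) : Mat) * ((((Matrix.SpecialLinearGroup.toGL s)⁻¹ : GL (Fin n) F) : Mat)ᵀ.map σ) *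
        (S : Mat) := by
  rw [coe_semiFun, inv_inv, ← map_inv Matrix.SpecialLinearGroup.toGL]
  rfl

theorem uGrp_rel {σ : RingAut F} {S g : GL (Fin n) F} (hg : g ∈ uGrp σ (S : Mat)) :
    (S : Mat) * (g : Mat) = (((g⁻¹ : GL (Fin n) F) : Mat)ᵀ.map σ) * (S : Mat) := by
  have h1 : (((g⁻¹ : GL (Fin n) F) : Mat)ᵀ.map σ) * ((g : Mat).map σ)ᵀ = 1 := by
    rw [Matrix.transpose_map, ← Matrix.transpose_map (M := (g : Mat)), ← Matrix.transpose_map, ← Matrix.map_mul,
      ← Matrix.transpose_mul, g.mul_inv, Matrix.transpose_one, Matrix.map_one _ (map_zero σ) (map_one σ)]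
  conv_rhs => rw [← (show ((g : Mat).map σ)ᵀ * (S : Mat) * (g : Mat) = S from hg)]
  rw [← mul_assoc, ← mul_assoc, h1, one_mul]

theorem mem_Fix_of_uGrp {σ : RingAut F} {S : GL (Fin n) F} {s : Matrix.SpecialLinearGroup (Fin n) F}
    (hs : Matrix.SpecialLinearGroup.toGL s ∈ uGrp σ (S : Mat)) :
    (QuotientGroup.mk s : PSLn) ∈ Fix (twistAut S σ) := by
  rw [mem_Fix, twistAut_mk]
  refine congrArg _ (Subtype.ext ?_)
  rw [coe_twist, mul_assoc, ← uGrp_rel hs, ← mul_assoc, S.inv_mul, one_mul]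
  rfl

theorem exists_mult_of_Fix {σ : RingAut F} {S : GL (Fin n) F} {s : Matrix.SpecialLinearGroup (Fin n) F}
    (hs : (QuotientGroup.mk s : PSLn) ∈ Fix (twistAut S σ)) :
    ∃ c : F, ((s : Mat).map σ)ᵀ * (S : Mat) * (s : Mat) = c • (S : Mat) := by
  rw [mem_Fix, twistAut_mk] at hs
  obtain ⟨r, -, hr⟩ := Matrix.SpecialLinearGroup.mem_center_iff.mp (QuotientGroup.eq.mp hs.symm)
  rw [Matrix.scalar_apply, ← Matrix.smul_one_eq_diagonal] at hr
  have h1 : ((semiFun S⁻¹ σ (invTransSL s) : Matrix.SpecialLinearGroup (Fin n) F) : Mat) = r • (s : Mat) := by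
    have e := congrArg (fun M => (s : Mat) * M) hr
    simp only [mul_smul_comm, mul_one] at e
    rw [e, ← Matrix.SpecialLinearGroup.coe_mul, mul_inv_cancel_left]
  rw [coe_twist] at h1
  set g := Matrix.SpecialLinearGroup.toGL s
  have hg : (g : Mat) = (s : Mat) := rfl
  rw [← hg] at h1 ⊢
  have h2 := congrArg (fun M => ((g : Mat).map σ)ᵀ * ((S : Mat) * M)) h1
  simp only [← mul_assoc, mul_smul_comm] at h2
  rw [mul_assoc ((g : Mat).map σ)ᵀ (S : Mat) _, S.mul_inv, mul_one, Matrix.transpose_map (M := ((g⁻¹ : GL (Fin n) F) : Mat)),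
    ← Matrix.transpose_mul, ← Matrix.map_mul, g.inv_mul, Matrix.map_one _ (map_zero σ) (map_one σ),
    Matrix.transpose_one, one_mul] at h2
  rcases eq_or_ne r 0 with rfl | hr0
  · rw [zero_smul] at h2
    exact ⟨0, by
      have hS : (S : Mat) = 0 := h2
      simp [hS]⟩
  refine ⟨r⁻¹, ?_⟩
  conv_rhs => rw [h2]
  rw [smul_smul, inv_mul_cancel₀ hr0, one_smul]

theorem semiAut_commute {σ : RingAut F} {S g : GL (Fin n) F} (hg : g ∈ uGrp σ (S : Mat)) :
    semiAut g (RingEquiv.refl F) * twistAut S σ = twistAut S σ * semiAut g (RingEquiv.refl F) := by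
  rw [twistAut, mul_assoc _ invTrans, invTrans_mul_semiAut, ← mul_assoc, ← mul_assoc]
  show semiAut g (1 : RingAut F) * semiAut S⁻¹ σ * invTrans =
    semiAut S⁻¹ σ * semiAut (dualGL g) (1 : RingAut F) * invTrans
  rw [semiAut_mul', semiAut_mul', glMap_one_aut, mul_one, one_mul]
  congr 2
  rw [eq_inv_mul_iff_mul_eq, ← mul_assoc, mul_inv_eq_iff_eq_mul]
  exact Units.ext (uGrp_rel hg)

theorem twist_core_fix (hn : 2 ≤ n) {σ : RingAut F} {S : GL (Fin n) F} (hclean : Clean σ (S : Mat))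
    (hc : ∀ (s : Matrix.SpecialLinearGroup (Fin n) F) (c : F),
      ((s : Mat).map σ)ᵀ * (S : Mat) * (s : Mat) = c • (S : Mat) → σ c = c) :
    Cfsg.pPrimeCore 2 ↥(Fix (twistAut S σ)) = ⊥ := by
  classical
  have : NeZero n := ⟨by omega⟩
  set x := twistAut S σ
  set M := Cfsg.pPrimeCore 2 ↥(Fix x)
  haveI hMc : M.Characteristic := CfsgLib.Homocyclic.pPrimeCore_char
  have hcop : (Nat.card M).Coprime 2 := CfsgLib.Solvable.coprime_card_pPrimeCore 2
  have hodd : ∀ m ∈ M, ∃ k, Odd k ∧ m ^ k = 1 := fun m hm =>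
    ⟨Nat.card M, Nat.coprime_two_right.mp hcop, congrArg Subtype.val (pow_card_eq_one' (x := (⟨m, hm⟩ : M)))⟩
  let θ : ↥(Fix x) →* MulAut PSLn := MulAut.conj.comp (Fix x).subtype
  let L : Subgroup (GL (Fin n) F) := uGrp σ (S : Mat) ⊓ (M.map θ).comap (innDiagHom n F)
  have hL : ∀ a ∈ L, IsSc a := by
    refine hclean L inf_le_left ?_ ?_
    · rintro g hg a ⟨ha, m, hm, hma⟩
      refine Subgroup.mem_inf.mpr ⟨mul_mem (mul_mem hg ha) (inv_mem hg), ?_⟩
      set G := innDiagHom n F g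
      have hG : G * x = x * G := semiAut_commute hg
      have hGfix : ∀ k ∈ Fix x, G k ∈ Fix x := fun k hk => by
        have := MulEquiv.congr_fun hG k
        rw [MulAut.mul_apply, MulAut.mul_apply, mem_Fix.mp hk] at this
        exact this.symm
      have hGfix' : ∀ k ∈ Fix x, G⁻¹ k ∈ Fix x := fun k hk => by
        have h' : G⁻¹ * x = x * G⁻¹ := by
          rw [inv_mul_eq_iff_eq_mul, ← mul_assoc, hG, mul_inv_cancel_right]
        have := MulEquiv.congr_fun h' k
        rw [MulAut.mul_apply, MulAut.mul_apply, mem_Fix.mp hk] at this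
        exact this.symm
      let e : ↥(Fix x) ≃* ↥(Fix x) :=
        { toFun := fun k => ⟨G (k : PSLn), hGfix _ k.2⟩
          invFun := fun k => ⟨G⁻¹ (k : PSLn), hGfix' _ k.2⟩
          left_inv := fun k => Subtype.ext (by simp)
          right_inv := fun k => Subtype.ext (by simp)
          map_mul' := fun a b => Subtype.ext (map_mul G _ _) }
      refine ⟨e m, ?_, ?_⟩
      · have := Subgroup.characteristic_iff_map_eq.mp hMc e
        rw [← this]
        exact ⟨m, hm, rfl⟩
      · show MulAut.conj (G (m : PSLn)) = innDiagHom n F (g * a * g⁻¹)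
        rw [map_mul, map_mul, map_inv, ← hma]
        show _ = G * MulAut.conj (m : PSLn) * G⁻¹
        rw [mul_conj_eq, mul_inv_cancel_right]
    · rintro a ⟨-, m, hm, hma⟩
      obtain ⟨k, hk, hmk⟩ := hodd m hm
      refine ⟨k, hk, (semiAut_eq_one hn (σ := RingEquiv.refl F) ?_).2⟩
      show innDiagHom n F (a ^ k) = 1
      rw [map_pow, ← hma, ← map_pow, hmk, map_one]
  rw [eq_bot_iff]
  intro m hm
  obtain ⟨s, hs⟩ := QuotientGroup.mk_surjective (m : PSLn)
  obtain ⟨c, hcs⟩ := exists_mult_of_Fix (S := S) (σ := σ) (s := s) (by rw [hs]; exact m.2)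
  obtain ⟨k, ⟨j, rfl⟩, hmk⟩ := hodd m hm
  have hsk : (QuotientGroup.mk (s ^ (2 * j + 1)) : PSLn) = 1 := by
    rw [QuotientGroup.mk_pow, hs]; exact congrArg Subtype.val hmk
  obtain ⟨z, -, hz⟩ := Matrix.SpecialLinearGroup.mem_center_iff.mp ((QuotientGroup.eq_one_iff _).mp hsk)
  have hpow : ∀ i, (((s ^ i : Matrix.SpecialLinearGroup (Fin n) F) : Mat).map σ)ᵀ * (S : Mat) *
      ((s ^ i : Matrix.SpecialLinearGroup (Fin n) F) : Mat) = c ^ i • (S : Mat) := by
    intro i
    induction i with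
    | zero => simp [Matrix.map_one]
    | succ i ih =>
      rw [pow_succ, Matrix.SpecialLinearGroup.coe_mul, Matrix.map_mul, Matrix.transpose_mul]
      calc _ = ((s : Mat).map σ)ᵀ * ((((s ^ i : Matrix.SpecialLinearGroup (Fin n) F) : Mat).map σ)ᵀ * (S : Mat) *
            ((s ^ i : Matrix.SpecialLinearGroup (Fin n) F) : Mat)) * (s : Mat) := by simp only [mul_assoc]
        _ = _ := by rw [ih, mul_smul_comm, smul_mul_assoc, hcs, smul_smul, ← pow_succ]
  have hck : c ^ (2 * j + 1) = σ z * z := by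
    have h := hpow (2 * j + 1)
    rw [← hz, Matrix.scalar_apply, Matrix.diagonal_map (map_zero σ), Matrix.diagonal_transpose,
      ← Matrix.smul_one_eq_diagonal, ← Matrix.smul_one_eq_diagonal, smul_mul_assoc, one_mul, mul_smul_comm,
      mul_one, smul_smul] at h
    have hS : (S : Mat) ≠ 0 := fun e => Matrix.GeneralLinearGroup.det_ne_zero S (by rw [e, Matrix.det_zero])
    rw [smul_left_injective F hS |>.eq_iff] at h
    rw [← h]; ring
  have hz0 : z ≠ 0 := fun e => by
    have h := (s ^ (2 * j + 1)).2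
    rw [← hz, e, Matrix.scalar_apply, Matrix.det_diagonal] at h
    simp [zero_pow (NeZero.ne n)] at h
  have hc0 : c ≠ 0 := fun e => by
    rw [e, zero_pow (by omega)] at hck
    rcases mul_eq_zero.mp hck.symm with h | h
    · exact hz0 ((map_eq_zero σ).mp h)
    · exact hz0 h
  set l := z / c ^ (j + 1) with hl
  have hl0 : l ≠ 0 := div_ne_zero hz0 (pow_ne_zero _ hc0)
  have hnorm : σ l * l * c = 1 := by
    rw [hl, map_div₀, map_pow, hc s c hcs, div_mul_div_comm, ← hck, ← pow_add, div_mul_eq_mul_div, ← pow_succ,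
      show 2 * j + 1 + 1 = j + 1 + (j + 1) by ring, div_self (pow_ne_zero _ hc0)]
  set a : GL (Fin n) F := Matrix.SpecialLinearGroup.toGL s * Matrix.GeneralLinearGroup.scalar (Fin n) (Units.mk0 l hl0)
  have ha : semiAut a (RingEquiv.refl F) = MulAut.conj (m : PSLn) := by
    rw [semiAut_mul_scalar, semiAut_toGL, hs]
  have hamem : a ∈ L := by
    refine ⟨?_, m, hm, ha.symm⟩
    have hav : (a : Mat) = l • (s : Mat) := by
      show (s : Mat) * ((Matrix.GeneralLinearGroup.scalar (Fin n) (Units.mk0 l hl0) : GL (Fin n) F) : Mat) = _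
      rw [show ((Matrix.GeneralLinearGroup.scalar (Fin n) (Units.mk0 l hl0) : GL (Fin n) F) : Mat) = l • 1 from by
        ext p q; rcases eq_or_ne p q with rfl | h <;> simp [*], mul_smul_comm, mul_one]
    show ((a : Mat).map σ)ᵀ * (S : Mat) * (a : Mat) = S
    rw [hav, show (l • (s : Mat)).map σ = σ l • (s : Mat).map σ from by ext p q; simp, Matrix.transpose_smul,
      smul_mul_assoc, smul_mul_assoc, mul_smul_comm, smul_smul, hcs, smul_smul, hnorm, one_smul]
  obtain ⟨d, hd⟩ := hL a hamem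
  rw [semiAut_scalar hd, ← map_one MulAut.conj] at ha
  exact Subgroup.mem_bot.mpr (Subtype.ext (conjL_injective hn ha).symm)

theorem twist_stab (hn : 3 ≤ n) {σ : RingAut F} {S : GL (Fin n) F} (hlink : Linked σ (S : Mat))
    (y : MulAut PSLn) (hy : ∀ k ∈ Fix (twistAut S σ), y k = k) (hord : (orderOf y).Coprime 2) : y = 1 := by
  classical
  obtain ⟨j, hj⟩ := Nat.coprime_two_right.mp hord
  obtain ⟨h, τ, hyh⟩ : ∃ (h : GL (Fin n) F) (τ : RingAut F), y = semiAut h τ := by
    obtain ⟨g, ρ, h1 | h1⟩ := exists_semi_or_semi_invTrans (by omega) y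
    · exact ⟨g, ρ, h1⟩
    · have h2 : y = (y ^ 2) ^ (j + 1) := by
        rw [← pow_mul, show 2 * (j + 1) = orderOf y + 1 by omega, pow_succ, pow_orderOf_eq_one, one_mul]
      rw [h1, pow_two, semiAut_graph_mul, semiAut_pow, ← h1] at h2
      exact ⟨_, _, h2⟩
  subst hyh
  have h1 := pow_orderOf_eq_one (semiAut h τ)
  rw [semiAut_pow] at h1
  obtain ⟨hτ, hP⟩ := semiAut_eq_one (by omega) h1
  have hfixes : Fixes σ (S : Mat) h τ := by
    intro g hg _ hdet
    let s : Matrix.SpecialLinearGroup (Fin n) F := ⟨(g : Mat), hdet⟩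
    have hsg : Matrix.SpecialLinearGroup.toGL s = g := Units.ext rfl
    have hk := hy _ (mem_Fix_of_uGrp (s := s) (by rw [hsg]; exact hg))
    rw [semiAut_mk] at hk
    obtain ⟨r, -, hr⟩ := Matrix.SpecialLinearGroup.mem_center_iff.mp (QuotientGroup.eq.mp hk.symm)
    rw [Matrix.scalar_apply, ← Matrix.smul_one_eq_diagonal] at hr
    refine ⟨r, ?_⟩
    have e := congrArg (fun M => (s : Mat) * M * (h : Mat)) hr
    simp only [mul_smul_comm, smul_mul_assoc, mul_one] at e
    rw [show (g : Mat) = (s : Mat) from rfl, e, ← Matrix.SpecialLinearGroup.coe_mul, mul_inv_cancel_left, coe_semiFun,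
      mul_assoc _ ((h⁻¹ : GL (Fin n) F) : Mat), h.inv_mul, mul_one]
  obtain ⟨⟨c, hc⟩, rfl⟩ := hlink h τ _ ⟨j, hj⟩ hτ hP hfixes
  exact semiAut_scalar hc

theorem twist_core (hn : 3 ≤ n) (A : Subgroup (MulAut PSLn)) (hinn : ∀ k : PSLn, MulAut.conj k ∈ A)
    {σ : RingAut F} {S : GL (Fin n) F} (hclean : Clean σ (S : Mat)) (hlink : Linked σ (S : Mat))
    (hc : ∀ (s : Matrix.SpecialLinearGroup (Fin n) F) (c : F),
      ((s : Mat).map σ)ᵀ * (S : Mat) * (s : Mat) = c • (S : Mat) → σ c = c)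
    (g x : MulAut PSLn) (hx : x = g * twistAut S σ * g⁻¹) :
    Cfsg.pPrimeCore 2 ↥(A ⊓ Subgroup.centralizer {x}) = ⊥ :=
  core_eq_bot_conj (conjL_injective (by omega)) A hinn g _ x hx (twist_core_fix (by omega) hclean hc)
    fun y _ hy hord => twist_stab hn hlink y hy hord

/-- `O_{2'}` of the centraliser of a twisted involution is trivial. -/
theorem twisted_core (h2 : (2 : F) ≠ 0) (hn : 3 ≤ n) (A : Subgroup (MulAut PSLn))
    (hinn : ∀ k : PSLn, MulAut.conj k ∈ A) (g : GL (Fin n) F) (σ : RingAut F)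
    (hord : orderOf (semiAut g σ * invTrans) = 2) :
    Cfsg.pPrimeCore 2 ↥(A ⊓ Subgroup.centralizer {semiAut g σ * invTrans}) = ⊥ := by
  classical
  obtain ⟨k, rfl⟩ : ∃ k, n = k + 1 := ⟨n - 1, by omega⟩
  have hsq : (semiAut g σ * invTrans) ^ 2 = 1 := hord ▸ pow_orderOf_eq_one _
  have hσ2 : σ ^ 2 = 1 := by
    have h := hsq
    rw [pow_two, semiAut_graph_mul] at h
    rw [pow_two]
    exact (semiAut_eq_one (by omega) h).1
  by_cases hσ : σ = 1
  · subst hσ
    have hg : semiAut g (1 : RingAut F) * invTrans = CfsgLib.GraphInv.graphAut g⁻¹ := by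
      rw [CfsgLib.GraphInv.graphAut, inv_inv]; rfl
    rw [hg] at hord ⊢
    have hS := (CfsgLib.GraphInv.orderOf_graphAut hn g⁻¹).mp hord
    have hconj : ∀ T : GL (Fin (k + 1)) F,
        CfsgLib.GraphInv.Cong ((g⁻¹ : GL (Fin (k + 1)) F) : Matrix (Fin (k + 1)) (Fin (k + 1)) F) (T : Matrix (Fin (k + 1)) (Fin (k + 1)) F) →
        ∃ u : MulAut (Matrix.ProjectiveSpecialLinearGroup (Fin (k + 1)) F),
          CfsgLib.GraphInv.graphAut g⁻¹ = u * twistAut T (1 : RingAut F) * u⁻¹ := by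
      rintro T ⟨P, c, hP⟩
      have h := (CfsgLib.GraphInv.conj_eq_iff hn P⁻¹ g⁻¹ T).mpr ⟨c, by rwa [inv_inv]⟩
      refine ⟨(semiAut P⁻¹ (RingEquiv.refl F))⁻¹, ?_⟩
      show _ = _ * CfsgLib.GraphInv.graphAut T * _
      rw [← h]
      group
    have hσc : ∀ (T : Matrix (Fin (k + 1)) (Fin (k + 1)) F) (s : Matrix.SpecialLinearGroup (Fin (k + 1)) F) (c : F),
        ((s : Matrix (Fin (k + 1)) (Fin (k + 1)) F).map (1 : RingAut F))ᵀ * T * (s : Matrix (Fin (k + 1)) (Fin (k + 1)) F) = c • T → (1 : RingAut F) c = c :=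
      fun T s c _ => rfl
    rcases hS.2 with hsym | hskew
    · cases nonempty_fintype F
      obtain ⟨α, hα⟩ := FiniteField.exists_nonsquare (F := F) (by
        intro hchar
        have := ringChar.charP F
        rw [hchar] at this
        exact h2 (CharTwo.two_eq_zero))
      obtain ⟨P, δ, hδ, hP⟩ := CfsgLib.GraphInv.exists_diag h2 hα hsym hS.1 (Fin.last k)
      have hδ0 : δ ≠ 0 := by
        rcases hδ with rfl | rfl
        · exact one_ne_zero
        · rintro rfl; exact hα (IsSquare.zero)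
      have hd : ∀ j, Function.update (1 : Fin (k + 1) → F) (Fin.last k) δ j ≠ 0 := fun j => by
        rcases eq_or_ne j (Fin.last k) with rfl | hj
        · rwa [Function.update_self]
        · rw [Function.update_of_ne hj]; exact one_ne_zero
      let T : GL (Fin (k + 1)) F := Matrix.GeneralLinearGroup.mkOfDetNeZero
        (Matrix.diagonal (Function.update 1 (Fin.last k) δ))
        (by rw [Matrix.det_diagonal]; exact Finset.prod_ne_zero_iff.mpr fun j _ => hd j)
      obtain ⟨u, hu⟩ := hconj T ⟨P, 1, by rw [Units.val_one, one_smul]; exact hP⟩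
      exact twist_core hn A hinn (S := T) (clean_sym h2 hn hd)
        (fun h τ m hm hτm hPm hf => link_diag h2 (by omega) (one_pow 2) hδ0 rfl hm hτm hPm hf)
        (hσc _) u _ hu
    · have halt := CfsgLib.GraphInv.isAltM_of_skew h2 hskew
      have heven : ¬ Odd (k + 1) := fun ho => hS.1 (CfsgLib.GraphInv.det_eq_zero_of_alt_odd halt (by simpa using ho))
      obtain ⟨m, hm⟩ : ∃ m, k + 1 = m + m := Nat.not_odd_iff_even.mp heven
      let e : Fin (k + 1) ≃ Fin m ⊕ Fin m := (finCongr hm).trans finSumFinEquiv.symm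
      set S' := Matrix.reindex e e ((g⁻¹ : GL (Fin (k + 1)) F) : Matrix (Fin (k + 1)) (Fin (k + 1)) F)
      obtain ⟨P, c, hP⟩ : CfsgLib.GraphInv.Cong S' (Matrix.J (Fin m) F) := by
        refine CfsgLib.GraphInv.cong_alt ⟨?_, fun i => halt.2 _⟩ ?_
        · rw [Matrix.transpose_reindex, hskew]; rfl
        · rw [Matrix.det_reindex_self]; exact hS.1
      let ρ := CfsgLib.GraphInv.glReindex F e
      let T : GL (Fin (k + 1)) F := ρ.symm (Matrix.GeneralLinearGroup.mkOfDetNeZero (Matrix.J (Fin m) F)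
        (by rw [CfsgLib.GraphInv.det_J_one]; exact one_ne_zero))
      have hT : Matrix.reindex e e (T : Matrix (Fin (k + 1)) (Fin (k + 1)) F) = Matrix.J (Fin m) F :=
        congrArg Units.val (ρ.apply_symm_apply _)
      have hcong : CfsgLib.GraphInv.Cong ((g⁻¹ : GL (Fin (k + 1)) F) : Matrix (Fin (k + 1)) (Fin (k + 1)) F) (T : Matrix (Fin (k + 1)) (Fin (k + 1)) F) := by
        refine ⟨ρ.symm P, c, (Matrix.reindex e e).injective ?_⟩
        rw [CfsgLib.GraphInv.reindex_mul, CfsgLib.GraphInv.reindex_mul, ← Matrix.transpose_reindex,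
          CfsgLib.GraphInv.reindex_smul, hT,
          show Matrix.reindex e e ((ρ.symm P : GL (Fin (k + 1)) F) : Matrix (Fin (k + 1)) (Fin (k + 1)) F) = P from
            congrArg Units.val (ρ.apply_symm_apply P)]
        exact hP
      obtain ⟨u, hu⟩ := hconj T hcong
      have hmem : ∀ a : GL (Fin (k + 1)) F, ρ a ∈ uGrp (1 : RingAut F) (Matrix.J (Fin m) F) ↔
          a ∈ uGrp (1 : RingAut F) (T : Matrix (Fin (k + 1)) (Fin (k + 1)) F) := by
        intro a
        rw [mem_uGrp, mem_uGrp, map_one_aut, map_one_aut,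
          show ((ρ a : GL (Fin m ⊕ Fin m) F) : Matrix (Fin m ⊕ Fin m) (Fin m ⊕ Fin m) F) = Matrix.reindex e e (a : Matrix (Fin (k + 1)) (Fin (k + 1)) F) from rfl,
          Matrix.transpose_reindex, ← hT, ← CfsgLib.GraphInv.reindex_mul, ← CfsgLib.GraphInv.reindex_mul]
        exact (Matrix.reindex e e).injective.eq_iff
      have hsc : ∀ a : GL (Fin (k + 1)) F, IsSc (ρ a) ↔ IsSc a := by
        intro a
        refine exists_congr fun x => ?_
        rw [show ((ρ a : GL (Fin m ⊕ Fin m) F) : Matrix (Fin m ⊕ Fin m) (Fin m ⊕ Fin m) F) = Matrix.reindex e e (a : Matrix (Fin (k + 1)) (Fin (k + 1)) F) from rfl,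
          ← (Matrix.reindex e e).injective.eq_iff (b := x • (1 : Matrix (Fin (k + 1)) (Fin (k + 1)) F)),
          CfsgLib.GraphInv.reindex_smul]
        simp
      refine twist_core hn A hinn (S := T) (Clean.of_equiv ρ hmem hsc (clean_J h2 (by omega))) ?_ (hσc _) u _ hu
      intro h τ m' _ _ _ hf
      have hl := link_sp (m := m) (by omega) (σ := 1) (τ := τ) (h := ρ h) (fun b hb _ hdet => by
        obtain ⟨c', hc'⟩ := hf (ρ.symm b) ((hmem _).mp (by rwa [ρ.apply_symm_apply])) (map_one_aut _) (by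
          rw [← Matrix.det_reindex_self e, show Matrix.reindex e e ((ρ.symm b : GL (Fin (k + 1)) F) : Matrix (Fin (k + 1)) (Fin (k + 1)) F) = b
            from congrArg Units.val (ρ.apply_symm_apply b)]
          exact hdet)
        refine ⟨c', ?_⟩
        have e1 := congrArg (Matrix.reindex e e) hc'
        rw [CfsgLib.GraphInv.reindex_mul, CfsgLib.GraphInv.reindex_smul, CfsgLib.GraphInv.reindex_mul] at e1
        have hb' : Matrix.reindex e e ((ρ.symm b : GL (Fin (k + 1)) F) : Matrix (Fin (k + 1)) (Fin (k + 1)) F) = b :=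
          congrArg Units.val (ρ.apply_symm_apply b)
        rw [hb', show Matrix.reindex e e (((ρ.symm b : GL (Fin (k + 1)) F) : Matrix (Fin (k + 1)) (Fin (k + 1)) F).map τ) =
          (b : Matrix (Fin m ⊕ Fin m) (Fin m ⊕ Fin m) F).map τ from by rw [← hb']; rfl] at e1
        exact e1)
      exact ⟨(hsc h).mp hl.1, RingEquiv.ext fun t => hl.2 t rfl⟩
  · obtain ⟨u, hu⟩ := exists_conj_graph (by omega) hσ hσ2 hsq
    have hone : ((1 : GL (Fin (k + 1)) F) : Matrix (Fin (k + 1)) (Fin (k + 1)) F) = Matrix.diagonal fun _ : Fin (k + 1) => (1 : F) := by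
      rw [Units.val_one, Matrix.diagonal_one]
    have hupd : (Function.update (1 : Fin (k + 1) → F) (Fin.last k) 1) = fun _ => (1 : F) :=
      Function.update_eq_self _ _
    refine twist_core hn A hinn (S := (1 : GL (Fin (k + 1)) F)) (σ := σ) (by rw [hone]; exact clean_herm h2 hσ hσ2 (by omega))
      (fun h τ m hm hτm hPm hf => link_diag h2 (by omega) hσ2 one_ne_zero (map_one σ) hm hτm hPm
        (by rw [hupd, ← hone]; exact hf)) ?_ (semiAut u (RingEquiv.refl F)) _ (by rw [twistAut, inv_one]; exact hu)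
    intro s c hsc
    rw [Units.val_one, mul_one] at hsc
    have h00 := congrFun (congrFun hsc 0) 0
    have hσσ : ∀ z, σ (σ z) = z := by
      have h' : σ * σ = 1 := by rw [← pow_two]; exact hσ2
      exact fun z => RingEquiv.congr_fun h' z
    simp [Matrix.mul_apply] at h00
    rw [← h00, map_sum]
    exact Finset.sum_congr rfl fun i _ => by rw [map_mul, hσσ, mul_comm]

end CfsgLib.LocalBal
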