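import Cfsg.Agent.AutPSU.Classes
import Cfsg.Agent.Unitary.ThreeTwo
import Cfsg.Agent.LocalBal.Core
import Cfsg.Agent.LocalBal.Field
import Cfsg.Agent.Solvable.Basics

/-!
Local balance at a field automorphism of `PSU_n`.
-/

set_option autoImplicit false
set_option linter.unusedSectionVars false
set_option linter.style.haveILetI false

open Matrix

namespace CfsgLib.LocalBal

open CfsgLib.Unitary CfsgLib.AutPSU

local notation "hf" => Cfsg.hermForm _ _

section Simple

variable {F : Type*} [Field F] [Finite F] {q n : ℕ} (hF : Nat.card F = q ^ 2)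
include hF

theorem psu_normal_bot (hn : 3 ≤ n) {p : ℕ} (hp : p.Prime) (hp2 : p ≠ 2)
    (hd : p ∣ Nat.card (Cfsg.PSU n F q)) (M : Subgroup (Cfsg.PSU n F q)) (hM : M.Normal)
    (hc : (Nat.card M).Coprime p) : M = ⊥ := by
  classical
  by_cases h32 : n = 3 ∧ q = 2
  · obtain ⟨rfl, rfl⟩ := h32
    letI := Fintype.ofFinite F
    obtain ⟨N, hN, hN9, hN3, ⟨e⟩, h72, -⟩ := psu32_structure (F := F) hF
    obtain rfl : p = 3 := by
      rw [h72] at hd
      have h : p ∣ 2 ^ 3 * 3 ^ 2 := by norm_num; exact hd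
      rcases hp.dvd_mul.mp h with h' | h'
      · exact absurd ((Nat.prime_dvd_prime_iff_eq hp Nat.prime_two).mp (hp.dvd_of_dvd_pow h')) hp2
      · exact (Nat.prime_dvd_prime_iff_eq hp Nat.prime_three).mp (hp.dvd_of_dvd_pow h')
    by_contra hne
    obtain ⟨k, hk⟩ : ∃ k, Nat.card M = 2 ^ k := by
      have h1 : Nat.card M ∣ 2 ^ 3 * 3 ^ 2 := (Subgroup.card_subgroup_dvd_card M).trans (by rw [h72]; norm_num)
      obtain ⟨k, -, hk⟩ := (Nat.dvd_prime_pow Nat.prime_two).mp ((hc.pow_right 2).dvd_of_dvd_mul_right h1)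
      exact ⟨k, hk⟩
    haveI : Fact (Nat.Prime 2) := ⟨Nat.prime_two⟩
    have hd2 : 2 ∣ Nat.card M := by
      rw [hk]
      refine dvd_pow_self 2 fun h0 => hne ?_
      exact Subgroup.eq_bot_of_card_eq M (by rw [hk, h0, pow_zero])
    obtain ⟨s, hs⟩ := exists_prime_orderOf_dvd_card' 2 hd2
    -- two different transvections
    obtain ⟨c, hc0, hcs⟩ : ∃ c : F, c ≠ 0 ∧ c + c ^ 2 = 0 := ⟨1, one_ne_zero, by
      rw [one_pow]; exact (by norm_num : (1 : F) + 1 = 2).trans (two_eq_zero' (F := F) hF)⟩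
    have htwo : ∀ v : Fin 3 → F, ∀ hv : Cfsg.hermForm 3 F 2 v v = 0, v ≠ 0 →
        (QuotientGroup.mk (suTv 3 v c hv hcs hF) : Cfsg.PSU 3 F 2) = (s : Cfsg.PSU 3 F 2) := by
      intro v hv hv0
      set t : Cfsg.PSU 3 F 2 := QuotientGroup.mk (suTv 3 v c hv hcs hF)
      have ht : t ^ 2 = 1 := by
        obtain ⟨s', hs', hs''⟩ := eichMat_pow hF hv (hf_zero_left v) c 2
        have h2 : (suTv 3 v c hv hcs hF) ^ 2 = 1 := suMat_inj (by
          rw [suMat_pow, show suMat (suTv 3 v c hv hcs hF) = eichMat 2 v 0 c from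
              (eichMat_zero v c (q_ne_zero hF)).symm, hs', hs'' rfl, smul_zero, Nat.cast_ofNat,
            two_eq_zero' (F := F) hF, zero_mul, eichMat_zero v 0 (q_ne_zero hF), utv_zero, suMat_one])
        rw [← QuotientGroup.mk_pow, h2]
        rfl
      have ht1 : t ≠ 1 := by
        intro h
        have h' := mk_utv_eq hF (u := v) (v := v) (c := c) (d := 0) (by norm_num) hv hv
          (A := suTv 3 v c hv hcs hF) (B := 1) rfl (by rw [utv_zero]; rfl) h
        exact hc0 (utv_injective hF hv0 h')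
      set H := M ⊔ Subgroup.zpowers t
      have hH : ∃ i, Nat.card H = 2 ^ i := by
        have h1 : Nat.card H ∣ Nat.card M * Nat.card (Subgroup.zpowers t) := by
          rw [show H = Subgroup.zpowers t ⊔ M from sup_comm _ _, mul_comm]
          exact CfsgLib.Solvable.card_sup_dvd ((Subgroup.normalizer_eq_top (H := M)).symm ▸ le_top)
        rw [hk, Nat.card_zpowers, orderOf_eq_prime ht ht1, ← pow_succ] at h1
        obtain ⟨i, -, hi⟩ := (Nat.dvd_prime_pow Nat.prime_two).mp h1
        exact ⟨i, hi⟩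
      have hHN : H ⊓ N = ⊥ := by
        refine Subgroup.inf_eq_bot_of_coprime ?_
        obtain ⟨i, hi⟩ := hH
        rw [hi, hN9]
        exact Nat.Coprime.pow_left i (by norm_num)
      have hinv : ∀ z : Cfsg.PSU 3 F 2, z ∈ H → z ^ 2 = 1 → z ≠ 1 → e (QuotientGroup.mk z) = QuaternionGroup.a 2 := by
        intro z hz hz2 hz1
        have h1 : e (QuotientGroup.mk z) ^ 2 = 1 := by rw [← map_pow, ← QuotientGroup.mk_pow, hz2]; exact map_one e
        have h2 : e (QuotientGroup.mk z) ≠ 1 := by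
          intro h
          rw [← map_one e, e.injective.eq_iff, QuotientGroup.eq_one_iff] at h
          exact hz1 (Subgroup.mem_bot.mp (hHN ▸ Subgroup.mem_inf.mpr ⟨hz, h⟩))
        generalize e (QuotientGroup.mk z) = w at h1 h2
        revert w
        decide +kernel
      have hsH : (s : Cfsg.PSU 3 F 2) ∈ H := Subgroup.mem_sup_left s.2
      have htH : t ∈ H := Subgroup.mem_sup_right (Subgroup.mem_zpowers t)
      have hs2 : (s : Cfsg.PSU 3 F 2) ^ 2 = 1 := by
        rw [← SubmonoidClass.coe_pow, show s ^ 2 = 1 from by have h := pow_orderOf_eq_one s; rwa [hs] at h]; rfl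
      have hs1 : (s : Cfsg.PSU 3 F 2) ≠ 1 := fun h => by
        rw [show s = 1 from Subtype.ext h, orderOf_one] at hs; exact absurd hs (by norm_num)
      have h1 : t⁻¹ * (s : Cfsg.PSU 3 F 2) ∈ H ⊓ N := by
        refine Subgroup.mem_inf.mpr ⟨mul_mem (inv_mem htH) hsH, ?_⟩
        exact QuotientGroup.eq.mp (e.injective ((hinv t htH ht ht1).trans (hinv _ hsH hs2 hs1).symm))
      rw [hHN, Subgroup.mem_bot, inv_mul_eq_one] at h1
      exact h1
    let v1 : Fin 3 → F := ![1, 1, 0]
    let v2 : Fin 3 → F := ![1, 0, 1]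
    have h20 : (1 : F) + 1 = 0 := (by norm_num : (1 : F) + 1 = 2).trans (two_eq_zero' (F := F) hF)
    have hv1 : Cfsg.hermForm 3 F 2 v1 v1 = 0 := by simp [v1, Cfsg.hermForm, Fin.sum_univ_three, h20]
    have hv2 : Cfsg.hermForm 3 F 2 v2 v2 = 0 := by simp [v2, Cfsg.hermForm, Fin.sum_univ_three, h20]
    have hv10 : v1 ≠ 0 := fun e => one_ne_zero (congrFun e 0)
    have hv20 : v2 ≠ 0 := fun e => one_ne_zero (congrFun e 0)
    have h := mk_utv_eq hF (by norm_num) hv1 hv2 (A := suTv 3 v1 c hv1 hcs hF) (B := suTv 3 v2 c hv2 hcs hF) rfl rfl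
      ((htwo v1 hv1 hv10).trans (htwo v2 hv2 hv20).symm)
    obtain ⟨l, hl⟩ := utv_eq_span hF hv10 hc0 h
    have := congrFun hl 1
    simp [v1, v2] at this
  · haveI := isSimpleGroup_PSU hF hn h32
    rcases hM.eq_bot_or_eq_top with h | h
    · exact h
    · rw [h, Subgroup.card_top] at hc
      exact absurd hd (hp.coprime_iff_not_dvd.mp hc.symm)

end Simple

section Field

variable {F : Type*} [Field F] [Finite F] {q n : ℕ} (hF : Nat.card F = q ^ 2) {σ : RingAut F} {r q₀ : ℕ}
  (hK : Nat.card (CfsgLib.AutPSL.fixField σ) = q₀ ^ 2) (hodd : Odd r) (hqr : q₀ ^ r = q)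

local notation "K" => CfsgLib.AutPSL.fixField σ

/-- The standard field automorphism. -/
abbrev phiU (n q : ℕ) (σ : RingAut F) : MulAut (Cfsg.PSU n F q) := suAut (1 : ↥(Cfsg.GU n F q)) σ

/-- `SU_n` over the fixed field, in `SU_n`. -/
noncomputable def suBase : Cfsg.SU n K q₀ →* Cfsg.SU n F q where
  toFun g := ⟨⟨((g : Matrix.SpecialLinearGroup (Fin n) K) : Matrix (Fin n) (Fin n) K).map (K).subtype, by
      have h := congrArg (K).subtype (g : Matrix.SpecialLinearGroup (Fin n) K).2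
      rw [(K).subtype.map_det, map_one] at h
      exact h⟩, (fixGU hF hK hodd hqr (suToGU g)).2⟩
  map_one' := Subtype.ext (Subtype.ext (by simp [Matrix.map_one]))
  map_mul' a b := Subtype.ext (Subtype.ext (by
    show ((((a : Matrix.SpecialLinearGroup (Fin n) K) * (b : Matrix.SpecialLinearGroup (Fin n) K) :
      Matrix.SpecialLinearGroup (Fin n) K)) : Matrix (Fin n) (Fin n) K).map (K).subtype = _
    rw [Matrix.SpecialLinearGroup.coe_mul, Matrix.map_mul]
    rfl))

theorem suMat_suBase (g : Cfsg.SU n K q₀) :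
    suMat (suBase hF hK hodd hqr g) = (suMat g).map (K).subtype := rfl

/-- Its image in `PSU_n`. -/
noncomputable def subU : Subgroup (Cfsg.PSU n F q) := ((QuotientGroup.mk' _).comp (suBase hF hK hodd hqr)).range

theorem suFun_one_coe (s : Cfsg.SU n F q) :
    suMat (suFun (1 : ↥(Cfsg.GU n F q)) σ s) = (suMat s).map σ := by
  show _ * _ * _ = _
  simp

theorem suFun_suBase (g : Cfsg.SU n K q₀) :
    suFun (1 : ↥(Cfsg.GU n F q)) σ (suBase hF hK hodd hqr g) = suBase hF hK hodd hqr g := by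
  refine suMat_inj ?_
  rw [suFun_one_coe]
  ext a b
  exact (CfsgLib.AutPSL.mem_fixField σ).mp (suMat g a b).2

theorem exists_suBase {t : Cfsg.SU n F q} (h : (suMat t).map σ = suMat t) :
    ∃ g, suBase hF hK hodd hqr g = t := by
  obtain ⟨k, hk⟩ := (mem_range_fixGU hF hK hodd hqr (g := suToGU t)).mpr (Subtype.ext (Units.ext h))
  have hk' : ((k : GL (Fin n) K) : Matrix (Fin n) (Fin n) K).map (K).subtype = suMat t :=
    congrArg (fun g : ↥(Cfsg.GU n F q) => ((g : GL (Fin n) F) : Matrix (Fin n) (Fin n) F)) hk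
  have hdet : ((k : GL (Fin n) K) : Matrix (Fin n) (Fin n) K).det = 1 := (K).subtype.injective (by
    rw [(K).subtype.map_det, map_one]
    exact (congrArg Matrix.det hk').trans (t : Matrix.SpecialLinearGroup (Fin n) F).2)
  exact ⟨⟨⟨_, hdet⟩, k.2⟩, suMat_inj hk'⟩

theorem subU_le : subU hF hK hodd hqr ≤ Fix (phiU n q σ) := by
  rintro _ ⟨g, rfl⟩
  rw [mem_Fix]
  show suAut _ σ (QuotientGroup.mk (suBase hF hK hodd hqr g)) = _
  rw [suAut_mk, suFun_suBase]
  rfl

theorem exists_centerU {z : Cfsg.PSU n F q} (hz : z ∈ Fix (phiU n q σ)) :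
    ∃ t : Cfsg.SU n F q, z = QuotientGroup.mk t ∧
      ∃ c ∈ Subgroup.center (Cfsg.SU n F q), suEquivSemi (1 : ↥(Cfsg.GU n F q)) σ t = t * c := by
  obtain ⟨t, rfl⟩ := QuotientGroup.mk_surjective z
  rw [mem_Fix] at hz
  refine ⟨t, rfl, _, QuotientGroup.eq.mp (Eq.symm hz), ?_⟩
  rw [mul_inv_cancel_left]
  rfl

theorem subU_normal : ∀ z ∈ Fix (phiU n q σ), ∀ s ∈ subU hF hK hodd hqr, z * s * z⁻¹ ∈ subU hF hK hodd hqr := by
  intro z hz _ hs
  obtain ⟨g, rfl⟩ := hs
  obtain ⟨t, rfl, c, hc, ht⟩ := exists_centerU hz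
  have hfix : suEquivSemi (1 : ↥(Cfsg.GU n F q)) σ (t * suBase hF hK hodd hqr g * t⁻¹) =
      t * suBase hF hK hodd hqr g * t⁻¹ := by
    have hs2 : suEquivSemi (1 : ↥(Cfsg.GU n F q)) σ (suBase hF hK hodd hqr g) = suBase hF hK hodd hqr g :=
      suFun_suBase hF hK hodd hqr g
    rw [map_mul, map_mul, map_inv, ht, hs2]
    calc t * c * suBase hF hK hodd hqr g * (t * c)⁻¹ = t * (c * suBase hF hK hodd hqr g * c⁻¹) * t⁻¹ := by group
      _ = _ := by rw [← Subgroup.mem_center_iff.mp hc, mul_inv_cancel_right]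
  obtain ⟨u, hu⟩ := exists_suBase hF hK hodd hqr (t := t * suBase hF hK hodd hqr g * t⁻¹)
    ((suFun_one_coe _).symm.trans (congrArg suMat hfix))
  exact ⟨u, by simp [hu]⟩

theorem pow_mem_subU (hn : 2 ≤ n) {z : Cfsg.PSU n F q} (hz : z ∈ Fix (phiU n q σ)) :
    z ^ n ∈ subU hF hK hodd hqr := by
  obtain ⟨t, rfl, c, hc, ht⟩ := exists_centerU hz
  obtain ⟨a, ha⟩ := (mem_center_SU_iff hF hn).mp hc
  have hcn : c ^ n = 1 := by
    have hdet := congrArg Matrix.det ha
    rw [Matrix.det_smul, Matrix.det_one, mul_one, Fintype.card_fin] at hdet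
    refine suMat_inj ?_
    rw [suMat_pow, show suMat c = a • 1 from ha, smul_pow, one_pow, ← hdet,
      show ((c : Matrix.SpecialLinearGroup (Fin n) F) : Matrix (Fin n) (Fin n) F).det = 1 from
        (c : Matrix.SpecialLinearGroup (Fin n) F).2, one_smul]
    rfl
  have hfix : suEquivSemi (1 : ↥(Cfsg.GU n F q)) σ (t ^ n) = t ^ n := by
    rw [map_pow, ht, (show Commute t c from Subgroup.mem_center_iff.mp hc t).mul_pow, hcn, mul_one]
  obtain ⟨u, hu⟩ := exists_suBase hF hK hodd hqr (t := t ^ n)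
    ((suFun_one_coe _).symm.trans (congrArg suMat hfix))
  exact ⟨u, by simp [hu]⟩

theorem nonempty_subU_equiv (hn : 2 ≤ n) :
    Nonempty (Cfsg.PSU n K q₀ ≃* ↥(subU (n := n) hF hK hodd hqr)) := by
  classical
  have : NeZero n := ⟨by omega⟩
  let π : Cfsg.SU n K q₀ →* Cfsg.PSU n F q := (QuotientGroup.mk' _).comp (suBase hF hK hodd hqr)
  have hk : π.ker = Subgroup.center (Cfsg.SU n K q₀) := by
    ext g
    rw [MonoidHom.mem_ker]
    show (QuotientGroup.mk (suBase hF hK hodd hqr g) : Cfsg.PSU n F q) = 1 ↔ _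
    rw [QuotientGroup.eq_one_iff, mem_center_SU_iff hF hn, mem_center_SU_iff hK hn]
    show (∃ a : F, (suMat g).map (K).subtype = a • 1) ↔ ∃ a : K, suMat g = a • 1
    constructor
    · rintro ⟨a, ha⟩
      refine ⟨suMat g 0 0, ?_⟩
      ext i j
      have hij := congrFun (congrFun ha i) j
      have h00 := congrFun (congrFun ha 0) 0
      simp at h00 hij
      rcases eq_or_ne i j with rfl | h
      · simp at hij; simp [hij, h00]
      · simp [h] at hij; simp [h, hij]
    · rintro ⟨a, ha⟩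
      refine ⟨(a : F), ?_⟩
      rw [ha]
      ext i j
      rcases eq_or_ne i j with rfl | h <;> simp [*]
  exact ⟨(QuotientGroup.quotientMulEquivOfEq hk).symm.trans (QuotientGroup.quotientKerEquivRange π)⟩

theorem alt_dvd_subU (hn : 3 ≤ n) :
    Nat.card (alternatingGroup (Fin n)) ∣ Nat.card (subU (n := n) hF hK hodd hqr) := by
  classical
  have : NeZero n := ⟨by omega⟩
  let P : alternatingGroup (Fin n) → Matrix (Fin n) (Fin n) K := fun π => (π : Equiv.Perm (Fin n))⁻¹.permMatrix K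
  have hdet : ∀ π, (P π).det = 1 := fun π => by
    have h : Equiv.Perm.sign (π : Equiv.Perm (Fin n)) = 1 := π.2
    show ((π : Equiv.Perm (Fin n))⁻¹.permMatrix K).det = 1
    rw [Matrix.det_permutation, map_inv, h, inv_one]
    norm_num
  have hmem : ∀ π, (⟨P π, hdet π⟩ : Matrix.SpecialLinearGroup (Fin n) K) ∈ Cfsg.SU n K q₀ := fun π x y =>
    pres_of_orth hK (P π) (fun a b => by
      have hcol : ∀ a, (P π).col a = Pi.single ((π : Equiv.Perm (Fin n)) a) 1 := fun a => by
        funext i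
        simp only [P, Matrix.col_apply, Equiv.Perm.permMatrix, PEquiv.toMatrix_apply, Equiv.toPEquiv_apply,
          Option.mem_some_iff, Pi.single_apply]
        exact if_congr ⟨fun h => by rw [← h]; simp, fun h => by rw [h]; simp⟩ rfl rfl
      rw [hcol, hcol, herm_single_left, Pi.single_apply]
      simp only [EmbeddingLike.apply_eq_iff_eq]
      have hq0 : q₀ ≠ 0 := by have := CfsgLib.Forms.two_le_q hK; omega
      split_ifs <;> simp [zero_pow hq0]) x y
  let f : alternatingGroup (Fin n) →* Cfsg.SU n K q₀ :=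
    { toFun := fun π => ⟨⟨P π, hdet π⟩, hmem π⟩
      map_one' := Subtype.ext (Subtype.ext (by simp [P]))
      map_mul' := fun a b => Subtype.ext (Subtype.ext (by
        show ((a * b : alternatingGroup (Fin n)) : Equiv.Perm (Fin n))⁻¹.permMatrix K =
          (a : Equiv.Perm (Fin n))⁻¹.permMatrix K * (b : Equiv.Perm (Fin n))⁻¹.permMatrix K
        rw [Subgroup.coe_mul, _root_.mul_inv_rev, Matrix.permMatrix_mul])) }
  obtain ⟨e⟩ := nonempty_subU_equiv (n := n) hF hK hodd hqr (by omega)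
  rw [← Nat.card_congr e.toEquiv]
  refine Subgroup.card_dvd_of_injective ((QuotientGroup.mk' _).comp f) ?_
  rw [← MonoidHom.ker_eq_bot_iff, eq_bot_iff]
  intro π hπ
  rw [MonoidHom.mem_ker] at hπ
  rw [Subgroup.mem_bot]
  obtain ⟨r', hr⟩ := (mem_center_SU_iff hK (by omega)).mp ((QuotientGroup.eq_one_iff _).mp hπ)
  refine inv_injective (Subtype.ext (Equiv.ext fun a => ?_))
  by_contra hne
  have h := congrFun (congrFun hr a) ((π : Equiv.Perm (Fin n))⁻¹ a)
  simp only [Subgroup.coe_inv, Subgroup.coe_one, inv_one, Equiv.Perm.one_apply] at hne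
  have h1 : P π a ((π : Equiv.Perm (Fin n))⁻¹ a) = 1 := by
    simp [P, Equiv.Perm.permMatrix, PEquiv.toMatrix_apply]
  have h' : P π a ((π : Equiv.Perm (Fin n))⁻¹ a) = (r' • (1 : Matrix (Fin n) (Fin n) K)) a ((π : Equiv.Perm (Fin n))⁻¹ a) := h
  rw [h1, Matrix.smul_apply, Matrix.one_apply_ne (fun he => hne he.symm), smul_zero] at h'
  exact one_ne_zero h'

theorem dvd_subU (hn : 3 ≤ n) {p : ℕ} (hp : p.Prime) (hp2 : p ≠ 2)
    (hd : p ∣ Nat.card (Fix (phiU n q σ))) : p ∣ Nat.card (subU (n := n) hF hK hodd hqr) := by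
  classical
  haveI : Fact p.Prime := ⟨hp⟩
  have : Nontrivial (Fin n) := Fin.nontrivial_iff_two_le.mpr (by omega)
  by_cases hpn : p ∣ n
  · have hle : p ≤ n := Nat.le_of_dvd (by omega) hpn
    have h2 := two_mul_nat_card_alternatingGroup (α := Fin n)
    rw [Nat.card_perm, Nat.card_fin] at h2
    have h3 : p ∣ 2 * Nat.card (alternatingGroup (Fin n)) := h2 ▸ hp.dvd_factorial.mpr hle
    exact ((hp.dvd_mul.mp h3).resolve_left fun h => hp2 ((Nat.prime_dvd_prime_iff_eq hp Nat.prime_two).mp h)).trans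
      (alt_dvd_subU hF hK hodd hqr hn)
  · obtain ⟨z, hz⟩ := exists_prime_orderOf_dvd_card' p hd
    have h1 : ((z : Cfsg.PSU n F q) ^ n) ∈ subU hF hK hodd hqr := pow_mem_subU hF hK hodd hqr (by omega) z.2
    have h2 : orderOf ((z : Cfsg.PSU n F q) ^ n) = p := by
      rw [orderOf_pow, Subgroup.orderOf_coe, hz, (hp.coprime_iff_not_dvd.mpr hpn).gcd_eq_one, Nat.div_one]
    rw [← h2, ← Subgroup.orderOf_mk _ h1]
    exact orderOf_dvd_natCard _

include hF hK hodd hqr in
theorem fixU_ne_bot (hn : 3 ≤ n) : Fix (phiU n q σ) ≠ ⊥ := by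
  classical
  intro h
  have h1 := alt_dvd_subU (n := n) hF hK hodd hqr hn
  rw [le_bot_iff.mp ((subU_le (n := n) hF hK hodd hqr).trans h.le), Subgroup.card_bot, Nat.dvd_one] at h1
  have : Nontrivial (Fin n) := Fin.nontrivial_iff_two_le.mpr (by omega)
  have h2 := two_mul_nat_card_alternatingGroup (α := Fin n)
  rw [Nat.card_perm, Nat.card_fin, h1] at h2
  have := Nat.factorial_le hn
  norm_num [Nat.factorial] at this
  omega

theorem subU_normal_bot (hn : 3 ≤ n) {p : ℕ} (hp : p.Prime) (hp2 : p ≠ 2)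
    (hd : p ∣ Nat.card (Fix (phiU n q σ))) (N : Subgroup ↥(subU (n := n) hF hK hodd hqr)) (hN : N.Normal)
    (hc : (Nat.card N).Coprime p) : N = ⊥ := by
  obtain ⟨e⟩ := nonempty_subU_equiv (n := n) hF hK hodd hqr (by omega)
  have h1 := psu_normal_bot hK hn hp hp2 (by rw [Nat.card_congr e.toEquiv]; exact dvd_subU hF hK hodd hqr hn hp hp2 hd)
    (N.comap e.toMonoidHom) (hN.comap _)
    (Nat.Coprime.coprime_dvd_left (Subgroup.card_comap_dvd_of_injective _ _ e.injective) hc)
  rw [← Subgroup.map_comap_eq_self_of_surjective (f := e.toMonoidHom) e.surjective N, h1, Subgroup.map_bot]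

theorem mem_zpowers_of_fix_subU (hn : 3 ≤ n) (h32 : ¬ (n = 3 ∧ q = 2)) (y : MulAut (Cfsg.PSU n F q))
    (hy : ∀ s ∈ subU hF hK hodd hqr, y s = s) : y ∈ Subgroup.zpowers (phiU n q σ) := by
  classical
  have : NeZero n := ⟨by omega⟩
  obtain ⟨g, τ, rfl⟩ := exists_semi hF hn h32 y
  set G := ((g : GL (Fin n) F) : Matrix (Fin n) (Fin n) F) with hG
  have hq0 : q₀ ≠ 0 := by have := CfsgLib.Forms.two_le_q hK; omega
  have hqq : ∀ x : K, ((x : F)) ^ q = ((x ^ q₀ : K) : F) := coe_pow_q hK hodd hqr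
  have hinj : Function.Injective (K).subtype := (K).subtype.injective
  -- transvections over the fixed field
  have hline : ∀ (v : Fin n → K), v ≠ 0 → Cfsg.hermForm n K q₀ v v = 0 → ∀ c : K, c ≠ 0 → c + c ^ q₀ = 0 →
      ∃ l : F, G *ᵥ (fun i => τ (v i : F)) = l • (fun i => (v i : F)) ∧ τ (c : F) * (l * l ^ q) = (c : F) := by
    intro v hv hvv c hc hcs
    set v' : Fin n → F := fun i => (v i : F)
    have hv' : v' ≠ 0 := fun e => hv (funext fun i => Subtype.ext (congrFun e i))
    have hcs' : (c : F) + (c : F) ^ q = 0 := by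
      rw [hqq, ← Subfield.coe_add, hcs]; rfl
    have hvv' : Cfsg.hermForm n F q v' v' = 0 := by
      have := congrArg (fun x : K => (x : F)) hvv
      simp only [ZeroMemClass.coe_zero] at this
      rw [← this]
      show ∑ i, _ = (K).subtype (∑ i, _)
      rw [map_sum]
      exact Finset.sum_congr rfl fun i _ => by rw [map_mul]; exact congrArg _ (hqq _)
    let A : Cfsg.SU n F q := suTv n v' (c : F) hvv' hcs' hF
    let A₀ : Cfsg.SU n K q₀ := suTv n v c hvv hcs hK
    have hA : suBase hF hK hodd hqr A₀ = A := suMat_inj (by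
      rw [suMat_suBase]
      ext i j
      show (K).subtype (Cfsg.unitaryTransvection n q₀ v c i j) = Cfsg.unitaryTransvection n q v' (c : F) i j
      simp [Cfsg.unitaryTransvection, Matrix.vecMulVec, Matrix.one_apply, apply_ite (K).subtype, v', hqq]
      split_ifs <;> simp)
    have hk := hy _ ⟨A₀, rfl⟩
    change suAut g τ (QuotientGroup.mk (suBase hF hK hodd hqr A₀)) = QuotientGroup.mk (suBase hF hK hodd hqr A₀) at hk
    rw [hA, suAut_mk] at hk
    set w : Fin n → F := G *ᵥ fun i => τ (v' i)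
    have hmat : suMat (suFun g τ A) = Cfsg.unitaryTransvection n q w (τ (c : F)) := by
      rw [suMat_suFun]
      show G * (Cfsg.unitaryTransvection n q v' (c : F)).map τ * _ = _
      rw [utv_map, utv_gu_conj]
    have hw : Cfsg.hermForm n F q w w = 0 := by
      show Cfsg.hermForm n F q (G *ᵥ _) (G *ᵥ _) = 0
      rw [gu_preserves, ← map_herm, hvv', map_zero]
    have heq := mk_utv_eq hF (by omega) hw hvv' hmat (rfl : suMat A = _) hk
    obtain ⟨l, hl⟩ := utv_eq_span hF (u := v') (v := w) hv' (fun e => hc (Subtype.ext e)) heq.symm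
    have hl0 : l ≠ 0 := fun e => hv' (by rw [hl, e, zero_smul])
    refine ⟨l⁻¹, ?_, ?_⟩
    · show w = _
      rw [hl, smul_smul, inv_mul_cancel₀ hl0, one_smul]
    · have hw' : w = l⁻¹ • v' := by rw [hl, smul_smul, inv_mul_cancel₀ hl0, one_smul]
      rw [hw'] at heq
      have h2 : Cfsg.unitaryTransvection n q (l⁻¹ • v') (τ (c : F)) =
          Cfsg.unitaryTransvection n q v' (τ (c : F) * (l⁻¹ * l⁻¹ ^ q)) := by
        ext i j
        simp [Cfsg.unitaryTransvection, Matrix.vecMulVec, mul_pow]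
        ring
      rw [h2] at heq
      exact utv_injective hF hv' heq
  -- the vectors `e_i + μ e_j`
  obtain ⟨z, hz1, hzo⟩ := exists_norm_one hK
  have hz2 : z ^ q₀ ≠ z := by
    intro h
    rw [pow_succ, h] at hz1
    have h2 : orderOf z ∣ 2 := orderOf_dvd_of_pow_eq_one (by rw [pow_two]; exact hz1)
    rw [hzo] at h2
    have := Nat.le_of_dvd (by norm_num) h2
    have := CfsgLib.Forms.two_le_q hK
    omega
  set c₀ : K := z - z ^ q₀ with hc₀
  have hc₀0 : c₀ ≠ 0 := sub_ne_zero.mpr (Ne.symm hz2)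
  have hfrob : ∀ x y : K, (x - y) ^ q₀ = x ^ q₀ - y ^ q₀ := fun x y => by
    rw [← CfsgLib.Forms.frobQ_apply hK, map_sub, CfsgLib.Forms.frobQ_apply, CfsgLib.Forms.frobQ_apply]
  have hskew : ∀ x : K, (x - x ^ q₀) + (x - x ^ q₀) ^ q₀ = 0 := fun x => by
    rw [hfrob, CfsgLib.Forms.pow_q_q hK]; ring
  obtain ⟨μ, hμ⟩ := exists_norm_eq hK (μ := (-1 : K)) (by
    have := hfrob 0 1
    rwa [zero_sub, one_pow, zero_pow hq0, zero_sub] at this)
  have hμ0 : μ ≠ 0 := fun e => by
    rw [e, zero_pow (by omega)] at hμ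
    exact one_ne_zero (neg_eq_zero.mp hμ.symm)
  have hpair : ∀ (i j : Fin n), i ≠ j → ∀ ν : K, ν ^ (q₀ + 1) = -1 →
      ∃ l : F, G *ᵥ (fun k => τ (((Pi.single i 1 + Pi.single j ν : Fin n → K) k : K) : F)) =
        l • (fun k => (((Pi.single i 1 + Pi.single j ν : Fin n → K) k : K) : F)) ∧
        ∀ c : K, c ≠ 0 → c + c ^ q₀ = 0 → τ (c : F) * (l * l ^ q) = (c : F) := by
    intro i j hij ν hν
    set v : Fin n → K := Pi.single i 1 + Pi.single j ν
    have hv : v ≠ 0 := fun e => one_ne_zero (α := K) (by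
      have := congrFun e i; simpa [v, hij] using this)
    have hvv : Cfsg.hermForm n K q₀ v v = 0 := by
      show ∑ k, v k * v k ^ q₀ = 0
      rw [Fintype.sum_eq_add i j hij (fun k hk => by simp [v, hk.1, hk.2, zero_pow hq0])]
      simp [v, hij, hij.symm]
      rw [← pow_succ', hν]; ring
    obtain ⟨l, hl, -⟩ := hline v hv hvv c₀ hc₀0 (hskew z)
    refine ⟨l, hl, fun c hc hcs => ?_⟩
    obtain ⟨l', hl', hc'⟩ := hline v hv hvv c hc hcs
    have : l' = l := by
      have h := congrFun (hl'.symm.trans hl) i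
      simpa [v, hij] using h
    rwa [this] at hc'
  -- the matrix is diagonal
  have hμz : (μ * z) ^ (q₀ + 1) = -1 := by rw [mul_pow, hμ, hz1, mul_one]
  have hvec : ∀ (i j : Fin n) (ν : K), i ≠ j →
      (fun k => τ (((Pi.single i 1 + Pi.single j ν : Fin n → K) k : K) : F)) =
        Pi.single i 1 + τ (ν : F) • Pi.single j 1 := by
    intro i j ν hij
    funext k
    rcases eq_or_ne k i with rfl | hki
    · simp [hij]
    · rcases eq_or_ne k j with rfl | hkj <;> simp [*]
  have hoff : ∀ l j : Fin n, l ≠ j → G l j = 0 := by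
    intro l j hlj
    obtain ⟨i, hil, hij⟩ : ∃ i : Fin n, i ≠ l ∧ i ≠ j := by
      obtain ⟨i, -, hi⟩ := Finset.exists_mem_notMem_of_card_lt_card (s := ({l, j} : Finset _))
        (t := Finset.univ) (by rw [Finset.card_univ, Fintype.card_fin]
                               have := (Finset.card_le_two (a := l) (b := j)); omega)
      simp only [Finset.mem_insert, Finset.mem_singleton, not_or] at hi
      exact ⟨i, hi⟩
    obtain ⟨a, ha, -⟩ := hpair i j hij μ hμ
    obtain ⟨b, hb, -⟩ := hpair i j hij (μ * z) hμz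
    rw [hvec i j μ hij] at ha
    rw [hvec i j (μ * z) hij] at hb
    have e1 := congrFun ha l
    have e2 := congrFun hb l
    simp [Matrix.mulVec_add, Matrix.mulVec_smul, hil.symm, hlj] at e1 e2
    have hne : τ (μ : F) - τ ((μ * z : K) : F) ≠ 0 := by
      rw [sub_ne_zero]
      intro e
      have e' : μ * 1 = μ * z := by rw [mul_one]; exact Subtype.ext (τ.injective e)
      exact hz2 (by rw [← mul_left_cancel₀ hμ0 e', one_pow])
    have h3 : (τ (μ : F) - τ ((μ * z : K) : F)) * G l j = 0 := by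
      push_cast
      simp only [map_mul]
      linear_combination e1 - e2
    exact (mul_eq_zero.mp h3).resolve_left hne
  have hdiag : G = Matrix.diagonal fun i => G i i := by
    ext a b
    rcases eq_or_ne a b with rfl | h
    · simp
    · simp [h, hoff a b h]
  have hnorm : ∀ i, G i i * (G i i) ^ q = 1 := by
    intro i
    have h := gu_preserves g (Pi.single i 1) (Pi.single i 1)
    rw [← hG, Matrix.mulVec_single_one, herm_single_left, Pi.single_eq_same, one_pow] at h
    rw [Cfsg.hermForm, Finset.sum_eq_single i] at h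
    · exact h
    · intro k _ hk
      simp [Matrix.col_apply, hoff k i hk]
    · simp
  have hkey : ∀ i j, i ≠ j → ∀ ν : K, ν ^ (q₀ + 1) = -1 → τ (ν : F) * G j j = (ν : F) * G i i ∧
      ∀ c : K, c ≠ 0 → c + c ^ q₀ = 0 → τ (c : F) = c := by
    intro i j hij ν hν
    obtain ⟨l, hl, hc⟩ := hpair i j hij ν hν
    rw [hvec i j ν hij] at hl
    have ei := congrFun hl i
    have ej := congrFun hl j
    simp [Matrix.mulVec_add, Matrix.mulVec_smul, hij, hij.symm, hoff i j hij, hoff j i hij.symm] at ei ej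
    refine ⟨by rw [ej, ← ei]; ring, fun c hc0 hcs => ?_⟩
    have h := hc c hc0 hcs
    rwa [← ei, hnorm, mul_one] at h
  let i0 : Fin n := ⟨0, by omega⟩
  let i1 : Fin n := ⟨1, by omega⟩
  have h01 : i0 ≠ i1 := by simp [i0, i1]
  have hτskew : ∀ c : K, c + c ^ q₀ = 0 → τ (c : F) = c := fun c hc => by
    rcases eq_or_ne c 0 with rfl | h0
    · simp
    · exact (hkey i0 i1 h01 μ hμ).2 c h0 hc
  have hτz : τ (z : F) = z := by
    have e1 := (hkey i0 i1 h01 μ hμ).1
    have e2 := (hkey i0 i1 h01 (μ * z) hμz).1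
    push_cast at e2
    rw [map_mul] at e2
    have hne : τ (μ : F) * G i1 i1 ≠ 0 := by
      rw [e1]
      refine mul_ne_zero (fun e => hμ0 (Subtype.ext e)) (fun e => ?_)
      have := hnorm i0
      rw [e, zero_mul] at this
      exact zero_ne_one this
    exact mul_left_cancel₀ hne (by linear_combination e2 - (z : F) * e1)
  have hτK : ∀ x ∈ CfsgLib.AutPSL.fixField σ, τ x = x := by
    intro x hx
    set X : K := ⟨x, hx⟩
    set b : K := (X - X ^ q₀) / c₀ with hb
    set a : K := X - b * z with ha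
    have hbb : b ^ q₀ = b := by
      have h1 : (X - X ^ q₀) ^ q₀ = -(X - X ^ q₀) := eq_neg_of_add_eq_zero_right (hskew X)
      have h2 : c₀ ^ q₀ = -c₀ := eq_neg_of_add_eq_zero_right (hskew z)
      rw [hb, div_pow, h1, h2, neg_div_neg_eq]
    have haa : a ^ q₀ = a := by
      rw [ha, hfrob, mul_pow, hbb, sub_eq_sub_iff_sub_eq_sub]
      have : X - X ^ q₀ = b * c₀ := by rw [hb, div_mul_cancel₀ _ hc₀0]
      linear_combination -this
    have hfixed : ∀ w : K, w ^ q₀ = w → τ (w : F) = w := by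
      intro w hw
      have h := hτskew (w * c₀) (by
        have h2 : c₀ ^ q₀ = -c₀ := eq_neg_of_add_eq_zero_right (hskew z)
        rw [mul_pow, hw, h2]; ring)
      have h' : τ (c₀ : F) = c₀ := hτskew c₀ (hskew z)
      push_cast at h
      rw [map_mul, h'] at h
      exact mul_right_cancel₀ (fun e => hc₀0 (Subtype.ext e)) h
    have hX : X = a + b * z := by rw [ha]; ring
    show τ (X : F) = X
    rw [hX]
    push_cast
    rw [map_add, map_mul, hfixed a haa, hfixed b hbb, hτz]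
  obtain ⟨i, hi⟩ := mem_zpowers_of_fix hτK
  have hi : σ ^ i = τ := hi
  have heq : ∀ a b, G a a = G b b := by
    intro a b
    rcases eq_or_ne a b with rfl | h
    · rfl
    have e1 := (hkey a b h μ hμ).1
    rw [hτK _ μ.2] at e1
    exact (mul_left_cancel₀ (fun e => hμ0 (Subtype.ext e)) e1).symm
  have hmem : Units.mk0 (G i0 i0) (fun e => by have := hnorm i0; rw [e, zero_mul] at this; exact zero_ne_one this)
      ∈ normOne F q := mem_normOne.mpr (Units.ext (by
    rw [Units.val_pow_eq_pow_val, Units.val_mk0, pow_succ', Units.val_one]; exact hnorm i0))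
  have hg : g = scalarU hF n ⟨_, hmem⟩ := by
    refine Subtype.ext (Units.ext ?_)
    rw [coe_scalarU]
    show G = G i0 i0 • (1 : Matrix (Fin n) (Fin n) F)
    ext a b
    rcases eq_or_ne a b with rfl | h
    · simp [heq a i0]
    · simp [h, hoff a b h]
  refine ⟨i, ?_⟩
  show suAut (1 : ↥(Cfsg.GU n F q)) σ ^ i = suAut g τ
  have h1 : suAut g τ = suAut (1 : ↥(Cfsg.GU n F q)) τ := by
    rw [suAut_eq_inndiag_mul g τ, hg, suAut_scalarU, one_mul]
  let Φ : RingAut F →* MulAut (Cfsg.PSU n F q) :=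
    { toFun := fun t => suAut (1 : ↥(Cfsg.GU n F q)) t
      map_one' := suAut_one
      map_mul' := fun s t => by rw [suAut_mul, map_one, mul_one] }
  rw [h1, ← hi]
  exact (map_zpow Φ σ i).symm

end Field

/-- Local balance at a semilinear automorphism of odd prime order. -/
theorem psu_field_criterion {F : Type*} [Field F] [Finite F] {q n : ℕ} (hF : Nat.card F = q ^ 2) (hn : 3 ≤ n)
    (h32 : ¬ (n = 3 ∧ q = 2)) {p : ℕ} [Fact p.Prime] (hp2 : p ≠ 2)
    (A : Subgroup (MulAut (Cfsg.PSU n F q))) (hinn : ∀ k : Cfsg.PSU n F q, MulAut.conj k ∈ A)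
    (g : ↥(Cfsg.GU n F q)) (σ : RingAut F) (hσ : σ ≠ 1) (hord : orderOf (suAut g σ) = p) :
    Cfsg.pPrimeCore p ↥(A ⊓ Subgroup.centralizer {suAut g σ}) ≠ ⊥ ↔
      Nat.Coprime p (Nat.card (Fix (suAut g σ))) := by
  have hpp : p.Prime := Fact.out
  have hodd : Odd p := hpp.odd_of_ne_two hp2
  have h1 := pow_orderOf_eq_one (suAut g σ)
  rw [hord, suAut_pow] at h1
  have hσo : orderOf σ = p := orderOf_eq_prime (suAut_eq_one hF hn h1).1 hσ
  obtain ⟨r, f, hr, -, hq, -⟩ := exists_prime hF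
  obtain ⟨-, hK, hqr⟩ := fix_card hF hpp hodd hσo hr hq
  obtain ⟨k, hk⟩ := exists_conj_of_orderOf hF hn hpp hodd hσo hord
  exact criterion_conj (conj_injective hF hn) A hinn _ (phiU n q σ) _ hk hord (subU hF hK hodd hqr)
    (subU_le hF hK hodd hqr) (fixU_ne_bot hF hK hodd hqr hn) (subU_normal hF hK hodd hqr)
    (fun hd N hN hc => subU_normal_bot hF hK hodd hqr hn hpp hp2 hd N hN hc)
    (fun y _ hy => mem_zpowers_of_fix_subU hF hK hodd hqr hn h32 y hy)

end CfsgLib.LocalBal
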