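import Cfsg.Agent.LocalBal.DiagBase
import Cfsg.Agent.LocalBal.DiagLink
import Cfsg.Agent.LocalBal.SpClean
import Cfsg.Agent.LocalBal.OddCore
import Cfsg.Agent.GraphInv.PSU
import Cfsg.Agent.AutPSU.Main
import Cfsg.Agent.Solvable.Basics
import Cfsg.Agent.Fusion.Homocyclic.Main

/-!
Local balance at graph involutions of `PSU_n`.
-/

set_option autoImplicit false
set_option linter.unusedSectionVars false
set_option linter.style.haveILetI false

open Matrix

namespace CfsgLib.LocalBal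

open CfsgLib.AutPSU CfsgLib.GraphInv
open CfsgLib.Unitary (suToGU suMat)

section Misc

variable {F : Type*} [Field F] [Finite F] {n : ℕ}

theorem coe_scalar' (u : Fˣ) :
    ((Matrix.GeneralLinearGroup.scalar (Fin n) u : GL (Fin n) F) : Matrix (Fin n) (Fin n) F) = (u : F) • 1 := by
  simp [Matrix.smul_one_eq_diagonal]

theorem eq_one_of_fix_of_odd {σ τ : RingAut F} (hσ2 : σ ^ 2 = 1) (h : ∀ t, σ t = t → τ t = t)
    {m : ℕ} (hm : Odd m) (hτ : τ ^ m = 1) : τ = 1 := by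
  obtain ⟨i, hi⟩ := mem_zpowers_of_fix (σ := σ) (ρ := τ) fun t ht => h t ((CfsgLib.AutPSL.mem_fixField σ).mp ht)
  have hi : σ ^ i = τ := hi
  have hτ2 : τ ^ 2 = 1 := by
    rw [← hi, ← zpow_natCast (σ ^ i) 2, ← _root_.zpow_mul, mul_comm, _root_.zpow_mul, zpow_natCast, hσ2,
      _root_.one_zpow]
  obtain ⟨l, rfl⟩ := hm
  rwa [pow_succ, pow_mul, hτ2, one_pow, one_mul] at hτ

theorem twistProd_change (τ : RingAut F) (w h : GL (Fin n) F) (k : ℕ) :
    CfsgLib.AutPSL.twistProd τ (w⁻¹ * h * CfsgLib.AutPSL.glMap τ w) k =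
      w⁻¹ * CfsgLib.AutPSL.twistProd τ h k * CfsgLib.AutPSL.glMap (τ ^ k) w := by
  induction k with
  | zero => simp [CfsgLib.AutPSL.twistProd_zero, CfsgLib.AutPSL.glMap_one_aut]
  | succ k ih =>
    rw [CfsgLib.AutPSL.twistProd_succ, ih, CfsgLib.AutPSL.twistProd_succ, pow_succ',
      CfsgLib.AutPSL.glMap_mul_aut, map_mul, map_mul, map_inv]
    group

theorem coe_twU {q : ℕ} (τ : RingAut F) (g : ↥(Cfsg.GU n F q)) (k : ℕ) :
    (twU τ g k : GL (Fin n) F) = CfsgLib.AutPSL.twistProd τ (g : GL (Fin n) F) k := by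
  induction k with
  | zero => rfl
  | succ k ih =>
    rw [CfsgLib.AutPSL.twistProd_succ, ← ih]
    rfl

variable {m : ℕ}

theorem reindex_uGrp (e : Fin n ≃ Fin m ⊕ Fin m) {T : Matrix (Fin n) (Fin n) F}
    (hT : Matrix.reindex e e T = Matrix.J (Fin m) F) (a : GL (Fin n) F) :
    glReindex F e a ∈ uGrp (1 : RingAut F) (Matrix.J (Fin m) F) ↔ a ∈ uGrp (1 : RingAut F) T := by
  rw [mem_uGrp, mem_uGrp, map_one_aut, map_one_aut,
    show ((glReindex F e a : GL (Fin m ⊕ Fin m) F) : Matrix (Fin m ⊕ Fin m) (Fin m ⊕ Fin m) F) =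
      Matrix.reindex e e (a : Matrix (Fin n) (Fin n) F) from rfl,
    Matrix.transpose_reindex, ← hT, ← reindex_mul, ← reindex_mul]
  exact (Matrix.reindex e e).injective.eq_iff

theorem isSc_reindex (e : Fin n ≃ Fin m ⊕ Fin m) (a : GL (Fin n) F) : IsSc (glReindex F e a) ↔ IsSc a := by
  refine exists_congr fun x => ?_
  rw [show ((glReindex F e a : GL (Fin m ⊕ Fin m) F) : Matrix (Fin m ⊕ Fin m) (Fin m ⊕ Fin m) F) =
      Matrix.reindex e e (a : Matrix (Fin n) (Fin n) F) from rfl,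
    ← (Matrix.reindex e e).injective.eq_iff (b := x • (1 : Matrix (Fin n) (Fin n) F)), reindex_smul]
  simp

end Misc

variable {F : Type*} [Field F] [Finite F] {q n : ℕ} (hF : Nat.card F = q ^ 2) {σ : RingAut F}
  (hσ : ∀ a : F, σ a = a ^ q) {F₀ : Type*} [Field F₀] [Finite F₀] {j : F₀ →+* F} (hj : QuadExt σ j)
  {S : ↥(Cfsg.GU n F q)} {A : Matrix (Fin n) (Fin n) F₀} {w : GL (Fin n) F}
  (hw : Desc σ j (S : GL (Fin n) F) A w)
include hF hσ hj hw

theorem lift_props {a : GL (Fin n) F₀} (ha : a ∈ uGrp (1 : RingAut F₀) A) :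
    w * Matrix.GeneralLinearGroup.map j a * w⁻¹ ∈ Cfsg.GU n F q ∧
      ((w * Matrix.GeneralLinearGroup.map j a * w⁻¹ : GL (Fin n) F) : Matrix (Fin n) (Fin n) F)ᵀ * gmat S *
        ((w * Matrix.GeneralLinearGroup.map j a * w⁻¹ : GL (Fin n) F) : Matrix (Fin n) (Fin n) F) = gmat S := by
  obtain ⟨⟨c₁, h₁⟩, d₁, g₁⟩ := hw
  have hP : (a : Matrix (Fin n) (Fin n) F₀)ᵀ * A * (a : Matrix (Fin n) (Fin n) F₀) = (1 : F₀) • A := by
    rw [one_smul]
    have h := mem_uGrp.mp ha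
    rwa [map_one_aut] at h
  obtain ⟨hk1, hk2⟩ := hj.desc_core h₁ h₁ g₁ g₁ hP one_ne_zero
  refine ⟨(mem_GU_iff_unit hF hσ).mpr ?_, ?_⟩
  · show _ᵀ * Matrix.map _ σ = 1
    rw [hk2, map_one, mul_one, Units.mul_inv, Units.mul_inv, one_mul, one_smul]
  · rw [gmat, hk1, map_one, mul_one, Units.mul_inv, one_smul]

/-- Isometries of `A` inside `GU_n`. -/
noncomputable def liftU : ↥(uGrp (1 : RingAut F₀) A) →* ↥(Cfsg.GU n F q) :=
  ((MulAut.conj w).toMonoidHom.comp
      ((Matrix.GeneralLinearGroup.map j).comp (uGrp (1 : RingAut F₀) A).subtype)).codRestrict _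
    fun a => (lift_props hF hσ hj hw a.2).1

theorem coe_liftU (a : ↥(uGrp (1 : RingAut F₀) A)) :
    (liftU hF hσ hj hw a : GL (Fin n) F) = w * Matrix.GeneralLinearGroup.map j (a : GL (Fin n) F₀) * w⁻¹ := rfl

attribute [local irreducible] liftU

theorem liftU_commute (hn : 3 ≤ n) (a : ↥(uGrp (1 : RingAut F₀) A)) :
    innDiagHom n F q (liftU hF hσ hj hw a) * uGraph σ S = uGraph σ S * innDiagHom n F q (liftU hF hσ hj hw a) := by
  have h : suAut (liftU hF hσ hj hw a) 1 * uGraph σ S * (suAut (liftU hF hσ hj hw a) 1)⁻¹ = uGraph σ S := by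
    refine (conjU_eq_iff hF hσ hn _ S S).mpr ⟨1, ?_⟩
    rw [Units.val_one, one_smul, ← map_inv]
    simp only [gmat, coe_liftU]
    exact (lift_props hF hσ hj hw (a⁻¹).2).2
  exact mul_inv_eq_iff_eq_mul.mp h

theorem scalar_of_liftU [NeZero n] {a : ↥(uGrp (1 : RingAut F₀) A)} {u : ↥(normOne F q)}
    (h : liftU hF hσ hj hw a = scalarU hF n u) : IsSc (a : GL (Fin n) F₀) := by
  have e := congrArg (fun g : ↥(Cfsg.GU n F q) => (g : GL (Fin n) F)) h
  simp only [coe_liftU] at e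
  rw [coe_scalarU' hF hσ] at e
  have e2 : Matrix.GeneralLinearGroup.map j (a : GL (Fin n) F₀) = Matrix.GeneralLinearGroup.scalar (Fin n) (u : Fˣ) := by
    have e' := congrArg (fun g => w⁻¹ * g * w) e
    simp only [← mul_assoc, inv_mul_cancel, one_mul, inv_mul_cancel_right] at e'
    rw [e', mul_assoc, CfsgLib.AutPSL.scalar_comm, ← mul_assoc, inv_mul_cancel, one_mul]
  have e3 : upMat j ((a : GL (Fin n) F₀) : Matrix (Fin n) (Fin n) F₀) = ((u : Fˣ) : F) • 1 := by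
    rw [← coe_scalar', ← e2]; rfl
  refine ⟨((a : GL (Fin n) F₀) : Matrix (Fin n) (Fin n) F₀) 0 0, upMat_injective (j := j) ?_⟩
  have h0 : j (((a : GL (Fin n) F₀) : Matrix (Fin n) (Fin n) F₀) 0 0) = ((u : Fˣ) : F) := by
    have := congrFun (congrFun e3 0) 0
    simpa [upMat] using this
  rw [e3, upMat_smul, h0]
  ext p r
  rcases eq_or_ne p r with rfl | h' <;> simp [upMat, *]

theorem mem_Fix_of_liftU (hn : 3 ≤ n) {a : ↥(uGrp (1 : RingAut F₀) A)}
    (hdet : ((a : GL (Fin n) F₀) : Matrix (Fin n) (Fin n) F₀).det = 1) :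
    ∃ s : Cfsg.SU n F q, suToGU s = liftU hF hσ hj hw a ∧
      (QuotientGroup.mk s : Cfsg.PSU n F q) ∈ Fix (uGraph σ S) := by
  have hd : (((liftU hF hσ hj hw a : GL (Fin n) F)) : Matrix (Fin n) (Fin n) F).det = 1 := by
    rw [coe_liftU, Units.val_mul, Units.val_mul, Matrix.det_units_conj]
    show (((a : GL (Fin n) F₀) : Matrix (Fin n) (Fin n) F₀).map j).det = 1
    rw [← RingHom.mapMatrix_apply, ← RingHom.map_det, hdet, map_one]
  set s₀ : Cfsg.SU n F q := ⟨⟨_, hd⟩, (liftU hF hσ hj hw a).2⟩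
  have heq : suToGU s₀ = liftU hF hσ hj hw a := Subtype.ext (Units.ext rfl)
  refine ⟨s₀, heq, ?_⟩
  rw [mem_Fix]
  apply CfsgLib.AutPSU.conj_injective hF hn
  have h := liftU_commute hF hσ hj hw hn a
  rw [innDiagHom_apply, ← heq, suAut_toGU, mul_conj_eq] at h
  exact (mul_right_cancel h).symm

theorem desc_of_Fix (hn : 3 ≤ n) {s : Cfsg.SU n F q} (hs : (QuotientGroup.mk s : Cfsg.PSU n F q) ∈ Fix (uGraph σ S)) :
    ∃ (P : GL (Fin n) F₀) (d : F₀ˣ) (μ : Fˣ),
      (P : Matrix (Fin n) (Fin n) F₀)ᵀ * A * (P : Matrix (Fin n) (Fin n) F₀) = (d : F₀) • A ∧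
      ((suToGU s)⁻¹ : ↥(Cfsg.GU n F q)) =
        Matrix.GeneralLinearGroup.scalar (Fin n) μ * (w * Matrix.GeneralLinearGroup.map j P * w⁻¹) := by
  have : NeZero n := ⟨by omega⟩
  have h : suAut (suToGU s) 1 * uGraph σ S * (suAut (suToGU s) 1)⁻¹ = uGraph σ S := by
    rw [suAut_toGU, mul_inv_eq_iff_eq_mul, mul_conj_eq, mem_Fix.mp hs]
  obtain ⟨c, hc⟩ := (conjU_eq_iff hF hσ hn _ S S).mp h
  obtain ⟨P, d, μ, hP, hk⟩ := hj.desc_to hw hw (e := 1) (k := ((suToGU s)⁻¹ : ↥(Cfsg.GU n F q)))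
    (by rw [Units.val_one, one_smul]; exact (mem_GU_iff_unit hF hσ).mp (SetLike.coe_mem _)) hc
  exact ⟨P, d, μ, hP, hk⟩

set_option maxHeartbeats 1000000 in
/-- The fixed points of a graph involution have no odd core. -/
theorem graph_core_fix (hn : 3 ≤ n) (hclean : Clean (1 : RingAut F₀) A) :
    Cfsg.pPrimeCore 2 ↥(Fix (uGraph σ S)) = ⊥ := by
  classical
  have : NeZero n := ⟨by omega⟩
  set x := uGraph σ S
  set M := Cfsg.pPrimeCore 2 ↥(Fix x)
  haveI hMc : M.Characteristic := CfsgLib.Homocyclic.pPrimeCore_char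
  have hcop : (Nat.card M).Coprime 2 := CfsgLib.Solvable.coprime_card_pPrimeCore 2
  have hodd : ∀ m ∈ M, ∃ k, Odd k ∧ m ^ k = 1 := fun m hm =>
    ⟨Nat.card M, Nat.coprime_two_right.mp hcop, congrArg Subtype.val (pow_card_eq_one' (x := (⟨m, hm⟩ : M)))⟩
  let θ : ↥(Fix x) →* MulAut (Cfsg.PSU n F q) := MulAut.conj.comp (Fix x).subtype
  let Φ : ↥(uGrp (1 : RingAut F₀) A) →* MulAut (Cfsg.PSU n F q) := (innDiagHom n F q).comp (liftU hF hσ hj hw)
  let L : Subgroup (GL (Fin n) F₀) := ((M.map θ).comap Φ).map (uGrp (1 : RingAut F₀) A).subtype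
  have hL : ∀ a ∈ L, IsSc a := by
    refine hclean L ?_ ?_ ?_
    · rintro _ ⟨a, -, rfl⟩
      exact a.2
    · rintro g hg _ ⟨a, ⟨m, hm, hma⟩, rfl⟩
      refine ⟨⟨g, hg⟩ * a * ⟨g, hg⟩⁻¹, ?_, rfl⟩
      set G := Φ ⟨g, hg⟩
      have hG : G * x = x * G := liftU_commute hF hσ hj hw hn ⟨g, hg⟩
      have hGfix : ∀ k ∈ Fix x, G k ∈ Fix x := fun k hk => by
        have := MulEquiv.congr_fun hG k
        rw [MulAut.mul_apply, MulAut.mul_apply, mem_Fix.mp hk] at this
        exact this.symm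
      have hGfix' : ∀ k ∈ Fix x, G⁻¹ k ∈ Fix x := fun k hk => by
        have h' : G⁻¹ * x = x * G⁻¹ := by
          rw [inv_mul_eq_iff_eq_mul, ← mul_assoc, hG, mul_inv_cancel_right]
        have := MulEquiv.congr_fun h' k
        rw [MulAut.mul_apply, MulAut.mul_apply, mem_Fix.mp hk] at this
        exact this.symm
      let e : ↥(Fix x) ≃* ↥(Fix x) :=
        { toFun := fun k => ⟨G (k : Cfsg.PSU n F q), hGfix _ k.2⟩
          invFun := fun k => ⟨G⁻¹ (k : Cfsg.PSU n F q), hGfix' _ k.2⟩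
          left_inv := fun k => Subtype.ext (by simp)
          right_inv := fun k => Subtype.ext (by simp)
          map_mul' := fun a b => Subtype.ext (map_mul G _ _) }
      refine ⟨e m, ?_, ?_⟩
      · have := Subgroup.characteristic_iff_map_eq.mp hMc e
        rw [← this]
        exact ⟨m, hm, rfl⟩
      · show MulAut.conj (G (m : Cfsg.PSU n F q)) = Φ (⟨g, hg⟩ * a * ⟨g, hg⟩⁻¹)
        rw [map_mul, map_mul, map_inv, ← hma]
        show _ = G * MulAut.conj (m : Cfsg.PSU n F q) * G⁻¹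
        rw [mul_conj_eq, mul_inv_cancel_right]
    · rintro _ ⟨a, ⟨m, hm, hma⟩, rfl⟩
      obtain ⟨k, hk, hmk⟩ := hodd m hm
      refine ⟨k, hk, ?_⟩
      have h1 : Φ (a ^ k) = 1 := by rw [map_pow, ← hma, ← map_pow, hmk, map_one]
      obtain ⟨-, u, hu⟩ := suAut_eq_one hF hn h1
      exact scalar_of_liftU hF hσ hj hw hu
  rw [eq_bot_iff]
  intro m hm
  obtain ⟨s, hs⟩ := QuotientGroup.mk_surjective (m : Cfsg.PSU n F q)
  obtain ⟨P, d, μ, hP, hk⟩ := desc_of_Fix hF hσ hj hw hn (s := s) (by rw [hs]; exact m.2)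
  obtain ⟨k, ⟨i, rfl⟩, hmk⟩ := hodd m hm
  have hconj : MulAut.conj (m : Cfsg.PSU n F q) = suAut (suToGU s) 1 := by rw [suAut_toGU, hs]
  -- an odd power of `P` is scalar
  have hPk : IsSc (P ^ (2 * i + 1)) := by
    have h1 : suAut ((suToGU s)⁻¹ ^ (2 * i + 1)) (1 : RingAut F) = 1 := by
      rw [← innDiagHom_apply, map_pow, map_inv, innDiagHom_apply, ← hconj, inv_pow, ← map_pow]
      rw [show (m : Cfsg.PSU n F q) ^ (2 * i + 1) = 1 from congrArg Subtype.val hmk, map_one, inv_one]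
    obtain ⟨-, u, hu⟩ := suAut_eq_one hF hn h1
    have e := congrArg (fun g : ↥(Cfsg.GU n F q) => (g : GL (Fin n) F)) hu
    simp only [SubmonoidClass.coe_pow, hk, coe_scalarU' hF hσ] at e
    rw [(show Commute (Matrix.GeneralLinearGroup.scalar (Fin n) μ) (w * Matrix.GeneralLinearGroup.map j P * w⁻¹) from
      CfsgLib.AutPSL.scalar_comm _ _).mul_pow, conj_pow, ← map_pow, ← map_pow] at e
    have e2 : Matrix.GeneralLinearGroup.map j (P ^ (2 * i + 1)) =
        Matrix.GeneralLinearGroup.scalar (Fin n) ((μ ^ (2 * i + 1))⁻¹ * (u : Fˣ)) := by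
      have e' := congrArg (fun g => w⁻¹ * ((Matrix.GeneralLinearGroup.scalar (Fin n) (μ ^ (2 * i + 1)))⁻¹ * g) * w) e
      simp only [inv_mul_cancel_left, ← mul_assoc, inv_mul_cancel, one_mul, inv_mul_cancel_right] at e'
      rw [e', mul_assoc w⁻¹, ← map_inv, ← map_mul, mul_assoc, CfsgLib.AutPSL.scalar_comm, ← mul_assoc,
        inv_mul_cancel, one_mul]
    set z := ((μ ^ (2 * i + 1))⁻¹ * (u : Fˣ) : Fˣ)
    have e3 : upMat j ((P ^ (2 * i + 1) : GL (Fin n) F₀) : Matrix (Fin n) (Fin n) F₀) = (z : F) • 1 := by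
      rw [← coe_scalar', ← e2]; rfl
    refine ⟨((P ^ (2 * i + 1) : GL (Fin n) F₀) : Matrix (Fin n) (Fin n) F₀) 0 0, upMat_injective (j := j) ?_⟩
    have h0 : j (((P ^ (2 * i + 1) : GL (Fin n) F₀) : Matrix (Fin n) (Fin n) F₀) 0 0) = (z : F) := by
      have := congrFun (congrFun e3 0) 0
      simpa [upMat] using this
    rw [e3, upMat_smul, h0]
    ext p r
    rcases eq_or_ne p r with rfl | h' <;> simp [upMat, *]
  obtain ⟨z, hz⟩ := hPk
  have hpow : ∀ l, ((P ^ l : GL (Fin n) F₀) : Matrix (Fin n) (Fin n) F₀)ᵀ * A *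
      ((P ^ l : GL (Fin n) F₀) : Matrix (Fin n) (Fin n) F₀) = (d : F₀) ^ l • A := by
    intro l
    induction l with
    | zero => simp
    | succ l ih =>
      rw [pow_succ, Units.val_mul, Matrix.transpose_mul]
      calc _ = (P : Matrix (Fin n) (Fin n) F₀)ᵀ * (((P ^ l : GL (Fin n) F₀) : Matrix (Fin n) (Fin n) F₀)ᵀ * A *
            ((P ^ l : GL (Fin n) F₀) : Matrix (Fin n) (Fin n) F₀)) * (P : Matrix (Fin n) (Fin n) F₀) := by
            simp only [mul_assoc]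
        _ = _ := by rw [ih, mul_smul_comm, smul_mul_assoc, hP, smul_smul, ← pow_succ]
  have hA : A ≠ 0 := fun e => hw.det_ne_zero (by rw [e, Matrix.det_zero])
  have hdk : (d : F₀) ^ (2 * i + 1) = z * z := by
    have h := hpow (2 * i + 1)
    rw [hz, Matrix.transpose_smul, Matrix.transpose_one, smul_mul_assoc, one_mul, smul_mul_assoc, mul_smul_comm,
      mul_one, smul_smul] at h
    exact (smul_left_injective F₀ hA h).symm
  have hz0 : z ≠ 0 := fun e => by
    rw [e, zero_mul] at hdk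
    exact d.ne_zero (pow_eq_zero_iff (by omega) |>.mp hdk)
  set l : F₀ := (d : F₀) ^ i / z with hl
  have hl0 : l ≠ 0 := div_ne_zero (pow_ne_zero _ d.ne_zero) hz0
  have hnorm : l * l * (d : F₀) = 1 := by
    rw [hl, div_mul_div_comm, div_mul_eq_mul_div, ← hdk, ← pow_add, ← pow_succ,
      show i + i + 1 = 2 * i + 1 by ring, div_self (pow_ne_zero _ d.ne_zero)]
  set a : GL (Fin n) F₀ := Matrix.GeneralLinearGroup.scalar (Fin n) (Units.mk0 l hl0) * P with ha
  have hau : a ∈ uGrp (1 : RingAut F₀) A := by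
    rw [mem_uGrp, map_one_aut, ha, Units.val_mul, coe_scalar', smul_mul_assoc, one_mul, Matrix.transpose_smul,
      smul_mul_assoc, smul_mul_assoc, mul_smul_comm, smul_smul, hP, smul_smul, Units.val_mk0, hnorm, one_smul]
  let ν : Fˣ := Units.map (j : F₀ →* F) (Units.mk0 l hl0) * μ⁻¹
  have hlift : (liftU hF hσ hj hw ⟨a, hau⟩ : GL (Fin n) F) =
      Matrix.GeneralLinearGroup.scalar (Fin n) ν * ((suToGU s)⁻¹ : ↥(Cfsg.GU n F q)) := by
    rw [coe_liftU, hk, ← mul_assoc (Matrix.GeneralLinearGroup.scalar (Fin n) ν), ← map_mul, inv_mul_cancel_right]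
    show w * Matrix.GeneralLinearGroup.map j a * w⁻¹ = _
    rw [ha, map_mul, show Matrix.GeneralLinearGroup.map j (Matrix.GeneralLinearGroup.scalar (Fin n) (Units.mk0 l hl0)) =
      Matrix.GeneralLinearGroup.scalar (Fin n) (Units.map (j : F₀ →* F) (Units.mk0 l hl0)) from by
        refine Units.ext ?_
        ext p r
        rcases eq_or_ne p r with rfl | h' <;> simp [*], ← mul_assoc w, ← CfsgLib.AutPSL.scalar_comm]
    simp only [mul_assoc]
  have hν : ν ∈ normOne F q := by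
    refine scalar_mem_normOne hF hσ (n := n) ?_
    rw [eq_mul_inv_of_mul_eq hlift.symm]
    exact mul_mem (SetLike.coe_mem _) (inv_mem (SetLike.coe_mem _))
  have hΦ : Φ ⟨a, hau⟩ = (MulAut.conj (m : Cfsg.PSU n F q))⁻¹ := by
    show suAut (liftU hF hσ hj hw ⟨a, hau⟩) 1 = _
    rw [show liftU hF hσ hj hw ⟨a, hau⟩ = scalarU hF n ⟨ν, hν⟩ * (suToGU s)⁻¹ from Subtype.ext hlift,
      suAut_scalarU_mul, hconj]
    exact map_inv (innDiagHom n F q) _
  have hamem : a ∈ L := by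
    refine ⟨⟨a, hau⟩, ⟨m⁻¹, inv_mem hm, ?_⟩, rfl⟩
    rw [hΦ]
    exact map_inv θ m
  obtain ⟨c, hc⟩ := hL a hamem
  have hsc : ∃ u, liftU hF hσ hj hw ⟨a, hau⟩ = scalarU hF n u := by
    have hc0 : c ≠ 0 := fun e => Matrix.GeneralLinearGroup.det_ne_zero a (by
      rw [hc, e, zero_smul, Matrix.det_zero])
    let v : Fˣ := Units.map (j : F₀ →* F) (Units.mk0 c hc0)
    have e : (liftU hF hσ hj hw ⟨a, hau⟩ : GL (Fin n) F) = Matrix.GeneralLinearGroup.scalar (Fin n) v := by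
      have : Matrix.GeneralLinearGroup.map j a = Matrix.GeneralLinearGroup.scalar (Fin n) v := by
        refine Units.ext ?_
        show (a : Matrix (Fin n) (Fin n) F₀).map j = _
        rw [hc, coe_scalar']
        ext p r
        rcases eq_or_ne p r with rfl | h' <;> simp [v, *]
      rw [coe_liftU, this, ← CfsgLib.AutPSL.scalar_comm, mul_inv_cancel_right]
    exact ⟨⟨v, scalar_mem_normOne hF hσ (n := n) (by rw [← e]; exact SetLike.coe_mem _)⟩, Subtype.ext e⟩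
  obtain ⟨u, hu⟩ := hsc
  have h1 : (MulAut.conj (m : Cfsg.PSU n F q))⁻¹ = 1 := by
    rw [← hΦ]
    show suAut (liftU hF hσ hj hw ⟨a, hau⟩) 1 = 1
    rw [hu, suAut_scalarU]
  rw [inv_eq_one, ← map_one MulAut.conj] at h1
  exact Subgroup.mem_bot.mpr (Subtype.ext (CfsgLib.AutPSU.conj_injective hF hn h1))

/-- Absence of semilinear stabilisers of the fixed isometries. -/
def ULinked (j : F₀ →+* F) (A : Matrix (Fin n) (Fin n) F₀) : Prop :=
  ∀ (h : GL (Fin n) F) (τ : RingAut F) (m : ℕ), Odd m → τ ^ m = 1 → IsSc (CfsgLib.AutPSL.twistProd τ h m) →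
    (∀ a ∈ uGrp (1 : RingAut F₀) A, (a : Matrix (Fin n) (Fin n) F₀).det = 1 →
      ∃ c : F, (h : Matrix (Fin n) (Fin n) F) * (upMat j (a : Matrix (Fin n) (Fin n) F₀)).map τ =
        c • (upMat j (a : Matrix (Fin n) (Fin n) F₀) * (h : Matrix (Fin n) (Fin n) F))) →
    IsSc h ∧ τ = 1

theorem graph_stab (hn : 3 ≤ n) (h32 : ¬ (n = 3 ∧ q = 2)) (hlink : ULinked j A)
    (y : MulAut (Cfsg.PSU n F q)) (hy : ∀ k ∈ Fix (uGraph σ S), y k = k) (hord : (orderOf y).Coprime 2) :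
    y = 1 := by
  classical
  have : NeZero n := ⟨by omega⟩
  obtain ⟨h, τ, rfl⟩ := exists_semi hF hn h32 y
  have h1 := pow_orderOf_eq_one (suAut h τ)
  rw [suAut_pow] at h1
  obtain ⟨hτ, u, hu⟩ := suAut_eq_one hF hn h1
  set m := orderOf (suAut h τ)
  set h' : GL (Fin n) F := w⁻¹ * (h : GL (Fin n) F) * CfsgLib.AutPSL.glMap τ w with hh'
  have hP : IsSc (CfsgLib.AutPSL.twistProd τ h' m) := by
    refine ⟨((u : Fˣ) : F), ?_⟩
    rw [hh', twistProd_change, hτ, CfsgLib.AutPSL.glMap_one_aut, ← coe_twU, hu, coe_scalarU' hF hσ,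
      mul_assoc, CfsgLib.AutPSL.scalar_comm, inv_mul_cancel_left, coe_scalar']
  obtain ⟨⟨c, hc⟩, hτ1⟩ := hlink h' τ m (Nat.coprime_two_right.mp hord) hτ hP (by
    intro a ha hdet
    obtain ⟨s, hs, hsfix⟩ := mem_Fix_of_liftU hF hσ hj hw hn (a := ⟨a, ha⟩) hdet
    have hk := hy _ hsfix
    rw [suAut_mk] at hk
    obtain ⟨r, hr⟩ := (CfsgLib.Unitary.mem_center_SU_iff hF (by omega)).mp (QuotientGroup.eq.mp hk.symm)
    refine ⟨r, ?_⟩
    set W := (w : Matrix (Fin n) (Fin n) F)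
    set Wi := ((w⁻¹ : GL (Fin n) F) : Matrix (Fin n) (Fin n) F)
    set H := ((h : GL (Fin n) F) : Matrix (Fin n) (Fin n) F)
    set J := upMat j (a : Matrix (Fin n) (Fin n) F₀)
    have hsm : suMat s = W * J * Wi := (congrArg (fun g : ↥(Cfsg.GU n F q) => ((g : GL (Fin n) F) : Matrix (Fin n) (Fin n) F)) hs).trans (by simp only [coe_liftU, Units.val_mul]; rfl)
    have hr' : suMat (suFun h τ s) = r • suMat s := by
      have e := congrArg (fun M => suMat s * M) hr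
      rw [mul_smul_comm, mul_one] at e
      rw [← e]
      show _ = suMat s * suMat (s⁻¹ * suFun h τ s)
      rw [← CfsgLib.Unitary.suMat_mul, mul_inv_cancel_left]
    rw [suMat_suFun, hsm, Matrix.map_mul, Matrix.map_mul] at hr'
    have hwτ : W.map τ * Wi.map τ = 1 := by
      rw [← Matrix.map_mul, w.mul_inv, Matrix.map_one _ (map_zero τ) (map_one τ)]
    have hwτ' : Wi.map τ * W.map τ = 1 := by
      rw [← Matrix.map_mul, w.inv_mul, Matrix.map_one _ (map_zero τ) (map_one τ)]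
    have e := congrArg (fun M => Wi * M * (H * W.map τ)) hr'
    simp only [mul_smul_comm, smul_mul_assoc, mul_assoc] at e
    rw [← mul_assoc (((h : GL (Fin n) F)⁻¹ : GL (Fin n) F) : Matrix (Fin n) (Fin n) F) H (W.map τ), (h : GL (Fin n) F).inv_mul,
      one_mul, hwτ', mul_one, ← mul_assoc Wi W, w.inv_mul, one_mul] at e
    rw [hh', Units.val_mul, Units.val_mul, CfsgLib.AutPSL.coe_glMap]
    simp only [mul_assoc]
    exact e)
  subst hτ1
  rw [hh', CfsgLib.AutPSL.glMap_one_aut] at hc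
  have hc0 : c ≠ 0 := fun e => Matrix.GeneralLinearGroup.det_ne_zero (w⁻¹ * (h : GL (Fin n) F) * w) (by
    rw [hc, e, zero_smul, Matrix.det_zero])
  have e : (h : GL (Fin n) F) = Matrix.GeneralLinearGroup.scalar (Fin n) (Units.mk0 c hc0) := by
    have e1 : w⁻¹ * (h : GL (Fin n) F) * w = Matrix.GeneralLinearGroup.scalar (Fin n) (Units.mk0 c hc0) :=
      Units.ext (by rw [hc, coe_scalar', Units.val_mk0])
    rw [show (h : GL (Fin n) F) = w * (w⁻¹ * (h : GL (Fin n) F) * w) * w⁻¹ from by group, e1,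
      ← CfsgLib.AutPSL.scalar_comm, mul_inv_cancel_right]
  have hmem : Units.mk0 c hc0 ∈ normOne F q := scalar_mem_normOne hF hσ (n := n) (by rw [← e]; exact h.2)
  rw [show h = scalarU hF n ⟨_, hmem⟩ from Subtype.ext e]
  exact suAut_scalarU hF _

theorem two_dvd_fix (hn : 3 ≤ n) {a : GL (Fin n) F₀} (ha : a ∈ uGrp (1 : RingAut F₀) A)
    (hdet : (a : Matrix (Fin n) (Fin n) F₀).det = 1) (hns : ¬ IsSc a) (hsq : IsSc (a ^ 2)) :
    2 ∣ Nat.card (Fix (uGraph σ S)) := by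
  classical
  have : NeZero n := ⟨by omega⟩
  obtain ⟨s, hs, hfix⟩ := mem_Fix_of_liftU hF hσ hj hw hn (a := ⟨a, ha⟩) hdet
  have hΦ : suAut (liftU hF hσ hj hw ⟨a, ha⟩) 1 = MulAut.conj (QuotientGroup.mk s : Cfsg.PSU n F q) := by
    rw [← hs, suAut_toGU]
  have h2 : (QuotientGroup.mk s : Cfsg.PSU n F q) ^ 2 = 1 := by
    apply CfsgLib.AutPSU.conj_injective hF hn
    obtain ⟨c, hc⟩ := hsq
    have hc0 : c ≠ 0 := fun e => Matrix.GeneralLinearGroup.det_ne_zero (a ^ 2) (by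
      rw [hc, e, zero_smul, Matrix.det_zero])
    have e : (liftU hF hσ hj hw (⟨a, ha⟩ ^ 2) : GL (Fin n) F) =
        Matrix.GeneralLinearGroup.scalar (Fin n) (Units.map (j : F₀ →* F) (Units.mk0 c hc0)) := by
      have : Matrix.GeneralLinearGroup.map j (a ^ 2) =
          Matrix.GeneralLinearGroup.scalar (Fin n) (Units.map (j : F₀ →* F) (Units.mk0 c hc0)) := by
        refine Units.ext ?_
        show ((a ^ 2 : GL (Fin n) F₀) : Matrix (Fin n) (Fin n) F₀).map j = _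
        rw [hc, coe_scalar']
        ext p r
        rcases eq_or_ne p r with rfl | h' <;> simp [*]
      rw [coe_liftU, SubmonoidClass.coe_pow, this, ← CfsgLib.AutPSL.scalar_comm, mul_inv_cancel_right]
    have hm := scalar_mem_normOne hF hσ (n := n) (u := Units.map (j : F₀ →* F) (Units.mk0 c hc0))
      (by rw [← e]; exact SetLike.coe_mem _)
    rw [map_pow, ← hΦ, ← innDiagHom_apply, ← map_pow, ← map_pow, innDiagHom_apply,
      show liftU hF hσ hj hw (⟨a, ha⟩ ^ 2) = scalarU hF n ⟨_, hm⟩ from Subtype.ext e, suAut_scalarU, map_one]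
  have h1 : (QuotientGroup.mk s : Cfsg.PSU n F q) ≠ 1 := by
    intro h
    rw [h, map_one] at hΦ
    obtain ⟨-, u, hu⟩ := suAut_eq_one hF hn hΦ
    exact hns (scalar_of_liftU hF hσ hj hw hu)
  rw [← orderOf_eq_prime h2 h1, ← Subgroup.orderOf_mk _ hfix]
  exact orderOf_dvd_natCard _

end CfsgLib.LocalBal
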