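import Cfsg.Agent.LocalBal.PSUGraph

/-!
Normal forms for graph involutions of `PSU_n` and their centralisers.
-/

set_option autoImplicit false
set_option linter.unusedSectionVars false
set_option linter.style.haveILetI false

open Matrix

namespace CfsgLib.LocalBal

open CfsgLib.AutPSU CfsgLib.GraphInv

variable {F : Type*} [Field F] [Finite F] {F₀ : Type*} [Field F₀] [Finite F₀] {σ : RingAut F} {j : F₀ →+* F}

theorem desc_cong {n : ℕ} (hj : QuadExt σ j) {S : GL (Fin n) F} {A B : Matrix (Fin n) (Fin n) F₀} {w : GL (Fin n) F}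
    (hw : Desc σ j S A w) {P : GL (Fin n) F₀} {c : F₀ˣ}
    (hP : (P : Matrix (Fin n) (Fin n) F₀)ᵀ * A * (P : Matrix (Fin n) (Fin n) F₀) = (c : F₀) • B) :
    Desc σ j S B (w * Matrix.GeneralLinearGroup.map j P) := by
  obtain ⟨⟨c₁, h₁⟩, d₁, g₁⟩ := hw
  have hv : ((w * Matrix.GeneralLinearGroup.map j P : GL (Fin n) F) : Matrix (Fin n) (Fin n) F) =
      (w : Matrix (Fin n) (Fin n) F) * upMat j (P : Matrix (Fin n) (Fin n) F₀) := rfl
  refine ⟨⟨c₁ * Units.map (j : F₀ →* F) c, ?_⟩, d₁, ?_⟩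
  · rw [hv, Matrix.transpose_mul]
    calc _ = (upMat j (P : Matrix (Fin n) (Fin n) F₀))ᵀ * ((w : Matrix (Fin n) (Fin n) F)ᵀ *
          (S : Matrix (Fin n) (Fin n) F) * (w : Matrix (Fin n) (Fin n) F)) *
          upMat j (P : Matrix (Fin n) (Fin n) F₀) := by simp only [mul_assoc]
      _ = _ := by
        rw [h₁, mul_smul_comm, smul_mul_assoc, ← upMat_transpose, ← upMat_mul, ← upMat_mul, hP, upMat_smul,
          smul_smul]
        rfl
  · rw [hv, Matrix.map_mul, g₁, hj.upMat_fixed, smul_mul_assoc, mul_assoc]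

theorem ulinked_diag {k : ℕ} (h2 : (2 : F) ≠ 0) (hk : 2 ≤ k) (hj : QuadExt σ j) {δ : F₀} (hδ : δ ≠ 0) :
    ULinked j (Matrix.diagonal (Function.update (1 : Fin (k + 1) → F₀) (Fin.last k) δ)) := by
  intro h τ m hm hτm hP hf
  have hD : upMat j (Matrix.diagonal (Function.update (1 : Fin (k + 1) → F₀) (Fin.last k) δ)) =
      Matrix.diagonal (Function.update (1 : Fin (k + 1) → F) (Fin.last k) (j δ)) := by
    rw [upMat, Matrix.diagonal_map (map_zero j)]
    congr 1
    funext p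
    rcases eq_or_ne p (Fin.last k) with rfl | hp <;> simp [*]
  refine link_diag h2 hk hj.sq (α := j δ) (by simpa using hδ) (hj.fix_j δ) hm hτm hP ?_
  intro g hg hgσ hdet
  obtain ⟨B, hB⟩ := hj.exists_down hgσ
  have hBdet : B.det = 1 := j.injective (by rw [map_one, ← det_upMat, hB, hdet])
  let b : GL (Fin (k + 1)) F₀ := Matrix.GeneralLinearGroup.mkOfDetNeZero B (by rw [hBdet]; exact one_ne_zero)
  have hb : b ∈ uGrp (1 : RingAut F₀)
      (Matrix.diagonal (Function.update (1 : Fin (k + 1) → F₀) (Fin.last k) δ)) := by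
    rw [mem_uGrp, map_one_aut]
    refine upMat_injective (j := j) ?_
    rw [upMat_mul, upMat_mul, upMat_transpose, hD, show upMat j (b : Matrix (Fin (k + 1)) (Fin (k + 1)) F₀) =
      (g : Matrix (Fin (k + 1)) (Fin (k + 1)) F) from hB]
    have h' := mem_uGrp.mp hg
    rwa [hgσ] at h'
  obtain ⟨c, hc⟩ := hf b hb hBdet
  rw [show upMat j (b : Matrix (Fin (k + 1)) (Fin (k + 1)) F₀) = (g : Matrix (Fin (k + 1)) (Fin (k + 1)) F) from hB] at hc
  exact ⟨c, hc⟩

theorem ulinked_alt {n m : ℕ} (hm1 : 1 ≤ m) (hj : QuadExt σ j) (e : Fin n ≃ Fin m ⊕ Fin m)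
    {T : Matrix (Fin n) (Fin n) F₀} (hT : Matrix.reindex e e T = Matrix.J (Fin m) F₀) : ULinked j T := by
  intro h τ i hi hτi hP hf
  have hTF : Matrix.reindex e e (upMat j T) = Matrix.J (Fin m) F := by
    rw [show Matrix.reindex e e (upMat j T) = (Matrix.reindex e e T).map j from rfl, hT, Matrix.J,
      Matrix.fromBlocks_map, Matrix.map_zero _ (map_zero j), Matrix.map_neg _ (map_neg j),
      Matrix.map_one _ (map_zero j) (map_one j)]
    rfl
  obtain ⟨hsc, hfix⟩ := link_sp (σ := σ) (τ := τ) (h := glReindex F e h) hm1 (fun g hg hgσ hdet => by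
    set g' := (glReindex F e).symm g with hg'
    have hgg : Matrix.reindex e e (g' : Matrix (Fin n) (Fin n) F) = g :=
      congrArg Units.val ((glReindex F e).apply_symm_apply g)
    have hg'σ : (g' : Matrix (Fin n) (Fin n) F).map σ = g' := by
      refine (Matrix.reindex e e).injective ?_
      rw [hgg, show Matrix.reindex e e ((g' : Matrix (Fin n) (Fin n) F).map σ) =
        (Matrix.reindex e e (g' : Matrix (Fin n) (Fin n) F)).map σ from rfl, hgg, hgσ]
    obtain ⟨B, hB⟩ := hj.exists_down hg'σ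
    have hBdet : B.det = 1 := j.injective (by
      rw [map_one, ← det_upMat, hB, ← Matrix.det_reindex_self e, hgg, hdet])
    let b : GL (Fin n) F₀ := Matrix.GeneralLinearGroup.mkOfDetNeZero B (by rw [hBdet]; exact one_ne_zero)
    have hbB : upMat j (b : Matrix (Fin n) (Fin n) F₀) = (g' : Matrix (Fin n) (Fin n) F) := hB
    have hb : b ∈ uGrp (1 : RingAut F₀) T := by
      rw [mem_uGrp, map_one_aut]
      refine upMat_injective (j := j) ((Matrix.reindex e e).injective ?_)
      rw [upMat_mul, upMat_mul, upMat_transpose, hbB, GraphInv.reindex_mul, GraphInv.reindex_mul,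
        ← Matrix.transpose_reindex, hgg, hTF]
      have h' := mem_uGrp.mp hg
      rwa [map_one_aut] at h'
    obtain ⟨c, hc⟩ := hf b hb hBdet
    rw [hbB] at hc
    refine ⟨c, ?_⟩
    have e1 := congrArg (Matrix.reindex e e) hc
    rw [GraphInv.reindex_mul, GraphInv.reindex_smul, GraphInv.reindex_mul, hgg,
      show Matrix.reindex e e ((g' : Matrix (Fin n) (Fin n) F).map τ) =
        (Matrix.reindex e e (g' : Matrix (Fin n) (Fin n) F)).map τ from rfl, hgg] at e1
    exact e1)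
  exact ⟨(isSc_reindex e h).mp hsc, eq_one_of_fix_of_odd hj.sq hfix hi hτi⟩

theorem exists_invol_diag {k : ℕ} (hk : 2 ≤ k) (h2 : (2 : F₀) ≠ 0) {d : Fin (k + 1) → F₀} (hd : ∀ i, d i ≠ 0) :
    ∃ a ∈ uGrp (1 : RingAut F₀) (Matrix.diagonal d), (a : Matrix (Fin (k + 1)) (Fin (k + 1)) F₀).det = 1 ∧
      ¬ IsSc a ∧ IsSc (a ^ 2) := by
  classical
  let z : Fin (k + 1) := 0
  let o : Fin (k + 1) := ⟨1, by omega⟩
  let t : Fin (k + 1) := ⟨2, by omega⟩
  have hzo : z ≠ o := by simp [z, o, Fin.ext_iff]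
  set e : Fin (k + 1) → F₀ := fun i => if i = z ∨ i = o then -1 else 1 with he
  have hee : ∀ i, e i * e i = 1 := fun i => by simp only [e]; split_ifs <;> ring
  have hdet : (Matrix.diagonal e).det = 1 := by
    rw [Matrix.det_diagonal, he, Finset.prod_ite, Finset.prod_const, Finset.prod_const_one, mul_one]
    have : (Finset.univ.filter fun i => i = z ∨ i = o) = {z, o} := by ext; simp
    rw [this, Finset.card_pair hzo]; ring
  refine ⟨Matrix.GeneralLinearGroup.mkOfDetNeZero (Matrix.diagonal e) (by rw [hdet]; exact one_ne_zero), ?_, hdet,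
    ?_, 1, ?_⟩
  · rw [mem_uGrp, map_one_aut]
    show (Matrix.diagonal e)ᵀ * Matrix.diagonal d * Matrix.diagonal e = Matrix.diagonal d
    rw [Matrix.diagonal_transpose, Matrix.diagonal_mul_diagonal, Matrix.diagonal_mul_diagonal]
    congr 1
    funext i
    rw [mul_right_comm, hee, one_mul]
  · rintro ⟨c, hc⟩
    have hz := congrFun (congrFun (show Matrix.diagonal e = c • 1 from hc) z) z
    have ht := congrFun (congrFun (show Matrix.diagonal e = c • 1 from hc) t) t
    have ez : e z = -1 := by rw [he]; exact if_pos (Or.inl rfl)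
    have et : e t = 1 := by rw [he]; exact if_neg (by simp [z, o, t, Fin.ext_iff])
    rw [Matrix.diagonal_apply_eq, Matrix.smul_apply, Matrix.one_apply_eq, smul_eq_mul, mul_one] at hz ht
    rw [ez] at hz
    rw [et] at ht
    exact h2 (by linear_combination ht - hz)
  · rw [pow_two, Units.val_mul]
    show Matrix.diagonal e * Matrix.diagonal e = (1 : F₀) • 1
    rw [Matrix.diagonal_mul_diagonal, one_smul, ← Matrix.diagonal_one]
    congr 1
    funext i
    exact hee i

theorem exists_invol_alt {n m : ℕ} (hm : 1 ≤ m) (e : Fin n ≃ Fin m ⊕ Fin m)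
    {T : Matrix (Fin n) (Fin n) F₀} (hT : Matrix.reindex e e T = Matrix.J (Fin m) F₀) :
    ∃ a ∈ uGrp (1 : RingAut F₀) T, (a : Matrix (Fin n) (Fin n) F₀).det = 1 ∧ ¬ IsSc a ∧ IsSc (a ^ 2) := by
  have hJ : (Matrix.J (Fin m) F₀).det = 1 := CfsgLib.GraphInv.det_J_one
  set a := (glReindex F₀ e).symm (Matrix.GeneralLinearGroup.mkOfDetNeZero (Matrix.J (Fin m) F₀)
    (by rw [hJ]; exact one_ne_zero)) with ha
  have hae : glReindex F₀ e a = Matrix.GeneralLinearGroup.mkOfDetNeZero (Matrix.J (Fin m) F₀)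
      (by rw [hJ]; exact one_ne_zero) := MulEquiv.apply_symm_apply _ _
  refine ⟨a, (reindex_uGrp e hT a).mp ?_, ?_, ?_, ?_⟩
  · rw [hae, mem_uGrp, map_one_aut]
    show (Matrix.J (Fin m) F₀)ᵀ * Matrix.J (Fin m) F₀ * Matrix.J (Fin m) F₀ = Matrix.J (Fin m) F₀
    rw [Matrix.J_transpose, mul_assoc, Matrix.J_squared]
    simp
  · rw [← Matrix.det_reindex_self e]
    exact (congrArg (fun g : GL (Fin m ⊕ Fin m) F₀ => (g : Matrix (Fin m ⊕ Fin m) (Fin m ⊕ Fin m) F₀).det) hae).trans hJ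
  · intro h
    obtain ⟨c, hc⟩ := (isSc_reindex e a).mpr h
    rw [hae] at hc
    have := congrFun (congrFun (show Matrix.J (Fin m) F₀ = c • 1 from hc) (Sum.inl ⟨0, by omega⟩)) (Sum.inr ⟨0, by omega⟩)
    simp [Matrix.J] at this
  · refine (isSc_reindex e _).mp ⟨-1, ?_⟩
    rw [map_pow, hae, pow_two, Units.val_mul]
    show Matrix.J (Fin m) F₀ * Matrix.J (Fin m) F₀ = (-1 : F₀) • 1
    rw [Matrix.J_squared, neg_one_smul]

/-- At a graph involution the core of the centraliser is trivial and the fixed points have even order. -/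
theorem psu_graph_case {q n : ℕ} (hF : Nat.card F = q ^ 2) (hn : 3 ≤ n) (h32 : ¬ (n = 3 ∧ q = 2))
    (h2 : (2 : F) ≠ 0) (G : Subgroup (MulAut (Cfsg.PSU n F q))) (hinn : ∀ k : Cfsg.PSU n F q, MulAut.conj k ∈ G)
    (g : ↥(Cfsg.GU n F q)) (τ : RingAut F) (hτ : τ ≠ 1) (hord : orderOf (suAut g τ) = 2) :
    Cfsg.pPrimeCore 2 ↥(G ⊓ Subgroup.centralizer {suAut g τ}) = ⊥ ∧
      ¬ Nat.Coprime 2 (Nat.card (Fix (suAut g τ))) := by
  classical
  obtain ⟨k, rfl⟩ : ∃ k, n = k + 1 := ⟨n - 1, by omega⟩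
  obtain ⟨σ, hσ⟩ := CfsgLib.GraphInv.exists_frob hF
  have h1 := pow_orderOf_eq_one (suAut g τ)
  rw [hord, suAut_pow] at h1
  obtain rfl : τ = σ := ringAut_invol_unique (suAut_eq_one hF hn h1).1 hτ (frob_sq hF hσ) (frob_ne_one hF hσ)
  set S : ↥(Cfsg.GU (k + 1) F q) := g⁻¹ with hS
  have hx : suAut g τ = uGraph τ S := by rw [uGraph, hS, inv_inv]
  rw [hx] at hord ⊢
  have hsym := (orderOf_uGraph hF hσ hn S).mp hord
  let F₁ := CfsgLib.AutPSL.fixField τ
  let j : F₁ →+* F := F₁.subtype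
  have hj : QuadExt τ j := ⟨frob_sq hF hσ, frob_ne_one hF hσ, fun x =>
    ⟨fun hx => ⟨⟨x, (CfsgLib.AutPSL.mem_fixField τ).mpr hx⟩, rfl⟩,
      fun ⟨y, hy⟩ => hy ▸ (CfsgLib.AutPSL.mem_fixField τ).mp y.2⟩⟩
  have h20 : (2 : F₁) ≠ 0 := fun e => h2 (by
    have := congrArg j e
    rwa [map_ofNat, map_zero] at this)
  obtain ⟨A, ⟨w, hw⟩, hA⟩ := exists_udesc hF hσ hj hsym
  suffices H : ∀ (T : Matrix (Fin (k + 1)) (Fin (k + 1)) F₁) (v : GL (Fin (k + 1)) F),
      Desc τ j (S : GL (Fin (k + 1)) F) T v → Clean (1 : RingAut F₁) T → ULinked j T →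
      (∃ a ∈ uGrp (1 : RingAut F₁) T, (a : Matrix (Fin (k + 1)) (Fin (k + 1)) F₁).det = 1 ∧ ¬ IsSc a ∧ IsSc (a ^ 2)) →
      Cfsg.pPrimeCore 2 ↥(G ⊓ Subgroup.centralizer {uGraph τ S}) = ⊥ ∧
        ¬ Nat.Coprime 2 (Nat.card (Fix (uGraph τ S))) by
    rcases hA.2 with hAs | hAk
    · cases nonempty_fintype F₁
      obtain ⟨α, hα⟩ := FiniteField.exists_nonsquare (F := F₁) (by
        intro hchar
        have := ringChar.charP F₁
        rw [hchar] at this
        exact h20 (CharTwo.two_eq_zero))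
      obtain ⟨P, δ, hδ, hP⟩ := exists_diag h20 hα hAs hA.1 (Fin.last k)
      have hδ0 : δ ≠ 0 := by
        rcases hδ with rfl | rfl
        · exact one_ne_zero
        · rintro rfl; exact hα (IsSquare.zero)
      have hd : ∀ i, Function.update (1 : Fin (k + 1) → F₁) (Fin.last k) δ i ≠ 0 := fun i => by
        rcases eq_or_ne i (Fin.last k) with rfl | hi
        · rwa [Function.update_self]
        · rw [Function.update_of_ne hi]; exact one_ne_zero
      exact H _ _ (desc_cong hj hw (P := P) (c := 1) (B := Matrix.diagonal (Function.update 1 (Fin.last k) δ))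
        (by rw [Units.val_one, one_smul]; exact hP)) (clean_sym h20 hn hd)
        (ulinked_diag h2 (by omega) hj hδ0) (exists_invol_diag (by omega) h20 hd)
    · have halt := isAltM_of_skew h20 hAk
      have heven : ¬ Odd (k + 1) := fun ho => hA.1 (det_eq_zero_of_alt_odd halt (by simpa using ho))
      obtain ⟨m, hm⟩ : ∃ m, k + 1 = m + m := Nat.not_odd_iff_even.mp heven
      let e : Fin (k + 1) ≃ Fin m ⊕ Fin m := (finCongr hm).trans finSumFinEquiv.symm
      obtain ⟨P, c, hP⟩ : Cong (Matrix.reindex e e A) (Matrix.J (Fin m) F₁) := by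
        refine cong_alt ⟨?_, fun i => halt.2 _⟩ ?_
        · rw [Matrix.transpose_reindex, hAk]; rfl
        · rw [Matrix.det_reindex_self]; exact hA.1
      let T : Matrix (Fin (k + 1)) (Fin (k + 1)) F₁ := (Matrix.reindex e e).symm (Matrix.J (Fin m) F₁)
      have hT : Matrix.reindex e e T = Matrix.J (Fin m) F₁ := Equiv.apply_symm_apply _ _
      have hP' : (((glReindex F₁ e).symm P : GL (Fin (k + 1)) F₁) : Matrix (Fin (k + 1)) (Fin (k + 1)) F₁)ᵀ * A *
          (((glReindex F₁ e).symm P : GL (Fin (k + 1)) F₁) : Matrix (Fin (k + 1)) (Fin (k + 1)) F₁) = (c : F₁) • T := by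
        refine (Matrix.reindex e e).injective ?_
        rw [GraphInv.reindex_mul, GraphInv.reindex_mul, ← Matrix.transpose_reindex, GraphInv.reindex_smul, hT,
          show Matrix.reindex e e (((glReindex F₁ e).symm P : GL (Fin (k + 1)) F₁) :
            Matrix (Fin (k + 1)) (Fin (k + 1)) F₁) = P from congrArg Units.val ((glReindex F₁ e).apply_symm_apply P)]
        exact hP
      exact H _ _ (desc_cong hj hw hP')
        (Clean.of_equiv (glReindex F₁ e) (reindex_uGrp e hT) (isSc_reindex e) (clean_J h20 (by omega)))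
        (ulinked_alt (by omega) hj e hT) (exists_invol_alt (by omega) e hT)
  intro T v hv hclean hlink ⟨a, ha, hdet, hns, hsq⟩
  refine ⟨core_eq_bot (CfsgLib.AutPSU.conj_injective hF hn) G hinn _ (graph_core_fix hF hσ hj hv hn hclean)
    fun y _ hy ho => graph_stab hF hσ hj hv hn h32 hlink y hy ho, fun hc => ?_⟩
  exact absurd (Nat.eq_one_of_dvd_coprimes hc dvd_rfl (two_dvd_fix hF hσ hj hv hn ha hdet hns hsq)) (by norm_num)

end CfsgLib.LocalBal
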