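import Cfsg.Agent.AutPSp.Classes
import Cfsg.Agent.AutPSp.GraphClassify
import Cfsg.Agent.Classical.SymplecticSimple
import Cfsg.Agent.Quad.HeartCases
import Cfsg.Agent.LocalBal.Core
import Cfsg.Agent.LocalBal.Field

/-!
Local balance at a field automorphism of `PSp_{2m}`.
-/

set_option autoImplicit false
set_option linter.unusedSectionVars false

open Matrix

namespace CfsgLib.LocalBal

open CfsgLib.Symp CfsgLib.AutPSp

variable {F : Type*} [Field F] [Finite F] {m : ℕ} [NeZero m] (σ : RingAut F)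

/-- The standard field automorphism. -/
abbrev phiSp : MulAut (Cfsg.PSp m F) := spAut (1 : ↥(Cfsg.GSp m F)) σ

/-- Symplectic matrices over the fixed field. -/
def spFixed : Subgroup (Matrix.symplecticGroup (Fin m) F) :=
  MonoidHom.eqLocus (spEquiv (1 : ↥(Cfsg.GSp m F)) σ).toMonoidHom (MonoidHom.id _)

/-- Their image in `PSp`. -/
def subSp : Subgroup (Cfsg.PSp m F) := (spFixed σ).map (QuotientGroup.mk' _)

theorem coe_spFun_one (s : Matrix.symplecticGroup (Fin m) F) :
    (spFun (1 : ↥(Cfsg.GSp m F)) σ s : Matrix (Fin m ⊕ Fin m) (Fin m ⊕ Fin m) F) =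
      (s : Matrix (Fin m ⊕ Fin m) (Fin m ⊕ Fin m) F).map σ := by
  rw [coe_spFun]
  simp

theorem mem_spFixed {s : Matrix.symplecticGroup (Fin m) F} : s ∈ spFixed σ ↔
    (s : Matrix (Fin m ⊕ Fin m) (Fin m ⊕ Fin m) F).map σ = s := by
  rw [← coe_spFun_one]
  exact Subtype.ext_iff

theorem subSp_le : subSp σ ≤ Fix (phiSp (m := m) σ) := by
  rintro _ ⟨s, hs, rfl⟩
  rw [mem_Fix, QuotientGroup.mk'_apply, spAut_mk]
  exact congrArg _ hs

theorem exists_center {z : Cfsg.PSp m F} (hz : z ∈ Fix (phiSp (m := m) σ)) :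
    ∃ t, z = QuotientGroup.mk t ∧ ∃ c ∈ Subgroup.center (Matrix.symplecticGroup (Fin m) F),
      spEquiv (1 : ↥(Cfsg.GSp m F)) σ t = t * c := by
  obtain ⟨t, rfl⟩ := QuotientGroup.mk_surjective z
  rw [mem_Fix, spAut_mk] at hz
  refine ⟨t, rfl, _, QuotientGroup.eq.mp hz.symm, ?_⟩
  show spFun _ σ t = _
  rw [mul_inv_cancel_left]

theorem subSp_normal : ∀ z ∈ Fix (phiSp (m := m) σ), ∀ s ∈ subSp σ, z * s * z⁻¹ ∈ subSp σ := by
  intro z hz _ hs
  obtain ⟨s, hs', rfl⟩ := hs
  obtain ⟨t, rfl, c, hc, ht⟩ := exists_center σ hz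
  refine ⟨t * s * t⁻¹, ?_, by simp⟩
  show spEquiv (1 : ↥(Cfsg.GSp m F)) σ (t * s * t⁻¹) = t * s * t⁻¹
  have hs2 : spEquiv (1 : ↥(Cfsg.GSp m F)) σ s = s := hs'
  rw [map_mul, map_mul, map_inv, ht, hs2]
  calc t * c * s * (t * c)⁻¹ = t * (c * s * c⁻¹) * t⁻¹ := by group
    _ = _ := by rw [← Subgroup.mem_center_iff.mp hc s, mul_inv_cancel_right]

theorem sq_mem_subSp {z : Cfsg.PSp m F} (hz : z ∈ Fix (phiSp (m := m) σ)) : z ^ 2 ∈ subSp σ := by
  obtain ⟨t, rfl, c, hc, ht⟩ := exists_center σ hz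
  refine ⟨t ^ 2, ?_, by simp⟩
  show spEquiv (1 : ↥(Cfsg.GSp m F)) σ (t ^ 2) = t ^ 2
  have hc2 := sq_eq_one_of_center hc
  rw [map_pow, ht, (show Commute t c from Subgroup.mem_center_iff.mp hc t).mul_pow, hc2, mul_one]

theorem J_fixed : (⟨Matrix.J (Fin m) F, SymplecticGroup.J_mem _ _⟩ : Matrix.symplecticGroup (Fin m) F) ∈ spFixed σ := by
  rw [mem_spFixed]
  ext a b
  rcases a with a | a <;> rcases b with b | b <;> by_cases h : a = b <;> simp [Matrix.J, h]

theorem two_dvd_subSp : 2 ∣ Nat.card (subSp (m := m) σ) := by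
  set J : Matrix.symplecticGroup (Fin m) F := ⟨Matrix.J (Fin m) F, SymplecticGroup.J_mem _ _⟩
  have hmem : (QuotientGroup.mk J : Cfsg.PSp m F) ∈ subSp σ := ⟨J, J_fixed σ, rfl⟩
  have h2 : (QuotientGroup.mk J : Cfsg.PSp m F) ^ 2 = 1 := by
    rw [← QuotientGroup.mk_pow, QuotientGroup.eq_one_iff, mem_center_iff]
    right
    rw [SubmonoidClass.coe_pow, pow_two, Matrix.J_squared]
  have h1 : (QuotientGroup.mk J : Cfsg.PSp m F) ≠ 1 := by
    rw [ne_eq, QuotientGroup.eq_one_iff, mem_center_iff]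
    have e1 : (Matrix.J (Fin m) F) (Sum.inl 0) (Sum.inr 0) = -1 := by simp [Matrix.J]
    rintro (h | h) <;> · rw [show (J : Matrix _ _ F) = Matrix.J (Fin m) F from rfl] at h
                         rw [h] at e1
                         simp at e1
  have h3 : orderOf (⟨_, hmem⟩ : ↥(subSp (m := m) σ)) = 2 := by
    rw [Subgroup.orderOf_mk]
    exact orderOf_eq_prime h2 h1
  exact h3 ▸ orderOf_dvd_natCard _

theorem fix_ne_bot : Fix (phiSp (m := m) σ) ≠ ⊥ := fun h => by
  have h2 := two_dvd_subSp (m := m) σ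
  rw [show subSp (m := m) σ = ⊥ from le_bot_iff.mp ((subSp_le σ).trans h.le), Subgroup.card_bot] at h2
  exact absurd h2 (by decide)

/-- Base change from the fixed field. -/
noncomputable def fromFixed : Matrix.symplecticGroup (Fin m) (CfsgLib.AutPSL.fixField σ) →* Matrix.symplecticGroup (Fin m) F where
  toFun s := ⟨(s : Matrix (Fin m ⊕ Fin m) (Fin m ⊕ Fin m) (CfsgLib.AutPSL.fixField σ)).map (CfsgLib.AutPSL.fixField σ).subtype, by
    rw [SymplecticGroup.mem_iff, ← map_J (CfsgLib.AutPSL.fixField σ).subtype, ← Matrix.transpose_map, ← Matrix.map_mul,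
      ← Matrix.map_mul, SymplecticGroup.mem_iff.mp s.2]⟩
  map_one' := Subtype.ext (Matrix.map_one _ (map_zero _) (map_one _))
  map_mul' _ _ := Subtype.ext (Matrix.map_mul)

theorem range_fromFixed : (fromFixed (m := m) σ).range = spFixed σ := by
  set K := CfsgLib.AutPSL.fixField σ
  ext s
  constructor
  · rintro ⟨t, rfl⟩
    rw [mem_spFixed]
    ext a b
    exact (CfsgLib.AutPSL.mem_fixField σ).mp ((t : Matrix (Fin m ⊕ Fin m) (Fin m ⊕ Fin m) K) a b).2
  · intro hs
    rw [mem_spFixed] at hs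
    let M : Matrix (Fin m ⊕ Fin m) (Fin m ⊕ Fin m) K := Matrix.of fun a b =>
      ⟨(s : Matrix (Fin m ⊕ Fin m) (Fin m ⊕ Fin m) F) a b,
        (CfsgLib.AutPSL.mem_fixField σ).mpr (congrFun (congrFun hs a) b)⟩
    have hM : M.map K.subtype = (s : Matrix (Fin m ⊕ Fin m) (Fin m ⊕ Fin m) F) := rfl
    refine ⟨⟨M, ?_⟩, Subtype.ext hM⟩
    rw [SymplecticGroup.mem_iff]
    apply Matrix.map_injective K.subtype_injective
    show (M * Matrix.J (Fin m) K * Mᵀ).map K.subtype = (Matrix.J (Fin m) K).map K.subtype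
    rw [Matrix.map_mul, Matrix.map_mul, Matrix.transpose_map, map_J, hM]
    exact SymplecticGroup.mem_iff.mp s.2

theorem fromFixed_injective : Function.Injective (fromFixed (m := m) σ) := fun _ _ h =>
  Subtype.ext (Matrix.map_injective (CfsgLib.AutPSL.fixField σ).subtype_injective (congrArg Subtype.val h))

theorem nonempty_subSp_equiv :
    Nonempty (Cfsg.PSp m (CfsgLib.AutPSL.fixField σ) ≃* ↥(subSp (m := m) σ)) := by
  set K := CfsgLib.AutPSL.fixField σ
  let π : Matrix.symplecticGroup (Fin m) K →* Cfsg.PSp m F := (QuotientGroup.mk' _).comp (fromFixed σ)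
  have hr : π.range = subSp σ := by rw [MonoidHom.range_comp, range_fromFixed]; rfl
  have hk : π.ker = Subgroup.center (Matrix.symplecticGroup (Fin m) K) := by
    ext s
    rw [MonoidHom.mem_ker]
    show (QuotientGroup.mk (fromFixed σ s) : Cfsg.PSp m F) = 1 ↔ _
    rw [QuotientGroup.eq_one_iff, mem_center_iff, mem_center_iff]
    have hinj := Matrix.map_injective (m := Fin m ⊕ Fin m) (n := Fin m ⊕ Fin m) K.subtype_injective
    have h1 : (1 : Matrix (Fin m ⊕ Fin m) (Fin m ⊕ Fin m) K).map K.subtype = 1 := Matrix.map_one _ (map_zero _) (map_one _)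
    have h2 : (-1 : Matrix (Fin m ⊕ Fin m) (Fin m ⊕ Fin m) K).map K.subtype = -1 := by
      rw [Matrix.map_neg _ (map_neg _), h1]
    show ((s : Matrix (Fin m ⊕ Fin m) (Fin m ⊕ Fin m) K).map K.subtype = 1 ∨
      (s : Matrix (Fin m ⊕ Fin m) (Fin m ⊕ Fin m) K).map K.subtype = -1) ↔ _
    constructor
    · rintro (h | h)
      · exact Or.inl (hinj (h.trans h1.symm))
      · exact Or.inr (hinj (h.trans h2.symm))
    · rintro (h | h)
      · exact Or.inl (by rw [h, h1])
      · exact Or.inr (by rw [h, h2])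
  exact ⟨(QuotientGroup.quotientMulEquivOfEq hk).symm.trans
    ((QuotientGroup.quotientKerEquivRange π).trans (MulEquiv.subgroupCongr hr))⟩

/-- The fixed points have no normal `p'`-subgroups when `p` divides their order. -/
theorem subSp_normal_bot (hm : 2 ≤ m) {p : ℕ} (hp : p.Prime) (hp2 : p = 2 → (2 : F) ≠ 0)
    (hd : p ∣ Nat.card (Fix (phiSp (m := m) σ))) (N : Subgroup ↥(subSp (m := m) σ)) (hN : N.Normal)
    (hc : (Nat.card N).Coprime p) : N = ⊥ := by
  have hdS : p ∣ Nat.card (subSp (m := m) σ) := by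
    rcases hp.eq_two_or_odd' with rfl | ho
    · exact two_dvd_subSp σ
    · have := Fact.mk hp
      obtain ⟨z, hz⟩ := exists_prime_orderOf_dvd_card' p hd
      have h1 : (z : Cfsg.PSp m F) ∈ subSp σ := by
        obtain ⟨i, hi⟩ := ho
        have h2 : (z : Cfsg.PSp m F) = ((z : Cfsg.PSp m F) ^ 2) ^ (i + 1) := by
          rw [← pow_mul, show 2 * (i + 1) = p + 1 by omega, pow_succ, ← hz, ← Subgroup.orderOf_coe,
            pow_orderOf_eq_one, one_mul]
        rw [h2]
        exact pow_mem (sq_mem_subSp σ z.2) _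
      rw [← hz, ← Subgroup.orderOf_coe, ← Subgroup.orderOf_mk _ h1]
      exact orderOf_dvd_natCard _
  obtain ⟨e⟩ := nonempty_subSp_equiv (m := m) σ
  set K := CfsgLib.AutPSL.fixField σ
  cases nonempty_fintype K
  have hN' : (N.comap e.toMonoidHom).Normal := hN.comap _
  have hcard : Nat.card (N.comap e.toMonoidHom) = Nat.card N := by
    rw [← Subgroup.card_map_of_injective (K := N.comap e.toMonoidHom) (f := e.toMonoidHom) e.injective,
      Subgroup.map_comap_eq_self_of_surjective e.surjective]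
  have hcardG : Nat.card (Cfsg.PSp m K) = Nat.card (subSp (m := m) σ) := Nat.card_congr e.toEquiv
  suffices h : N.comap e.toMonoidHom = ⊥ by
    rw [← Subgroup.map_comap_eq_self_of_surjective (f := e.toMonoidHom) e.surjective N, h, Subgroup.map_bot]
  by_cases hsimp : m = 2 → 3 ≤ Fintype.card K
  · haveI : Nonempty (Fin m) := ⟨0⟩
    have hS : IsSimpleGroup (Cfsg.PSp m K) := by
      refine isSimpleGroup_quot (cond_of_finite m ?_)
      rw [Nat.card_eq_fintype_card]
      rcases Nat.lt_or_ge 2 m with h2 | h2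
      · exact Or.inl h2
      · exact Or.inr (Or.inl ⟨by omega, hsimp (by omega)⟩)
    rcases hN'.eq_bot_or_eq_top with h | h
    · exact h
    · exfalso
      rw [h, Subgroup.card_top, hcardG] at hcard
      exact hp.coprime_iff_not_dvd.mp hc.symm (hcard ▸ hdS)
  · push Not at hsimp
    obtain ⟨rfl, h3⟩ := hsimp
    have hK : Fintype.card K = 2 := by
      have := Fintype.one_lt_card (α := K)
      omega
    obtain ⟨e6⟩ := CfsgLib.Quad.Heart.nonempty_sp_four (F := K) hK
    have hchar : CharP K 2 := charP_of_card_eq_prime hK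
    have hz : Subgroup.center (Matrix.symplecticGroup (Fin 2) K) = ⊥ := by
      rw [eq_bot_iff]
      intro g hg
      exact Subgroup.mem_bot.mpr (mk_injective_two (by rw [(QuotientGroup.eq_one_iff g).mpr hg, QuotientGroup.mk_one]))
    let f : Equiv.Perm (Fin 6) ≃* Cfsg.PSp 2 K :=
      e6.symm.trans ((QuotientGroup.quotientBot.symm).trans (QuotientGroup.quotientMulEquivOfEq hz.symm))
    have hpo : p ≠ 2 := fun h => hp2 h (by
      have : ((2 : K) : F) = 0 := by rw [CharTwo.two_eq_zero]; rfl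
      exact this)
    have h := perm_normal_bot (α := Fin 6) (by simp) hp hpo (by rw [Nat.card_congr f.toEquiv, hcardG]; exact hdS)
      ((N.comap e.toMonoidHom).comap f.toMonoidHom) (hN'.comap _)
      (Nat.Coprime.coprime_dvd_left (Subgroup.card_comap_dvd_of_injective _ _ f.injective) (hcard ▸ hc))
    rw [← Subgroup.map_comap_eq_self_of_surjective (f := f.toMonoidHom) f.surjective (N.comap e.toMonoidHom), h,
      Subgroup.map_bot]

theorem spFixed_tv {v : Fin m ⊕ Fin m → F} (hv : (fun i => σ (v i)) = v) {c : F} (hc : σ c = c) :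
    tv v c ∈ spFixed σ := by
  show spFun (1 : ↥(Cfsg.GSp m F)) σ (tv v c) = tv v c
  rw [spFun_tv (1 : ↥(Cfsg.GSp m F)) σ 1 (fun u w => by simp), hc, inv_one, Units.val_one, mul_one, hv]
  simp

theorem tv_ne_offdiag (w : Fin 2 ⊕ Fin 2 → F) (c : F) (h : ((!![0, 1; 1, 0] : Matrix (Fin 2) (Fin 2) F))ᵀ = !![0, 1; 1, 0]) :
    tv w c ≠ uni (!![0, 1; 1, 0] : Matrix (Fin 2) (Fin 2) F) h := by
  intro e
  have h10 := congrArg (fun k : Matrix.symplecticGroup (Fin 2) F => k • (fV 0 : Fin 2 ⊕ Fin 2 → F)) e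
  have h11 := congrArg (fun k : Matrix.symplecticGroup (Fin 2) F => k • (fV 1 : Fin 2 ⊕ Fin 2 → F)) e
  simp only [tv_smul] at h10 h11
  have a := congrFun h10 (Sum.inl 1)
  have b := congrFun h11 (Sum.inl 0)
  have a' := congrFun h10 (Sum.inl 0)
  generalize c * form (fV 0 : Fin 2 ⊕ Fin 2 → F) w = r at a a'
  generalize c * form (fV 1 : Fin 2 ⊕ Fin 2 → F) w = t at b
  simp [uni, Matrix.mulVec, fV, dotProduct, Fintype.sum_sum_type, Pi.single_apply] at a a' b
  rcases a' with h0 | h0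
  · simp [h0] at a
  · simp [h0] at b

/-- Only powers of `φ` fix the fixed-field subgroup pointwise. -/
theorem mem_zpowers_of_fix_subSp (hm : 2 ≤ m) (y : MulAut (Cfsg.PSp m F)) (hy : ∀ s ∈ subSp σ, y s = s) :
    y ∈ Subgroup.zpowers (phiSp (m := m) σ) := by
  have hsingle : ∀ k : Fin m ⊕ Fin m, ∀ c, σ c = c →
      (fun i => σ ((Pi.single k c : Fin m ⊕ Fin m → F) i)) = Pi.single k c := fun k c hc => by
    funext i; rcases eq_or_ne i k with rfl | h <;> simp [*]
  have hfixtv : ∀ v : Fin m ⊕ Fin m → F, (fun i => σ (v i)) = v → ∀ c, σ c = c →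
      y (QuotientGroup.mk (tv v c)) = QuotientGroup.mk (tv v c) := fun v hv c hc =>
    hy _ ⟨_, spFixed_tv σ hv hc, rfl⟩
  have hsemi : ∃ (g : ↥(Cfsg.GSp m F)) (ρ : RingAut F), y = spAut g ρ := by
    by_cases h2 : (2 : F) ≠ 0 ∨ 3 ≤ m
    · exact exists_semi hm h2 y
    push Not at h2
    obtain rfl : m = 2 := by omega
    haveI : CharP F 2 := CharTwo.of_one_ne_zero_of_two_eq_zero one_ne_zero h2.1
    obtain ⟨g, ρ, h | h⟩ := exists_semi_or_tau y
    · exact ⟨g, ρ, h⟩
    exfalso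
    have hz := hfixtv (eV 0) (hsingle _ 1 (map_one σ)) 1 (map_one σ)
    set z0 : Cfsg.PSp 2 F := QuotientGroup.mk (tv (eV 0) 1) with hz0
    have ht : (tau : MulAut (Cfsg.PSp 2 F)) (tau z0) = z0 := by
      rw [← MulAut.mul_apply, tau_sq, hz0, spAut_tv (1 : ↥(Cfsg.GSp 2 F)) (frob F) 1 (fun u w => by simp)]
      simp only [OneMemClass.coe_one, Units.val_one, Matrix.one_mulVec, eV, map_single_one, map_one, inv_one, mul_one]
    rw [h, MulAut.mul_apply] at hz
    have hs : spAut g ρ z0 = tau z0 := tau.injective (hz.trans ht.symm)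
    obtain ⟨μ, hμ⟩ := mem_GSp_iff.mp g.2
    rw [hz0, tau_mk_tv, spAut_tv g ρ μ hμ] at hs
    exact tv_ne_offdiag _ _ _ (mk_injective_two hs)
  obtain ⟨g, ρ, rfl⟩ := hsemi
  obtain ⟨μ, hμ⟩ := mem_GSp_iff.mp g.2
  set G := ((g : GL (Fin m ⊕ Fin m) F) : Matrix (Fin m ⊕ Fin m) (Fin m ⊕ Fin m) F)
  have hline : ∀ v : Fin m ⊕ Fin m → F, v ≠ 0 → (fun i => σ (v i)) = v → (fun i => ρ (v i)) = v →
      ∃ a : F, G *ᵥ v = a • v := by
    intro v hv hσv hρv
    have h := hfixtv v hσv 1 (map_one σ)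
    rw [spAut_tv g ρ μ hμ, hρv, map_one, one_mul] at h
    have hne : G *ᵥ v ≠ 0 := fun e => hv (by
      have hinv : ((((g : GL (Fin m ⊕ Fin m) F))⁻¹ : GL (Fin m ⊕ Fin m) F) : Matrix (Fin m ⊕ Fin m) (Fin m ⊕ Fin m) F) *ᵥ (G *ᵥ v) = v := by
        rw [Matrix.mulVec_mulVec, ← Units.val_mul, inv_mul_cancel, Units.val_one, Matrix.one_mulVec]
      rw [← hinv, e, Matrix.mulVec_zero])
    obtain ⟨c, hc, -⟩ := mk_tv_eq hne hv (μ⁻¹).ne_zero h
    exact ⟨c, hc⟩
  have hone : ∀ k : Fin m ⊕ Fin m, ∃ a : F, G *ᵥ Pi.single k 1 = a • Pi.single k 1 := fun k =>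
    hline _ (Pi.single_ne_zero_iff.mpr one_ne_zero) (hsingle k 1 (map_one σ)) (map_single_one ρ k)
  choose a ha using hone
  have heq : ∀ k l, a k = a l := by
    intro k l
    rcases eq_or_ne k l with rfl | hkl
    · rfl
    obtain ⟨b, hb⟩ := hline (Pi.single k 1 + Pi.single l 1)
      (fun e => by have := congrFun e k; simp [hkl] at this)
      (by funext i; rw [Pi.add_apply, map_add σ, congrFun (hsingle k 1 (map_one σ)) i, congrFun (hsingle l 1 (map_one σ)) i])
      (by funext i; rw [Pi.add_apply, map_add ρ, congrFun (map_single_one ρ k) i, congrFun (map_single_one ρ l) i])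
    rw [Matrix.mulVec_add, ha, ha] at hb
    have h1 := congrFun hb k
    have h2 := congrFun hb l
    simp [hkl, hkl.symm] at h1 h2
    rw [h1, h2]
  have hG : G = a (Sum.inl 0) • 1 := by
    ext i j
    have := congrFun (ha j) i
    rw [heq j (Sum.inl 0), Matrix.mulVec_single_one] at this
    rcases eq_or_ne i j with rfl | h <;> simp_all
  have ha0 : a (Sum.inl 0) ≠ 0 := fun e =>
    Matrix.GeneralLinearGroup.det_ne_zero (g : GL (Fin m ⊕ Fin m) F) (by
      show G.det = 0
      rw [hG, e, zero_smul, Matrix.det_zero])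
  have hgs : g = scalarG m F (Units.mk0 _ ha0) * 1 := by
    rw [mul_one]
    refine Subtype.ext (Units.ext (hG.trans ?_))
    rw [coe_scalarG, Units.val_mk0]
  rw [hgs, spAut_scalar_mul] at hfixtv ⊢
  have hρ : ∀ c ∈ CfsgLib.AutPSL.fixField σ, ρ c = c := by
    intro c hc
    have h := hfixtv (Pi.single (Sum.inl 0) 1) (hsingle _ 1 (map_one σ)) c ((CfsgLib.AutPSL.mem_fixField σ).mp hc)
    rw [spAut_tv (1 : ↥(Cfsg.GSp m F)) ρ 1 (fun u w => by simp), map_single_one, inv_one, Units.val_one, mul_one] at h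
    simp only [OneMemClass.coe_one, Units.val_one, Matrix.one_mulVec] at h
    exact mk_tv_injective (Pi.single_ne_zero_iff.mpr one_ne_zero) h
  obtain ⟨i, rfl⟩ := mem_zpowers_of_fix hρ
  refine ⟨i, ?_⟩
  have hpow : ∀ k : ℕ, phiSp (m := m) σ ^ k = spAut (1 : ↥(Cfsg.GSp m F)) (σ ^ k) := fun k => by
    induction k with
    | zero => exact spAut_one.symm
    | succ k ih => rw [pow_succ, ih, spAut_mul, map_one, mul_one, pow_succ]
  cases i with
  | ofNat k => simpa using hpow k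
  | negSucc k =>
    show phiSp (m := m) σ ^ Int.negSucc k = _
    rw [zpow_negSucc, hpow]
    show _ = spAut 1 (σ ^ Int.negSucc k)
    rw [zpow_negSucc]
    refine inv_eq_of_mul_eq_one_right ?_
    rw [spAut_mul, map_one, mul_one, mul_inv_cancel]
    exact spAut_one

end CfsgLib.LocalBal
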