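import Mathlib

/-!
Isometry groups of sesquilinear matrices, and subgroups of odd order modulo scalars.
-/

set_option autoImplicit false
set_option linter.unusedSectionVars false

open Matrix

namespace CfsgLib.LocalBal

variable {F : Type*} [Field F] {ι κ : Type} [Fintype ι] [DecidableEq ι] [Fintype κ] [DecidableEq κ]

/-- A scalar matrix. -/
def IsSc (a : GL ι F) : Prop := ∃ c : F, (a : Matrix ι ι F) = c • 1

theorem isSc_one : IsSc (1 : GL ι F) := ⟨1, by simp⟩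

theorem IsSc.mul {a b : GL ι F} (ha : IsSc a) (hb : IsSc b) : IsSc (a * b) := by
  obtain ⟨c, hc⟩ := ha
  obtain ⟨d, hd⟩ := hb
  exact ⟨c * d, by rw [Units.val_mul, hc, hd, smul_mul_assoc, one_mul, smul_smul]⟩

theorem IsSc.commute {a : GL ι F} (ha : IsSc a) (b : GL ι F) : Commute a b := by
  obtain ⟨c, hc⟩ := ha
  refine Units.ext ?_
  rw [Units.val_mul, Units.val_mul, hc, smul_mul_assoc, mul_smul_comm, one_mul, mul_one]

theorem IsSc.inv {a : GL ι F} (ha : IsSc a) : IsSc a⁻¹ := by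
  obtain ⟨c, hc⟩ := ha
  rcases isEmpty_or_nonempty ι with h | h
  · exact ⟨1, Subsingleton.elim _ _⟩
  have hc0 : c ≠ 0 := fun e => by
    have h1 := a.mul_inv
    rw [hc, e, zero_smul, zero_mul] at h1
    exact zero_ne_one h1
  refine ⟨c⁻¹, ?_⟩
  have h1 := a.mul_inv
  rw [hc, smul_mul_assoc, one_mul] at h1
  calc ((a⁻¹ : GL ι F) : Matrix ι ι F) = c⁻¹ • (c • ((a⁻¹ : GL ι F) : Matrix ι ι F)) := by
        rw [smul_smul, inv_mul_cancel₀ hc0, one_smul]
    _ = c⁻¹ • 1 := by rw [h1]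

/-- Every element has an odd power that is scalar. -/
def OddSc (L : Subgroup (GL ι F)) : Prop := ∀ a ∈ L, ∃ k, Odd k ∧ IsSc (a ^ k)

theorem commute_of_sq {L : Subgroup (GL ι F)} (hL : OddSc L) {a t : GL ι F} (ha : a ∈ L)
    (h : Commute (a ^ 2) t) : Commute a t := by
  obtain ⟨k, ⟨j, rfl⟩, hk⟩ := hL a ha
  have e : a = (a ^ (2 * j + 1))⁻¹ * (a ^ 2) ^ (j + 1) := by
    rw [← pow_mul, eq_inv_mul_iff_mul_eq, ← pow_succ]
    congr 1
  rw [e]
  exact ((hk.commute t).inv_left).mul_left (h.pow_left _)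

theorem isSc_of_sq {L : Subgroup (GL ι F)} (hL : OddSc L) {a : GL ι F} (ha : a ∈ L)
    (h : IsSc (a ^ 2)) : IsSc a := by
  obtain ⟨k, ⟨j, rfl⟩, hk⟩ := hL a ha
  have e : a = (a ^ (2 * j + 1))⁻¹ * (a ^ 2) ^ (j + 1) := by
    rw [← pow_mul, eq_inv_mul_iff_mul_eq, ← pow_succ]
    congr 1
  have hp : ∀ i, IsSc ((a ^ 2) ^ i) := fun i => by
    induction i with
    | zero => rw [pow_zero]; exact isSc_one
    | succ i ih => rw [pow_succ]; exact ih.mul h
  rw [e]
  exact hk.inv.mul (hp _)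

/-- The isometries of the sesquilinear form with matrix `S`. -/
def uGrp (σ : RingAut F) (S : Matrix ι ι F) : Subgroup (GL ι F) where
  carrier := {g | ((g : Matrix ι ι F).map σ)ᵀ * S * (g : Matrix ι ι F) = S}
  one_mem' := by simp [Matrix.map_one]
  mul_mem' {a b} ha hb := by
    show (((a * b : GL ι F) : Matrix ι ι F).map σ)ᵀ * S * ((a * b : GL ι F) : Matrix ι ι F) = S
    rw [Units.val_mul, Matrix.map_mul, transpose_mul]
    calc _ = ((b : Matrix ι ι F).map σ)ᵀ * (((a : Matrix ι ι F).map σ)ᵀ * S * (a : Matrix ι ι F)) *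
          (b : Matrix ι ι F) := by simp only [mul_assoc]
      _ = S := by rw [ha]; exact hb
  inv_mem' {a} ha := by
    show (((a⁻¹ : GL ι F) : Matrix ι ι F).map σ)ᵀ * S * ((a⁻¹ : GL ι F) : Matrix ι ι F) = S
    conv_lhs => rw [← (show ((a : Matrix ι ι F).map σ)ᵀ * S * (a : Matrix ι ι F) = S from ha)]
    rw [← mul_assoc, ← mul_assoc, ← transpose_mul, ← Matrix.map_mul, mul_assoc, a.mul_inv]
    simp [Matrix.map_one]

theorem mem_uGrp {σ : RingAut F} {S : Matrix ι ι F} {g : GL ι F} :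
    g ∈ uGrp σ S ↔ ((g : Matrix ι ι F).map σ)ᵀ * S * (g : Matrix ι ι F) = S := Iff.rfl

/-- A normal subgroup of the isometry group that is odd modulo scalars is scalar. -/
def Clean (σ : RingAut F) (S : Matrix ι ι F) : Prop :=
  ∀ L : Subgroup (GL ι F), L ≤ uGrp σ S → (∀ g ∈ uGrp σ S, ∀ a ∈ L, g * a * g⁻¹ ∈ L) → OddSc L →
    ∀ a ∈ L, IsSc a

theorem Clean.of_equiv {σ : RingAut F} {S : Matrix ι ι F} {T : Matrix κ κ F} (φ : GL ι F ≃* GL κ F)
    (hmem : ∀ g, φ g ∈ uGrp σ T ↔ g ∈ uGrp σ S) (hsc : ∀ g, IsSc (φ g) ↔ IsSc g) (hT : Clean σ T) :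
    Clean σ S := by
  intro L hle hn ho a ha
  refine (hsc a).mp (hT (L.map φ.toMonoidHom) ?_ ?_ ?_ _ ⟨a, ha, rfl⟩)
  · rintro _ ⟨b, hb, rfl⟩
    exact (hmem b).mpr (hle hb)
  · intro g hg
    rintro _ ⟨b, hb, rfl⟩
    refine ⟨φ.symm g * b * (φ.symm g)⁻¹, hn _ ((hmem _).mp (by rwa [φ.apply_symm_apply])) b hb, ?_⟩
    simp
  · rintro _ ⟨b, hb, rfl⟩
    obtain ⟨k, hk, hb'⟩ := ho b hb
    exact ⟨k, hk, by rw [MulEquiv.coe_toMonoidHom, ← map_pow]; exact (hsc _).mpr hb'⟩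

/-- Congruent matrices. -/
theorem Clean.of_cong {σ : RingAut F} {S T : Matrix ι ι F} (P : GL ι F) {c : F} (hc : c ≠ 0)
    (h : ((P : Matrix ι ι F).map σ)ᵀ * S * (P : Matrix ι ι F) = c • T) (hT : Clean σ T) : Clean σ S := by
  refine hT.of_equiv (MulAut.conj P⁻¹) (fun g => ?_) (fun g => ⟨fun hg => ?_, fun hg => ?_⟩)
  · have hP : IsUnit ((P : Matrix ι ι F).map σ)ᵀ := by
      rw [Matrix.isUnit_transpose]
      exact P.isUnit.map (σ : F →+* F).mapMatrix
    obtain ⟨U, hU⟩ := hP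
    have e : c • ((((MulAut.conj P⁻¹ g : GL ι F) : Matrix ι ι F).map σ)ᵀ * T *
          ((MulAut.conj P⁻¹ g : GL ι F) : Matrix ι ι F)) =
        ((P : Matrix ι ι F).map σ)ᵀ * (((g : Matrix ι ι F).map σ)ᵀ * S * (g : Matrix ι ι F)) *
          (P : Matrix ι ι F) := by
      rw [MulAut.conj_apply, inv_inv, ← smul_mul_assoc, ← mul_smul_comm, ← h, Units.val_mul, Units.val_mul,
        Matrix.map_mul, Matrix.map_mul, transpose_mul, transpose_mul]
      have h1 : ∀ X : Matrix ι ι F, (((P⁻¹ : GL ι F) : Matrix ι ι F).map σ)ᵀ *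
          (((P : Matrix ι ι F).map σ)ᵀ * X) = X := fun X => by
        rw [← mul_assoc, ← transpose_mul, ← Matrix.map_mul, P.mul_inv]
        simp [Matrix.map_one]
      simp only [mul_assoc, h1, P.mul_inv_cancel_left]
    rw [mem_uGrp, mem_uGrp]
    constructor
    · intro hg
      rw [hg, ← h, ← hU] at e
      exact (U.mul_right_inj.mp (P.mul_left_inj.mp e)).symm
    · intro hg
      rw [hg, h] at e
      exact smul_right_injective _ hc e
  · have e : g = P * MulAut.conj P⁻¹ g * P⁻¹ := by simp [mul_assoc]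
    rw [e, ((hg.commute P).symm.eq), mul_inv_cancel_right]
    exact hg
  · rw [MulAut.conj_apply, inv_inv, ← (hg.commute P⁻¹).eq, inv_mul_cancel_right]
    exact hg

end CfsgLib.LocalBal
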