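import Cfsg.Agent.LocalBal.InvCore
import Mathlib.Algebra.QuadraticAlgebra.Basic

/-!
The quadratic space over the quadratic extension attached to a similitude squaring to a non-square scalar.
-/

set_option autoImplicit false
set_option linter.unusedSectionVars false
set_option linter.style.haveILetI false

namespace CfsgLib.LocalBal

open QuadraticMap CfsgLib.Forms CfsgLib.Quad CfsgLib.AutPOm

variable {F : Type*} [Field F] [Finite F] {ι : Type} [Fintype ι] [DecidableEq ι] {Q : QuadraticForm F (ι → F)}

/-- A similitude `S` whose square is the non-square scalar `u`, with its quadratic field acting. -/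
structure SqrtData (u : F) [Module (QuadraticAlgebra F u 0) (ι → F)] (S : Semi Q) : Prop where
  ω_smul : ∀ v : ι → F, (QuadraticAlgebra.omega : QuadraticAlgebra F u 0) • v = S.T v
  σ_refl : S.σ = RingEquiv.refl F
  c_eq : (S.c : F) = u
  ne_zero : u ≠ 0
  two : (2 : F) ≠ 0

variable {u : F} [Fact (∀ r : F, r ^ 2 ≠ u + 0 * r)] [Module (QuadraticAlgebra F u 0) (ι → F)] [IsScalarTower F (QuadraticAlgebra F u 0) (ι → F)]
  {S : Semi Q}

local notation "EE" => QuadraticAlgebra F u 0

theorem SqrtData.smul_eq (D : SqrtData u S) (a : EE) (v : ι → F) : a • v = a.re • v + a.im • S.T v := by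
  conv_lhs => rw [show a = algebraMap F EE a.re + a.im • (QuadraticAlgebra.omega : EE) from by ext <;> simp]
  rw [add_smul, IsScalarTower.algebraMap_smul, smul_assoc, D.ω_smul]

theorem SqrtData.smul_T (D : SqrtData u S) (t : F) (v : ι → F) : S.T (t • v) = t • S.T v := by
  rw [S.smul, D.σ_refl]
  rfl

theorem SqrtData.TT (D : SqrtData u S) (v : ι → F) : S.T (S.T v) = u • v := by
  rw [← D.ω_smul, ← D.ω_smul, ← mul_smul, QuadraticAlgebra.omega_mul_omega_eq_add, zero_smul, add_zero, smul_assoc,
    one_smul]

theorem SqrtData.quad_T (D : SqrtData u S) (v : ι → F) : Q (S.T v) = u * Q v := by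
  rw [S.quad, D.σ_refl, D.c_eq]
  rfl

theorem SqrtData.polar_TT (D : SqrtData u S) (v w : ι → F) : polar Q (S.T v) (S.T w) = u * polar Q v w := by
  rw [S.polar_map, D.σ_refl, D.c_eq]
  rfl

theorem SqrtData.polar_T_left (D : SqrtData u S) (v w : ι → F) : polar Q (S.T v) w = polar Q v (S.T w) := by
  have h := D.polar_TT v (S.T w)
  rw [D.TT, polar_smul_right, smul_eq_mul] at h
  exact mul_left_cancel₀ D.ne_zero h

/-- The form over the quadratic extension. -/
def qfun (S : Semi Q) (x : ι → F) : EE := ⟨Q x, (2 * u)⁻¹ * polar Q x (S.T x)⟩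

theorem SqrtData.polar_qfun (D : SqrtData u S) (x y : ι → F) :
    polar (qfun (u := u) S) x y = ⟨polar Q x y, u⁻¹ * polar Q x (S.T y)⟩ := by
  ext
  · simp [polar, qfun]
  · have h : polar Q y (S.T x) = polar Q x (S.T y) := by rw [polar_comm, D.polar_T_left]
    simp only [polar, qfun, QuadraticAlgebra.im_sub]
    change (2 * u)⁻¹ * polar Q (x + y) (S.T (x + y)) - (2 * u)⁻¹ * polar Q x (S.T x) -
      (2 * u)⁻¹ * polar Q y (S.T y) = u⁻¹ * polar Q x (S.T y)
    rw [map_add, polar_add_left, polar_add_right, polar_add_right, h]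
    have := D.two
    have := D.ne_zero
    field_simp
    ring

/-- The quadratic form over the quadratic extension. -/
noncomputable def SqrtData.qE (D : SqrtData u S) : QuadraticForm EE (ι → F) :=
  QuadraticMap.ofPolar (qfun S)
    (fun a x => by
      have h1 := D.two
      have h3 := D.ne_zero
      have hP : polar Q (S.T x) x = polar Q x (S.T x) := polar_comm _ _ _
      ext
      · simp only [qfun, smul_eq_mul, QuadraticAlgebra.re_mul, QuadraticAlgebra.im_mul, D.smul_eq, quad_add,
          quad_smul, D.quad_T, polar_smul_left, polar_smul_right]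
        field_simp
        ring
      · simp only [qfun, smul_eq_mul, QuadraticAlgebra.re_mul, QuadraticAlgebra.im_mul, D.smul_eq, map_add,
          D.smul_T, D.TT, polar_add_left, polar_add_right, polar_smul_left, polar_smul_right, hP, D.polar_TT,
          polar_self, nsmul_eq_mul, Nat.cast_ofNat]
        field_simp
        ring)
    (fun x x' y => by
      rw [D.polar_qfun, D.polar_qfun, D.polar_qfun]
      ext <;> simp [polar_add_left, mul_add])
    (fun a x y => by
      rw [D.polar_qfun, D.polar_qfun]
      have h3 := D.ne_zero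
      ext
      · simp only [smul_eq_mul, QuadraticAlgebra.re_mul, D.smul_eq, polar_add_left, polar_smul_left, D.polar_T_left]
        field_simp
      · simp only [smul_eq_mul, QuadraticAlgebra.im_mul, D.smul_eq, polar_add_left, polar_smul_left,
          D.polar_T_left, D.TT, polar_smul_right]
        field_simp
        ring)

theorem SqrtData.qE_apply (D : SqrtData u S) (x : ι → F) :
    D.qE x = ⟨Q x, (2 * u)⁻¹ * polar Q x (S.T x)⟩ := rfl

theorem SqrtData.qE_polar (D : SqrtData u S) (x y : ι → F) :
    polar D.qE x y = ⟨polar Q x y, u⁻¹ * polar Q x (S.T y)⟩ := D.polar_qfun x y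

theorem SqrtData.nondeg (D : SqrtData u S)
    (hQ : (polarBilin Q).Nondegenerate) : (polarBilin D.qE).Nondegenerate := by
  have hrefl : (polarBilin D.qE).IsRefl := fun x y h => by
    rw [polarBilin_apply_apply] at h ⊢
    rwa [polar_comm]
  refine (LinearMap.IsRefl.nondegenerate_iff_separatingLeft hrefl).mpr fun x hx => ?_
  refine hQ.1 x fun y => ?_
  have h := hx y
  rw [polarBilin_apply_apply, D.qE_polar] at h
  exact congrArg QuadraticAlgebra.re h

/-- Isometries of the extended form as isometries. -/
def SqrtData.down (D : SqrtData u S) : oGroup D.qE →* oGroup Q where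
  toFun g := ⟨g.1.restrictScalars F, fun v => congrArg QuadraticAlgebra.re (g.2 v)⟩
  map_one' := rfl
  map_mul' _ _ := rfl

theorem SqrtData.down_injective (D : SqrtData u S) : Function.Injective D.down := fun g h e =>
  Subtype.ext (LinearEquiv.ext fun v => congrArg (fun t : oGroup Q => t.1 v) e)

theorem SqrtData.down_mem (D : SqrtData u S) (g : oGroup D.qE) : D.down g ∈ centI S := by
  rw [mem_centI]
  refine Subtype.ext (LinearEquiv.ext fun v => ?_)
  change S.T (g.1 (S.T.symm v)) = g.1 v
  conv_rhs => rw [← S.T.apply_symm_apply v, ← D.ω_smul, map_smul, D.ω_smul]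

theorem SqrtData.exists_down (D : SqrtData u S) {h : oGroup Q} (hh : h ∈ centI S) : ∃ g, D.down g = h := by
  have hc : ∀ v, h.1 (S.T v) = S.T (h.1 v) := fun v => by
    conv_lhs => rw [← mem_centI S |>.mp hh, Semi.oEquiv_apply, AddEquiv.symm_apply_apply]
  have hl : ∀ (a : EE) v, h.1 (a • v) = a • h.1 v := fun a v => by
    rw [D.smul_eq, D.smul_eq, map_add, map_smul, map_smul, hc]
  refine ⟨⟨{ h.1.toAddEquiv with map_smul' := hl }, fun v => ?_⟩, Subtype.ext (LinearEquiv.ext fun v => rfl)⟩
  change D.qE (h.1 v) = D.qE v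
  rw [D.qE_apply, D.qE_apply, h.2, ← hc, polar_oGroup]

end CfsgLib.LocalBal
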